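import Cfsg.Agent.Lib.Fi24Three.Module

/-!
The centralizer of the element of order three in the centralizer of `z` does not split over `⟨z⟩`.
-/

set_option autoImplicit false
set_option linter.unusedSectionVars false

namespace CfsgLib.Fi24Three

open CfsgLargeExtra

universe u

variable {G : Type u} [Group G] [Finite G]

/-- The centralizer of `z` and `ρ`. -/
def cx (z ρ : G) : Subgroup G := Subgroup.centralizer ({z} : Set G) ⊓ Subgroup.centralizer ({ρ} : Set G)

/-- `M` is perfect modulo the core. -/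
def PerfectMod (z : G) (M : Subgroup G) : Prop := ∀ m ∈ M, ∃ k ∈ ⁅M, M⁆, k⁻¹ * m ∈ coreCent z

theorem mem_cx {z ρ c : G} : c ∈ cx z ρ ↔ c * z = z * c ∧ c * ρ = ρ * c :=
  ⟨fun h => ⟨mem_cent.mp h.1, mem_cent.mp h.2⟩, fun h => ⟨mem_cent.mpr h.1, mem_cent.mpr h.2⟩⟩

theorem comm_mem_derived {H : Subgroup G} {a b : G} (ha : a ∈ H) (hb : b ∈ H) :
    a * b * a⁻¹ * b⁻¹ ∈ ⁅H, H⁆ := by
  rw [← commutatorElement_def]; exact Subgroup.commutator_mem_commutator ha hb

namespace Setup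

variable {z : G} {M : Subgroup G} {ρ : G} (S : Setup z M ρ)
include S

theorem cx_core {c : G} (hc : c ∈ cx z ρ) (hQ : c ∈ coreCent z) : c = 1 ∨ c = z :=
  S.fpf c hQ (Or.inl (conj_eq_iff.mpr (mem_cx.mp hc).2.symm))

theorem cx_le_M : cx z ρ ≤ M := by
  intro c hc
  obtain ⟨hcz, hcρ⟩ := mem_cx.mp hc
  by_contra hcM
  have h := S.invert c hcz hcM
  rw [conj_eq_iff.mpr hcρ] at h
  have hc' : ρ * ρ ∈ cx z ρ := mem_cx.mpr ⟨Commute.mul_left S.rho_z S.rho_z, mul_assoc ρ ρ ρ⟩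
  have h3 : ρ ^ 3 = 1 := by rw [← S.rho_ord, pow_orderOf_eq_one]
  have h4 : (ρ * ρ) * (ρ * ρ) = ρ := by
    calc (ρ * ρ) * (ρ * ρ) = ρ ^ 3 * ρ := by simp [pow_succ, mul_assoc]
      _ = ρ := by rw [h3, one_mul]
  have hρ1 : ρ ≠ 1 := fun e => by have := S.rho_ord; rw [e, orderOf_one] at this; omega
  rcases S.cx_core hc' h with e | e <;> rw [e] at h4
  · exact hρ1 (by rw [← h4, one_mul])
  · exact hρ1 (by rw [← h4, S.zz])

theorem cx_cover {m : G} (hm : m ∈ M) : ∃ c ∈ cx z ρ, c⁻¹ * m ∈ coreCent z := by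
  have hmove : m⁻¹ * (ρ * m * ρ⁻¹) ∈ coreCent z := by
    have h := S.central m⁻¹ (inv_mem hm)
    simpa [mul_assoc] using h
  obtain ⟨d, hd, hdX, hdf⟩ := coset_fixed (H := M) (X := coreCent z) (s := ρ) (p := 3) ⟨13, S.card_Q⟩
    Nat.prime_three (by norm_num) (by rw [← S.rho_ord, pow_orderOf_eq_one]) (fun a ha => S.nor S.rho_z ha)
    S.Q_le hm hmove
  refine ⟨d, mem_cx.mpr ⟨S.M_le d hd, (conj_eq_iff.mp hdf).symm⟩, ?_⟩
  have := inv_mem hdX
  simpa using this

/-- An element of the centralizer lies in the derived group up to `z`. -/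
theorem cx_derived (hperf : PerfectMod z M) {c : G} (hc : c ∈ cx z ρ) :
    c ∈ ⁅cx z ρ, cx z ρ⁆ ∨ c * z ∈ ⁅cx z ρ, cx z ρ⁆ := by
  set K := ⁅cx z ρ, cx z ρ⁆
  have hKle : K ≤ cx z ρ := by
    rw [Subgroup.commutator_le]
    intro a ha b hb
    rw [commutatorElement_def]
    exact mul_mem (mul_mem (mul_mem ha hb) (inv_mem ha)) (inv_mem hb)
  have hKQ : K ≤ Subgroup.normalizer (coreCent z : Set G) :=
    le_norm fun a ha q hq => S.nor (mem_cx.mp (hKle ha)).1 hq
  have hMK : ⁅M, M⁆ ≤ K ⊔ coreCent z := by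
    rw [Subgroup.commutator_le]
    intro m hm m' hm'
    obtain ⟨a, ha, hq⟩ := S.cx_cover hm
    obtain ⟨b, hb, hq'⟩ := S.cx_cover hm'
    obtain ⟨haz, -⟩ := mem_cx.mp ha
    obtain ⟨hbz, -⟩ := mem_cx.mp hb
    set q := a⁻¹ * m with hqdef
    set q' := b⁻¹ * m' with hqdef'
    rw [commutatorElement_def, show m * m' * m⁻¹ * m'⁻¹ = (a * q * a⁻¹) * ((a * b) * (q' * q⁻¹) * (a * b)⁻¹) *
        ((a * b * a⁻¹) * q'⁻¹ * (a * b * a⁻¹)⁻¹) * (a * b * a⁻¹ * b⁻¹) by rw [hqdef, hqdef']; group]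
    refine mul_mem (Subgroup.mem_sup_right (mul_mem (mul_mem ?_ ?_) ?_))
      (Subgroup.mem_sup_left (comm_mem_derived ha hb))
    · exact S.nor haz hq
    · exact S.nor (Commute.mul_left haz hbz) (mul_mem hq' (inv_mem hq))
    · exact S.nor (Commute.mul_left (Commute.mul_left haz hbz) (comm_inv haz)) (inv_mem hq')
  obtain ⟨k, hk, hkq⟩ := hperf c (S.cx_le_M hc)
  have h1 : c ∈ K ⊔ coreCent z := by
    have := mul_mem (hMK hk) (Subgroup.mem_sup_right (S := K) hkq)
    rwa [mul_inv_cancel_left] at this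
  obtain ⟨k', hk', q, hq, e⟩ := mem_sup hKQ h1
  have hqc : q ∈ cx z ρ := by
    have := mul_mem (inv_mem (hKle hk')) hc
    rwa [e, inv_mul_cancel_left] at this
  rcases S.cx_core hqc hq with f | f <;> rw [e, f]
  · left; rw [mul_one]; exact hk'
  · right; rw [mul_assoc, S.zz, mul_one]; exact hk'

variable {x : G} (T : Tri z ρ x) {φ : G} (F : Sev z ρ x φ)
include T F

/-- The cubic relation on `R` modulo the eight-group. -/
theorem exists_cubic : ∃ i j : ℕ, ((i = 2 ∧ j = 3) ∨ (i = 1 ∧ j = 3)) ∧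
    ∀ a ∈ rr z ρ x, a * (φ ^ i * a * (φ ^ i)⁻¹) * (φ ^ j * a * (φ ^ j)⁻¹) ∈ vee z ρ x := by
  obtain ⟨A, hA, π, Tm, Sm, hπs, hmul, hπ0, hT, hS, hFr⟩ := S.exists_module T F
  obtain ⟨ψ, hact⟩ := S.crho_act T F
  have hπ1 : π 1 = 0 := (hπ0 1).mpr (one_mem _)
  have hinv : ∀ a, π a⁻¹ = -π a := fun a => eq_neg_of_add_eq_zero_left (by rw [← hmul, inv_mul_cancel, hπ1])
  have hs3 : ∀ a, Sm (Sm (Sm a)) = a := fun a => by
    obtain ⟨b, rfl⟩ := hπs a
    rw [← hS, ← hS, ← hS]
    exact congrArg π (Subtype.ext (S.rot3 (b : G)))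
  -- fixed points
  have lift : ∀ a, Sm a = a → ∃ d, ∃ hd : d ∈ crho z ρ x, π ⟨d, (mem_crho.mp hd).1⟩ = a := by
    intro a ha
    obtain ⟨b, rfl⟩ := hπs a
    obtain ⟨d, hd, hdv⟩ := S.crho_lift T b.2
      ((hπ0 (b⁻¹ * ⟨_, S.rot_rr T b.2⟩)).mp (by rw [hmul, hinv, hS, ha, neg_add_cancel]))
    refine ⟨d, hd, ?_⟩
    have hh := (hπ0 (b⁻¹ * ⟨d, (mem_crho.mp hd).1⟩)).mpr hdv
    rw [hmul, hinv, neg_add_eq_zero] at hh
    exact hh.symm
  have fixd : ∀ d (hd : d ∈ crho z ρ x), Sm (π ⟨d, (mem_crho.mp hd).1⟩) = π ⟨d, (mem_crho.mp hd).1⟩ := fun d hd => by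
    rw [← hS]; exact congrArg π (Subtype.ext (conj_eq_iff.mpr (mem_crho.mp hd).2.symm))
  have hirr : ∀ e : A →+ A, (∀ g : A →+ A, (∀ a, g (Tm a) = Tm (g a)) → ∀ a, g (e a) = e (g a)) →
      (∀ a, Sm a = a → e a = 0 → a = 0) ∨ ∀ a, Sm a = a → e a = 0 := by
    intro e he
    let Y : Subgroup G :=
      { carrier := {d | ∃ h : d ∈ crho z ρ x, e (π ⟨d, (mem_crho.mp h).1⟩) = 0}
        one_mem' := ⟨one_mem _, by rw [show (⟨1, _⟩ : ↥(rr z ρ x)) = 1 from rfl, hπ1, map_zero]⟩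
        mul_mem' := fun {a b} ha hb => by
          obtain ⟨ha, ha'⟩ := ha; obtain ⟨hb, hb'⟩ := hb
          refine ⟨mul_mem ha hb, ?_⟩
          rw [show (⟨a * b, _⟩ : ↥(rr z ρ x)) = ⟨a, (mem_crho.mp ha).1⟩ * ⟨b, (mem_crho.mp hb).1⟩ from rfl, hmul,
            map_add, ha', hb', add_zero]
        inv_mem' := fun {a} ha => by
          obtain ⟨ha, ha'⟩ := ha
          refine ⟨inv_mem ha, ?_⟩
          rw [show (⟨a⁻¹, _⟩ : ↥(rr z ρ x)) = (⟨a, (mem_crho.mp ha).1⟩ : ↥(rr z ρ x))⁻¹ from rfl, hinv, map_neg,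
            ha', neg_zero] }
    have hDY : crho z ρ x ⊓ vee z ρ x ≤ Y := fun d hd => ⟨hd.1, by rw [(hπ0 _).mpr hd.2, map_zero]⟩
    have hYW : Y ≤ crho z ρ x := fun d hd => hd.1
    rcases hact.irred hDY hYW (fun p hp y hy => by
        obtain ⟨hy, hy'⟩ := hy
        have hpN : ∀ a ∈ rr z ρ x, p * a * p⁻¹ ∈ rr z ρ x := fun a ha =>
          S.rr_conj T (S.cv_le_norm T (mem_k2.mp hp).1) ha
        refine ⟨hact.norW p hp y hy, ?_⟩
        -- conjugation by `p` as an endomorphism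
        let g : A →+ A :=
          { toFun := fun a => π ⟨p * (hπs a).choose * p⁻¹, hpN _ (hπs a).choose.2⟩
            map_zero' := (hπ0 _).mpr (by
              show p * ((hπs 0).choose : G) * p⁻¹ ∈ vee z ρ x
              rw [conj_eq_iff.mpr (mem_cv.mp (mem_k2.mp hp).1 _ ((hπ0 _).mp (hπs 0).choose_spec))]
              exact (hπ0 _).mp (hπs 0).choose_spec)
            map_add' := fun a b => by
              rw [← hmul]
              set u := (hπs (a + b)).choose with hu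
              set v := (hπs a).choose
              set w := (hπs b).choose
              have h0 : ((v * w)⁻¹ * u : ↥(rr z ρ x)).1 ∈ vee z ρ x := (hπ0 _).mp (by
                rw [hmul, hinv, hmul, (hπs a).choose_spec, (hπs b).choose_spec, hu, (hπs (a + b)).choose_spec,
                  neg_add_cancel])
              have h1 : π ((⟨p * v * p⁻¹, hpN _ v.2⟩ * ⟨p * w * p⁻¹, hpN _ w.2⟩)⁻¹ * ⟨p * u * p⁻¹, hpN _ u.2⟩) = 0 := by
                refine (hπ0 _).mpr ?_
                show (p * (v : G) * p⁻¹ * (p * w * p⁻¹))⁻¹ * (p * u * p⁻¹) ∈ vee z ρ x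
                rw [show (p * (v : G) * p⁻¹ * (p * w * p⁻¹))⁻¹ * (p * u * p⁻¹) = p * (((v : G) * w)⁻¹ * u) * p⁻¹ by group]
                have h0' : ((v : G) * w)⁻¹ * u ∈ vee z ρ x := h0
                rw [conj_eq_iff.mpr (mem_cv.mp (mem_k2.mp hp).1 _ h0')]
                exact h0'
              rw [hmul, hinv, neg_add_eq_zero] at h1
              exact h1.symm }
        have hgπ : ∀ b : ↥(rr z ρ x), g (π b) = π ⟨p * b * p⁻¹, hpN _ b.2⟩ := fun b => by
          set u := (hπs (π b)).choose with hu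
          have h0 : ((b : G))⁻¹ * u ∈ vee z ρ x := (hπ0 (b⁻¹ * u)).mp (by
            rw [hmul, hinv, hu, (hπs (π b)).choose_spec, neg_add_cancel])
          have h1 : π (⟨p * b * p⁻¹, hpN _ b.2⟩⁻¹ * ⟨p * u * p⁻¹, hpN _ u.2⟩) = 0 := by
            refine (hπ0 _).mpr ?_
            show (p * (b : G) * p⁻¹)⁻¹ * (p * u * p⁻¹) ∈ vee z ρ x
            rw [show (p * (b : G) * p⁻¹)⁻¹ * (p * u * p⁻¹) = p * ((b : G)⁻¹ * u) * p⁻¹ by group,
              conj_eq_iff.mpr (mem_cv.mp (mem_k2.mp hp).1 _ h0)]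
            exact h0
          rw [hmul, hinv, neg_add_eq_zero] at h1
          exact h1.symm
        have hgT : ∀ a, g (Tm a) = Tm (g a) := fun a => by
          obtain ⟨b, rfl⟩ := hπs a
          rw [← hT, hgπ, hgπ, ← hT]
          refine congrArg π (Subtype.ext ?_)
          have hc : Commute p φ := (mem_k2.mp hp).2.2
          show p * (φ * b * φ⁻¹) * p⁻¹ = φ * (p * b * p⁻¹) * φ⁻¹
          rw [show p * (φ * (b : G) * φ⁻¹) * p⁻¹ = (p * φ) * b * (p * φ)⁻¹ by group, hc.eq]; group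
        have := he g hgT (π ⟨y, (mem_crho.mp hy).1⟩)
        rw [hy', map_zero, hgπ] at this
        exact this.symm) with h | h
    · refine Or.inl fun a ha hea => ?_
      obtain ⟨d, hd, rfl⟩ := lift a ha
      exact (hπ0 _).mpr (h ⟨hd, hea⟩).2
    · refine Or.inr fun a ha => ?_
      obtain ⟨d, hd, rfl⟩ := lift a ha
      exact (h hd).2
  have hne : ∃ a, Sm a ≠ a := by
    by_contra hall
    push Not at hall
    have hle : rr z ρ x ≤ vee z ρ x ⊔ crho z ρ x := fun b hb => by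
      obtain ⟨d, hd, he⟩ := lift (π ⟨b, hb⟩) (hall _)
      have hv : d⁻¹ * b ∈ vee z ρ x :=
        (hπ0 ((⟨d, (mem_crho.mp hd).1⟩ : ↥(rr z ρ x))⁻¹ * ⟨b, hb⟩)).mp (by rw [hmul, hinv, he, neg_add_cancel])
      rw [sup_comm, show b = d * (d⁻¹ * b) by group]
      exact Subgroup.mul_mem_sup hd hv
    have hn : crho z ρ x ≤ Subgroup.normalizer (vee z ρ x : Set G) := inf_le_left.trans (S.rr_le_norm T)
    have h := CfsgLib.CentrallyLarge.card_sup_mul_card_inf hn
    rw [S.card_vee T, S.card_crho T] at h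
    have h1 := Subgroup.card_le_of_le hle
    rw [S.card_rr T] at h1
    have h2 : 0 < Nat.card ↥(vee z ρ x ⊓ crho z ρ x) := Nat.card_pos
    have h3 := Nat.le_mul_of_pos_right (Nat.card ↥(vee z ρ x ⊔ crho z ρ x)) h2
    omega
  have hcub : (∀ a, a + Tm (Tm a) + Tm (Tm (Tm a)) = 0) ∨ ∀ a, a + Tm a + Tm (Tm (Tm a)) = 0 := by
    rcases hFr with h | h
    · exact h.cubic hne fun e he _ => hirr e he
    · have hiff : ∀ a, (Sm.comp Sm) a = a ↔ Sm a = a := fun a => by
        refine ⟨fun ha => ?_, fun ha => by simp [ha]⟩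
        have := congrArg Sm ha
        simp only [AddMonoidHom.comp_apply, hs3] at this
        exact this.symm
      refine h.cubic (hne.imp fun a ha => fun e => ha ((hiff a).mp e)) fun e he _ => ?_
      simp only [hiff]
      exact hirr e he
  have hTk : ∀ (k : ℕ) (a : ↥(rr z ρ x)), π ⟨φ ^ k * a * (φ ^ k)⁻¹, S.rr_conj T (pow_mem F.norm k) a.2⟩ =
      Tm^[k] (π a) := by
    intro k
    induction k with
    | zero => intro a; exact congrArg π (Subtype.ext (by simp))
    | succ k ih =>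
      intro a
      rw [Function.iterate_succ_apply', ← ih a, ← hT]
      exact congrArg π (Subtype.ext (show φ ^ (k + 1) * (a : G) * (φ ^ (k + 1))⁻¹ =
        φ * (φ ^ k * a * (φ ^ k)⁻¹) * φ⁻¹ by rw [pow_succ']; group))
  have finish : ∀ i j : ℕ, (∀ a, a + Tm^[i] a + Tm^[j] a = 0) →
      ∀ a ∈ rr z ρ x, a * (φ ^ i * a * (φ ^ i)⁻¹) * (φ ^ j * a * (φ ^ j)⁻¹) ∈ vee z ρ x := fun i j h a ha =>
    (hπ0 (⟨a, ha⟩ * ⟨_, S.rr_conj T (pow_mem F.norm i) ha⟩ * ⟨_, S.rr_conj T (pow_mem F.norm j) ha⟩)).mp (by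
      rw [hmul, hmul, hTk i ⟨a, ha⟩, hTk j ⟨a, ha⟩]; exact h _)
  rcases hcub with h | h
  · exact ⟨2, 3, Or.inl ⟨rfl, rfl⟩, finish 2 3 fun a => by
      simpa [Function.iterate_succ_apply'] using h a⟩
  · exact ⟨1, 3, Or.inr ⟨rfl, rfl⟩, finish 1 3 fun a => by
      simpa [Function.iterate_succ_apply'] using h a⟩

/-- The derived group of the centralizer contains `z`. -/
theorem z_mem_derived (hperf : PerfectMod z M) : z ∈ ⁅cx z ρ, cx z ρ⁆ := by
  classical
  set K := ⁅cx z ρ, cx z ρ⁆ with hK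
  by_contra hzK
  obtain ⟨ψ, hψ, hk⟩ := S.phi_k2 T F
  set V := vee z ρ x
  set R0 := crho z ρ x ⊓ K with hR0
  have hcxR : crho z ρ x ≤ cx z ρ := fun a ha =>
    mem_cx.mpr ⟨S.cv_z T (S.rr_le_cv T (mem_crho.mp ha).1), (mem_crho.mp ha).2⟩
  have hk2cx : k2 z ρ x φ ≤ cx z ρ := fun p hp => mem_cx.mpr ⟨S.cv_z T (mem_k2.mp hp).1, (mem_k2.mp hp).2.1⟩
  have hsplit : ∀ a ∈ crho z ρ x, a ∈ R0 ∨ a * z ∈ R0 := fun a ha =>
    (S.cx_derived hperf (hcxR ha)).imp (fun h => ⟨ha, h⟩) fun h => ⟨mul_mem ha (S.z_mem_crho T), h⟩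
  have hone : ∀ t, t ∈ crho z ρ x → t ∈ V → t ∈ K → t = 1 := fun t h1 h2 h3 => by
    rcases S.crho_vee T h1 h2 with e | e
    · exact e
    · exact absurd (e ▸ h3) hzK
  have hsq : ∀ a ∈ R0, a * a = 1 := fun a ha =>
    hone _ (mul_mem ha.1 ha.1) (S.rr_sq T (mem_crho.mp ha.1).1) (mul_mem ha.2 ha.2)
  have hab : ∀ a ∈ R0, ∀ b ∈ R0, a * b = b * a := fun a ha b hb => eq_of_mul_comm
    (hone _ (mul_mem (mul_mem (mul_mem ha.1 hb.1) (inv_mem ha.1)) (inv_mem hb.1))
      (S.rr_comm T (mem_crho.mp ha.1).1 (mem_crho.mp hb.1).1)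
      (mul_mem (mul_mem (mul_mem ha.2 hb.2) (inv_mem ha.2)) (inv_mem hb.2)))
  have hcard : Nat.card R0 = 16 := by
    have hle : R0 ≤ crho z ρ x := inf_le_left
    have h1 : (R0.subgroupOf (crho z ρ x)).index = 2 := by
      refine Subgroup.index_eq_two_iff.mpr ⟨⟨z, S.z_mem_crho T⟩, fun c => ?_⟩
      show Xor ((c : G) * z ∈ R0) ((c : G) ∈ R0)
      rcases hsplit c c.2 with h | h
      · exact Or.inr ⟨h, fun h' => hzK (by simpa using K.mul_mem (K.inv_mem h.2) h'.2)⟩
      · exact Or.inl ⟨h, fun h' => hzK (by simpa using K.mul_mem (K.inv_mem h'.2) h.2)⟩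
    have h2 := Subgroup.card_mul_index (R0.subgroupOf (crho z ρ x))
    rw [h1, S.card_crho T, Nat.card_congr (Subgroup.subgroupOfEquivOfLe hle).toEquiv] at h2
    omega
  have hnorK : ∀ p ∈ cx z ρ, ∀ k ∈ K, p * k * p⁻¹ ∈ K := fun p hp k hk => by
    have hkc : k ∈ cx z ρ := (Subgroup.commutator_le.mpr fun a ha b hb => by
      rw [commutatorElement_def]
      exact mul_mem (mul_mem (mul_mem ha hb) (inv_mem ha)) (inv_mem hb) : K ≤ cx z ρ) hk
    have := mul_mem (comm_mem_derived hp hkc) hk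
    rwa [inv_mul_cancel_right] at this
  have hnorW : ∀ p ∈ k2 z ρ x φ, ∀ w ∈ R0, p * w * p⁻¹ ∈ R0 := fun p hp w hw => by
    refine ⟨mem_crho.mpr ⟨S.rr_conj T (S.cv_le_norm T (mem_k2.mp hp).1) (mem_crho.mp hw.1).1, ?_⟩,
      hnorK p (hk2cx hp) w hw.2⟩
    have h1 : Commute p ρ := (mem_k2.mp hp).2.1
    exact ((h1.mul_left (mem_crho.mp hw.1).2).mul_left h1.inv_left).eq
  have hact : Act (k2 z ρ x φ) R0 ⊥ ψ :=
    ⟨bot_le, fun w _ d hd => by rw [Subgroup.mem_bot.mp hd]; simp,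
      fun w hw v hv => by rw [hab w hw v hv]; simp, hnorW,
      fun p _ d hd => by rw [Subgroup.mem_bot.mp hd]; simp, hψ,
      fun p hp w hw => by
        rw [Subgroup.mem_bot]
        refine hone _ (mul_mem (hnorW p p.2 w hw).1 (inv_mem hw.1)) ?_ (mul_mem (hnorW p p.2 w hw).2 (inv_mem hw.2))
        exact S.rr_comm T ((hk p).mp hp) (mem_crho.mp hw.1).1,
      by rw [hcard, Subgroup.card_bot],
      by
        obtain ⟨p, hp, -, a, ha, hne⟩ := S.k2_moves T F
        have hpz : p * z * p⁻¹ = z := conj_eq_iff.mpr (S.cv_z T (mem_k2.mp hp).1)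
        rcases hsplit a ha with h | h
        · exact ⟨p, hp, a, h, fun e => hne (Subgroup.mem_bot.mp e)⟩
        · refine ⟨p, hp, a * z, h, fun e => hne ?_⟩
          rw [Subgroup.mem_bot, show p * (a * z) * p⁻¹ * (a * z)⁻¹ = p * a * p⁻¹ * (p * z * p⁻¹) * z⁻¹ * a⁻¹ by group,
            hpz, mul_inv_cancel_right] at e
          exact e⟩
  obtain ⟨i, j, hij, hcub⟩ := S.exists_cubic T F
  -- conjugation by powers
  let c : ℕ → G → G := fun k a => φ ^ k * a * (φ ^ k)⁻¹
  have cmul : ∀ k a b, c k (a * b) = c k a * c k b := fun k a b => by simp [c, mul_assoc]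
  have cadd : ∀ k l a, c k (c l a) = c (k + l) a := fun k l a => by simp [c, pow_add, mul_assoc]
  have crr : ∀ k, ∀ a ∈ rr z ρ x, c k a ∈ rr z ρ x := fun k a ha => S.rr_conj T (pow_mem F.norm k) ha
  have c7 : ∀ a, c 7 a = a := fun a => by simp [c, F.ord]
  have hR0rr : ∀ a ∈ R0, a ∈ rr z ρ x := fun a ha => (mem_crho.mp ha.1).1
  have hVcen : ∀ v ∈ V, ∀ r ∈ rr z ρ x, r * v * r⁻¹ = v := fun v hv r hr =>
    conj_eq_iff.mpr (mem_cv.mp (S.rr_le_cv T hr) v hv)
  have hVcomm : ∀ v ∈ V, ∀ r ∈ rr z ρ x, Commute r v := fun v hv r hr => mem_cv.mp (S.rr_le_cv T hr) v hv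
  -- the third conjugate in terms of the first two
  have third : ∀ a ∈ R0, ∃ v ∈ V, c j a = (c i a)⁻¹ * a⁻¹ * v := fun a ha =>
    ⟨_, hcub a (hR0rr a ha), by simp [c, mul_assoc]⟩
  let _ : CommGroup ↥V := { (inferInstance : Group ↥V) with mul_comm := fun a b => Subtype.ext (S.vee_comm T a.2 b.2) }
  let q : G → ↥V := fun a => if h : a * c i a * c j a ∈ V then ⟨_, h⟩ else 1
  let β : G → G → ↥V := fun a b => if h : a * c i b * a⁻¹ * (c i b)⁻¹ ∈ V then ⟨_, h⟩ else 1
  have hq : ∀ a ∈ R0, (q a : G) = a * c i a * c j a := fun a ha => by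
    simp only [q, dif_pos (show a * c i a * c j a ∈ V from hcub a (hR0rr a ha))]
  have hβ : ∀ a ∈ R0, ∀ b ∈ R0, (β a b : G) = a * c i b * a⁻¹ * (c i b)⁻¹ := fun a ha b hb => by
    simp only [β, dif_pos (show a * c i b * a⁻¹ * (c i b)⁻¹ ∈ V from
      S.rr_comm T (hR0rr a ha) (crr i b (hR0rr b hb)))]
  have key : ∀ a ∈ R0, ∀ b ∈ R0, Commute a (c i b) := by
    have hadd : ∀ a ∈ R0, ∀ b ∈ R0, q (a * b) = q a * q b * β a b := by
      intro a ha b hb
      refine Subtype.ext ?_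
      rw [Subgroup.coe_mul, Subgroup.coe_mul, hq a ha, hq b hb, hβ a ha b hb, hq _ (mul_mem ha hb)]
      obtain ⟨v, hv, hj⟩ := third a ha
      have hbR := hR0rr b hb
      have hbi := crr i b hbR
      have haR := hR0rr a ha
      have hai := crr i a haR
      -- the commutator of `a` and the conjugate of `b`
      set k := a * c i b * a⁻¹ * (c i b)⁻¹ with hkdef
      have hkV : k ∈ V := S.rr_comm T haR hbi
      have hk' : c i b * a * (c i b)⁻¹ = k * a := by
        have h1 : c i b * a * (c i b)⁻¹ = k⁻¹ * a := by rw [hkdef]; group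
        rwa [inv_eq_of_mul_eq_one_right (S.vee_sq T hkV)] at h1
      have hab1 : c i b * c i a * (c i b)⁻¹ = c i a := by
        rw [conj_eq_iff, ← cmul, ← cmul, hab b hb a ha]
      have e1 : c i b * c j a * (c i b)⁻¹ = k * c j a := by
        rw [hj, show c i b * ((c i a)⁻¹ * a⁻¹ * v) * (c i b)⁻¹ =
          (c i b * c i a * (c i b)⁻¹)⁻¹ * (c i b * a * (c i b)⁻¹)⁻¹ * (c i b * v * (c i b)⁻¹) by group, hab1, hk',
          hVcen v hv _ hbi, mul_inv_rev k a, inv_eq_of_mul_eq_one_right (S.vee_sq T hkV)]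
        have hc1 : Commute ((c i a)⁻¹ * a⁻¹) k := hVcomm k hkV _ (mul_mem (inv_mem hai) (inv_mem haR))
        rw [← mul_assoc, hc1.eq, mul_assoc k]
      have e2 : Commute b (c i a * c j a) := by
        have h1 : c i a * c j a = a⁻¹ * (a * c i a * c j a) := by group
        rw [h1]
        exact (show Commute b a⁻¹ from Commute.inv_right (hab b hb a ha)).mul_right (hVcomm _ (hcub a haR) b hbR)
      have hk1 : Commute k (a * c i a * c j a) := S.vee_comm T hkV (hcub a haR)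
      have hk2 : Commute k (b * c i b * c j b) := S.vee_comm T hkV (hcub b hbR)
      calc a * b * c i (a * b) * c j (a * b)
          = a * b * (c i a * c i b) * (c j a * c j b) := by rw [cmul, cmul]
        _ = a * b * c i a * (c i b * c j a * (c i b)⁻¹) * c i b * c j b := by group
        _ = a * b * c i a * (k * c j a) * c i b * c j b := by rw [e1]
        _ = a * b * (c i a * k) * c j a * c i b * c j b := by group
        _ = a * b * (k * c i a) * c j a * c i b * c j b := by rw [(hVcomm k hkV _ hai).eq]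
        _ = a * (b * k) * (c i a * c j a) * c i b * c j b := by group
        _ = a * (k * b) * (c i a * c j a) * c i b * c j b := by rw [(hVcomm k hkV _ hbR).eq]
        _ = a * k * (b * (c i a * c j a)) * c i b * c j b := by group
        _ = a * k * (c i a * c j a * b) * c i b * c j b := by rw [e2.eq]
        _ = (a * k) * (c i a * c j a) * (b * c i b * c j b) := by group
        _ = (k * a) * (c i a * c j a) * (b * c i b * c j b) := by rw [(hVcomm k hkV _ haR).eq]
        _ = k * ((a * c i a * c j a) * (b * c i b * c j b)) := by group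
        _ = _ := (hk1.mul_right hk2).eq
    intro a ha b hb
    have h := hact.quad rfl (fun w => Subtype.ext (S.vee_sq T w.2)) q β
      (fun p hp a ha => Subtype.ext (by
        rw [hq _ (hnorW p hp a ha), hq a ha]
        have hc : ∀ k, c k (p * a * p⁻¹) = p * c k a * p⁻¹ := fun k => by
          have h1 : Commute p (φ ^ k) := (show Commute p φ from (mem_k2.mp hp).2.2).pow_right k
          show φ ^ k * (p * a * p⁻¹) * (φ ^ k)⁻¹ = p * (φ ^ k * a * (φ ^ k)⁻¹) * p⁻¹
          rw [show φ ^ k * (p * a * p⁻¹) * (φ ^ k)⁻¹ = (φ ^ k * p) * a * (φ ^ k * p)⁻¹ by group, h1.eq.symm]; group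
        rw [hc, hc, show p * a * p⁻¹ * (p * c i a * p⁻¹) * (p * c j a * p⁻¹) = p * (a * c i a * c j a) * p⁻¹ by group]
        exact conj_eq_iff.mpr (mem_cv.mp (mem_k2.mp hp).1 _ (hcub a (hR0rr a ha)))))
      hadd
      (fun a ha b hb b' hb' => Subtype.ext (by
        rw [Subgroup.coe_mul, hβ a ha _ (mul_mem hb hb'), hβ a ha b hb, hβ a ha b' hb', cmul,
          show a * (c i b * c i b') * a⁻¹ * (c i b * c i b')⁻¹ =
            (a * c i b * a⁻¹ * (c i b)⁻¹) * (c i b * (a * c i b' * a⁻¹ * (c i b')⁻¹) * (c i b)⁻¹) by group,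
          hVcen _ (S.rr_comm T (hR0rr a ha) (crr i b' (hR0rr b' hb'))) _ (crr i b (hR0rr b hb))]))
      (fun a ha => by
        have h := hadd a ha a ha
        have h1 : q (a * a) = 1 := by
          rw [hsq a ha]
          exact Subtype.ext ((hq 1 (one_mem _)).trans (by simp [c]))
        rw [h1, show q a * q a = 1 from Subtype.ext (S.vee_sq T (q a).2), one_mul] at h
        exact h.symm) ha hb
    have h' := congrArg Subtype.val h
    rw [hβ a ha b hb] at h'
    exact eq_of_mul_comm h'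
  -- commutation in all differences
  let P : ℕ → Prop := fun d => ∀ a ∈ R0, ∀ b ∈ R0, Commute a (c d b)
  have h0 : P 0 := fun a ha b hb => by
    have : c 0 b = b := by simp [c]
    rw [this]; exact hab a ha b hb
  have hi : P i := key
  have hj : P j := fun a ha b hb => by
    obtain ⟨v, hv, e⟩ := third b hb
    rw [e]
    exact ((key a ha b hb).inv_right.mul_right (Commute.inv_right (hab a ha b hb))).mul_right
      (hVcomm v hv a (hR0rr a ha))
  have hneg : ∀ d e, d + e = 7 → P d → P e := fun d e hde h a ha b hb => by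
    have h1 : Commute (c e b) (c e (c d a)) :=
      (cmul e b (c d a)).symm.trans ((congrArg (c e) (h b hb a ha).eq).trans (cmul e _ b))
    rw [cadd, add_comm, hde, c7] at h1
    exact h1.symm
  have hdiff : P (j - i) := fun a ha b hb => by
    obtain ⟨v, hv, e⟩ := third b hb
    have h1 : Commute (c i a) (c j b) := by
      rw [e]
      refine ((Commute.inv_right ?_).mul_right (Commute.inv_right ?_)).mul_right (hVcomm v hv _ (crr i a (hR0rr a ha)))
      · exact (cmul i a b).symm.trans ((congrArg (c i) (hab a ha b hb)).trans (cmul i b a))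
      · exact (key b hb a ha).symm
    have h2 : Commute (c (7 - i) (c i a)) (c (7 - i) (c j b)) :=
      (cmul _ _ _).symm.trans ((congrArg (c (7 - i)) h1.eq).trans (cmul _ _ _))
    rw [cadd, cadd] at h2
    rcases hij with ⟨rfl, rfl⟩ | ⟨rfl, rfl⟩ <;> norm_num at h2 ⊢ <;> rw [c7] at h2
    · rw [show (8 : ℕ) = 7 + 1 by norm_num, ← cadd, c7] at h2; exact h2
    · rw [show (9 : ℕ) = 7 + 2 by norm_num, ← cadd, c7] at h2; exact h2
  have hall : ∀ d, P d := fun d a ha b hb => by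
    have hd : c d b = c (d % 7) b := by simp [c, ← pow_eq_pow_mod d F.ord]
    rw [hd]
    have h7 : d % 7 < 7 := Nat.mod_lt _ (by norm_num)
    rcases hij with ⟨rfl, rfl⟩ | ⟨rfl, rfl⟩ <;> interval_cases h : d % 7
    exacts [h0 a ha b hb, hdiff a ha b hb, hi a ha b hb, hj a ha b hb, hneg 3 4 rfl hj a ha b hb,
      hneg 2 5 rfl hi a ha b hb, hneg 1 6 rfl hdiff a ha b hb, h0 a ha b hb, hi a ha b hb, hdiff a ha b hb,
      hj a ha b hb, hneg 3 4 rfl hj a ha b hb, hneg 2 5 rfl hdiff a ha b hb, hneg 1 6 rfl hi a ha b hb]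
  -- `R0` is central in `R`
  let B : Subgroup G :=
    { carrier := {h | h ∈ rr z ρ x ∧ ∀ k, ∀ a ∈ R0, Commute a (c k h)}
      one_mem' := ⟨one_mem _, fun k a _ => by
        have : c k 1 = 1 := by simp [c]
        rw [this]; exact Commute.one_right a⟩
      mul_mem' := fun {g h} hg hh => ⟨mul_mem hg.1 hh.1, fun k a ha => by
        rw [cmul]; exact (hg.2 k a ha).mul_right (hh.2 k a ha)⟩
      inv_mem' := fun {g} hg => ⟨inv_mem hg.1, fun k a ha => by
        have : c k g⁻¹ = (c k g)⁻¹ := by simp [c, mul_assoc]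
        rw [this]; exact (hg.2 k a ha).inv_right⟩ }
  have hVB : V ≤ B := fun v hv => ⟨S.vee_le_rr T hv, fun k a ha =>
    hVcomm _ ((Subgroup.mem_normalizer_iff.mp (pow_mem F.norm k) v).mp hv) a (hR0rr a ha)⟩
  have hR0B : R0 ≤ B := fun b hb => ⟨hR0rr b hb, fun k a ha => hall k a ha b hb⟩
  have hCB : crho z ρ x ≤ B := fun a ha => by
    rcases hsplit a ha with h | h
    · exact hR0B h
    · have := mul_mem (hR0B h) (hVB z_mem_vee)
      rwa [mul_assoc, S.zz, mul_one] at this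
  have hRB := S.rr_span T F hVB hCB fun b hb => ⟨S.phi_rr T F hb.1, fun k a ha => by
    have : c k (φ * b * φ⁻¹) = c (k + 1) b := by rw [← cadd]; simp [c]
    rw [this]; exact hb.2 (k + 1) a ha⟩
  have hsub : R0 ≤ ⊥ := fun a ha => by
    refine Subgroup.mem_bot.mpr (hone a ha.1 (S.rr_center T (hR0rr a ha) fun d hd => ?_) ha.2)
    have h := (hRB hd).2 0 a ha
    have e : c 0 d = d := by simp [c]
    rwa [e] at h
  have := Subgroup.card_le_of_le hsub
  rw [hcard, Subgroup.card_bot] at this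
  omega

omit T F in
/-- The centralizer of `z` and `ρ` is perfect. -/
theorem cx_perfect (hperf : PerfectMod z M) : ⁅cx z ρ, cx z ρ⁆ = cx z ρ := by
  obtain ⟨x, T⟩ := S.exists_tri
  obtain ⟨φ, F⟩ := S.exists_seven T
  refine le_antisymm (Subgroup.commutator_le.mpr fun a ha b hb => ?_) fun c hc => ?_
  · rw [commutatorElement_def]
    exact mul_mem (mul_mem (mul_mem ha hb) (inv_mem ha)) (inv_mem hb)
  · rcases S.cx_derived hperf hc with h | h
    · exact h
    · have := mul_mem h (S.z_mem_derived T F hperf)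
      rwa [mul_assoc, S.zz, mul_one] at this

end Setup

end CfsgLib.Fi24Three
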