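import Cfsg.Prelude.Def_MonsterType
import Cfsg.Agent.Lib.Fi24Three.Cover
import Cfsg.Agent.Lib.LargeExtra.Sections
import Cfsg.Agent.Lib.UnitarySimple
import Cfsg.Agent.Lib.U43Mult.Group

/-!
From the hypothesis of large Fischer type, with the four basic facts about the action on the core, to the setting.
-/

set_option autoImplicit false
set_option linter.unusedSectionVars false

namespace CfsgLib.Fi24Three

open Cfsg CfsgLargeExtra

universe u

variable {G : Type u} [Group G] [Finite G]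

/-- Extraspecial groups are carried along by isomorphisms. -/
theorem isExtraspecial_equiv {A B : Type*} [Group A] [Group B] [Finite A] [Finite B] (e : A ≃* B)
    (hA : IsExtraspecial 2 A) : IsExtraspecial 2 B := by
  obtain ⟨w, hw⟩ := CfsgLib.ExtraTwo.ofExtraspecial hA
  have hB : CfsgLib.ExtraTwo.Ext2 B (e w) := by
    refine ⟨fun h => hw.ne (e.map_eq_one_iff.mp h), fun b => ?_, fun b => ?_⟩
    · obtain ⟨a, rfl⟩ := e.surjective b
      rw [e.map_eq_one_iff, e.injective.eq_iff, ← hw.center_iff, Subgroup.mem_center_iff, Subgroup.mem_center_iff]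
      refine ⟨fun h c => e.injective (by rw [map_mul, map_mul]; exact h (e c)), fun h d => ?_⟩
      obtain ⟨c, rfl⟩ := e.surjective d
      rw [← map_mul, ← map_mul, h c]
    · obtain ⟨a, rfl⟩ := e.surjective b
      rw [← map_mul, e.map_eq_one_iff, e.injective.eq_iff]
      exact hw.sq a
  obtain ⟨a, b, hne⟩ : ∃ a b : B, a * b ≠ b * a := by
    by_contra hall
    push Not at hall
    have htop : Subgroup.center A = ⊤ := Subgroup.eq_top_iff' _ |>.mpr fun a => Subgroup.mem_center_iff.mpr fun c =>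
      e.injective (by rw [map_mul, map_mul]; exact hall _ _)
    have h2 := hA.1.2.2
    rw [htop] at h2
    have h4 := hA.2
    rw [htop, Subgroup.card_top] at h4
    have hab : commutator A = ⊥ := by
      rw [eq_bot_iff, commutator_def, Subgroup.commutator_le]
      intro x _ y _
      rw [Subgroup.mem_bot, commutatorElement_eq_one_iff_mul_comm]
      exact e.injective (by rw [map_mul, map_mul]; exact hall _ _)
    rw [hab] at h2
    have := congrArg (fun H : Subgroup A => Nat.card H) h2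
    simp only [Subgroup.card_bot, Subgroup.card_top] at this
    omega
  exact isExtraspecial_of_ext2 hB hne

/-- The basic facts about the module and about a pair. -/
structure Facts (z : G) (Q N M : Subgroup (Subgroup.centralizer ({z} : Set G))) [Q.Normal] : Prop where
  fpf : ∀ r ∈ N, r ∉ Q → ∀ q ∈ Q, ((r * q * r⁻¹ * q⁻¹ : ↥(Subgroup.centralizer ({z} : Set G))) : G) ∈ Subgroup.zpowers z →
    (q : G) ∈ Subgroup.zpowers z
  perfect : ∀ m ∈ M, ∃ k ∈ ⁅M, M⁆, k⁻¹ * m ∈ Q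
  invert : ∃ h, ∃ r ∈ N, h * r * h⁻¹ * r⁻¹ ∉ Q
  pair : ∀ (s : G), (∃ hsc : s ∈ Subgroup.centralizer ({z} : Set G),
      (⟨s, hsc⟩ : Subgroup.centralizer ({z} : Set G)) ∈ Q) → IsConj z s → s ≠ z → ∀ (g : G), g * z * g⁻¹ = s →
    ∀ (X E : Subgroup ((Subgroup.centralizer ({z} : Set G)) ⧸ Q)),
    X = ((Subgroup.centralizer ({z} : Set G) ⊓ Subgroup.centralizer ({s} : Set G)).subgroupOf
      (Subgroup.centralizer ({z} : Set G))).map (QuotientGroup.mk' Q) →
    E = ((((Q.map (Subgroup.centralizer ({z} : Set G)).subtype)).map (MulAut.conj g).toMonoidHom ⊓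
      Subgroup.centralizer ({z} : Set G)).subgroupOf (Subgroup.centralizer ({z} : Set G))).map (QuotientGroup.mk' Q) →
    Cfsg.IsElementaryAbelian 2 ((Q.map (Subgroup.centralizer ({z} : Set G)).subtype) ⊓
      ((Q.map (Subgroup.centralizer ({z} : Set G)).subtype)).map (MulAut.conj g).toMonoidHom) ∧
    Nat.card ↥((Q.map (Subgroup.centralizer ({z} : Set G)).subtype) ⊓
      ((Q.map (Subgroup.centralizer ({z} : Set G)).subtype)).map (MulAut.conj g).toMonoidHom) = 2 ^ 7 ∧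
    E ≤ X ∧ (∀ x ∈ X, ∀ y ∈ E, x * y * x⁻¹ ∈ E) ∧ Cfsg.IsElementaryAbelian 2 E ∧ Nat.card E = 32 ∧
    ∃ _ : (E.subgroupOf X).Normal, Nonempty (↥X ⧸ E.subgroupOf X ≃* alternatingGroup (Fin 6))

/-- A nontrivial element of the centralizer of order three in `N` gives the setting. -/
theorem setup_of {z : G} {Q N M : Subgroup (Subgroup.centralizer ({z} : Set G))} [Q.Normal] [N.Normal] [M.Normal]
    (hset : IsExtraspecialCentralizerSetting z Q 6) (hQN : Q ≤ N) (hNM : N ≤ M)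
    (hN : Nat.card N = 3 * Nat.card Q) {K : Type} [Field K] [Fintype K] (hK : Fintype.card K = 9)
    (e : M ⧸ N.subgroupOf M ≃* PSU 4 K 3) (hM : M.index = 2) (H : Facts z Q N M)
    {r : ↥(Subgroup.centralizer ({z} : Set G))} (hrN : r ∈ N) (hr : orderOf r = 3) :
    Setup z (M.map (Subgroup.centralizer ({z} : Set G)).subtype) (r : G) ∧
    PerfectMod z (M.map (Subgroup.centralizer ({z} : Set G)).subtype) ∧
    Q.map (Subgroup.centralizer ({z} : Set G)).subtype = coreCent z := by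
  classical
  obtain ⟨hz, hF, hE, hcard, g₀, ⟨hg₀, hg₀Q⟩, hg₀ne⟩ := hset
  set QG := Q.map (Subgroup.centralizer ({z} : Set G)).subtype with hQG
  have hQcard : Nat.card QG = 2 ^ 13 := by
    rw [hQG, Subgroup.card_map_of_injective (Subgroup.centralizer ({z} : Set G)).subtype_injective, hcard]
  have hEG : IsExtraspecial 2 QG := isExtraspecial_equiv (Subgroup.equivMapOfInjective Q (Subgroup.centralizer ({z} : Set G)).subtype (Subgroup.centralizer ({z} : Set G)).subtype_injective) hE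
  obtain ⟨hes, -⟩ := ES.of_fitting z hz (C := (Subgroup.centralizer ({z} : Set G))) rfl QG (by rw [hF]) hEG
  have memC : ∀ {c : G}, c ∈ (Subgroup.centralizer ({z} : Set G)) ↔ c * z = z * c := fun {c} => Subgroup.mem_centralizer_singleton_iff
  have memQ : ∀ {c : ↥(Subgroup.centralizer ({z} : Set G))}, (c : G) ∈ QG ↔ c ∈ Q := fun {c} =>
    ⟨fun ⟨d, hd, e⟩ => Subtype.ext (show (d : G) = c from e) ▸ hd, fun h => ⟨c, h, rfl⟩⟩
  have memM : ∀ {c : ↥(Subgroup.centralizer ({z} : Set G))}, (c : G) ∈ M.map (Subgroup.centralizer ({z} : Set G)).subtype ↔ c ∈ M := fun {c} =>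
    ⟨fun ⟨d, hd, e⟩ => Subtype.ext (show (d : G) = c from e) ▸ hd, fun h => ⟨c, h, rfl⟩⟩
  -- the core
  have hQ2 : IsPGroup 2 ↥Q := IsPGroup.of_card hcard
  have hsimple : IsSimpleGroup (PSU 4 K 3) :=
    CfsgLib.UnitarySimple.simple (F := K) (q := 3) (by rw [hK]; norm_num) (by norm_num) (by norm_num)
  have hpc : Cfsg.pCore 2 ↥(Subgroup.centralizer ({z} : Set G)) = Q := by
    refine le_antisymm ?_ (CfsgLib.le_pCore hQ2)
    rw [← hF]
    exact le_sup_of_le_right (le_sSup ⟨inferInstance, (CfsgLib.isPGroup_pCore (G := ↥(Subgroup.centralizer ({z} : Set G))) 2).isNilpotent⟩)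
  have hcore : QG = coreCent z := by rw [hQG, coreCent, hpc]
  rw [hcore] at hes hQcard hEG memQ
  have hzC : z ∈ (Subgroup.centralizer ({z} : Set G)) := memC.mpr rfl
  have hr3 : orderOf (r : G) = 3 := by rw [Subgroup.orderOf_coe, hr]
  have hrQ : r ∉ Q := fun h => by
    obtain ⟨k, hk⟩ := hQ2 ⟨r, h⟩
    have h1 := orderOf_dvd_of_pow_eq_one (congrArg Subtype.val hk : r ^ 2 ^ k = 1)
    rw [hr] at h1
    have := Nat.le_of_dvd (by norm_num) (Nat.prime_three.dvd_of_dvd_pow h1)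
    omega
  have hr3' : r ^ 3 = 1 := by rw [← hr, pow_orderOf_eq_one]
  -- `N` consists of three cosets
  have hcosets : ∀ n ∈ N, ∃ q ∈ Q, n = q ∨ n = r * q ∨ n = r⁻¹ * q := by
    have hn3 : (Q.subgroupOf N).index = 3 := by
      have h := Subgroup.card_mul_index (Q.subgroupOf N)
      rw [Nat.card_congr (Subgroup.subgroupOfEquivOfLe hQN).toEquiv, hN, mul_comm 3] at h
      exact Nat.eq_of_mul_eq_mul_left Nat.card_pos h
    intro n hn
    have hq3 : Nat.card (↥N ⧸ Q.subgroupOf N) = 3 := hn3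
    set rb : ↥N ⧸ Q.subgroupOf N := QuotientGroup.mk ⟨r, hrN⟩
    have hrb : rb ≠ 1 := fun h => hrQ (Subgroup.mem_subgroupOf.mp ((QuotientGroup.eq_one_iff (⟨r, hrN⟩ : ↥N)).mp h))
    have : Fact (Nat.Prime 3) := ⟨Nat.prime_three⟩
    have hmem := mem_zpowers_of_prime_card hq3 (g := rb) (g' := QuotientGroup.mk ⟨n, hn⟩) hrb
    obtain ⟨k, hk⟩ := hmem
    have hk' : (QuotientGroup.mk (⟨r, hrN⟩ ^ k) : ↥N ⧸ Q.subgroupOf N) = QuotientGroup.mk ⟨n, hn⟩ := hk
    rw [QuotientGroup.eq, Subgroup.mem_subgroupOf, Subgroup.coe_mul, InvMemClass.coe_inv, SubgroupClass.coe_zpow] at hk'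
    have hkq : r ^ k = r ^ (k % 3) := by
      rw [zpow_mod_orderOf r k |>.symm, hr]; rfl
    have h3 : k % 3 = 0 ∨ k % 3 = 1 ∨ k % 3 = 2 := by omega
    refine ⟨(r ^ k)⁻¹ * n, hk', ?_⟩
    rcases h3 with e | e | e
    · left; rw [hkq, e, zpow_zero, inv_one, one_mul]
    · right; left; rw [hkq, e, zpow_one, mul_inv_cancel_left]
    · right; right
      have e2 : r ^ (2 : ℤ) = r⁻¹ := by
        rw [zpow_two]; refine eq_inv_of_mul_eq_one_left ?_
        rw [← pow_two, ← pow_succ]; exact hr3'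
      rw [hkq, e, e2, inv_inv, inv_mul_cancel_left]
  -- the action on the coset of `r`
  have hact : ∀ c : ↥(Subgroup.centralizer ({z} : Set G)), c * r * c⁻¹ * r⁻¹ ∈ Q ∨ c * r * c⁻¹ * r ∈ Q := by
    intro c
    obtain ⟨q, hq, e⟩ := hcosets _ (Subgroup.Normal.conj_mem inferInstance r hrN c)
    rcases e with e | e | e
    · exfalso
      have := Subgroup.Normal.conj_mem inferInstance q hq c⁻¹
      rw [← e] at this
      exact hrQ (by simpa [mul_assoc] using this)
    · left; rw [e]; exact Subgroup.Normal.conj_mem inferInstance q hq r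
    · right; rw [e]
      have := Subgroup.Normal.conj_mem inferInstance q hq r⁻¹
      rwa [inv_inv] at this
  let qr : ↥(Subgroup.centralizer ({z} : Set G)) ⧸ Q := QuotientGroup.mk r
  have hsame : ∀ c : ↥(Subgroup.centralizer ({z} : Set G)), c * r * c⁻¹ * r⁻¹ ∈ Q ↔ (c : ↥(Subgroup.centralizer ({z} : Set G)) ⧸ Q) * qr * (c : ↥(Subgroup.centralizer ({z} : Set G)) ⧸ Q)⁻¹ = qr := fun c => by
    rw [← mul_inv_eq_one, ← QuotientGroup.eq_one_iff]; rfl
  have hflip : ∀ c : ↥(Subgroup.centralizer ({z} : Set G)), c * r * c⁻¹ * r ∈ Q ↔ (c : ↥(Subgroup.centralizer ({z} : Set G)) ⧸ Q) * qr * (c : ↥(Subgroup.centralizer ({z} : Set G)) ⧸ Q)⁻¹ = qr⁻¹ := fun c => by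
    rw [← mul_eq_one_iff_eq_inv, ← QuotientGroup.eq_one_iff]; rfl
  have hact' : ∀ c : ↥(Subgroup.centralizer ({z} : Set G)), (c : ↥(Subgroup.centralizer ({z} : Set G)) ⧸ Q) * qr * (c : ↥(Subgroup.centralizer ({z} : Set G)) ⧸ Q)⁻¹ = qr ∨ (c : ↥(Subgroup.centralizer ({z} : Set G)) ⧸ Q) * qr * (c : ↥(Subgroup.centralizer ({z} : Set G)) ⧸ Q)⁻¹ = qr⁻¹ :=
    fun c => (hact c).imp (hsame c).mp (hflip c).mp
  have hcentral : ∀ m ∈ M, m * r * m⁻¹ * r⁻¹ ∈ Q := by
    let H' : Subgroup ↥(Subgroup.centralizer ({z} : Set G)) := (Subgroup.centralizer ({qr} : Set (↥(Subgroup.centralizer ({z} : Set G)) ⧸ Q))).comap (QuotientGroup.mk' Q)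
    have hH : ∀ c : ↥(Subgroup.centralizer ({z} : Set G)), c ∈ H' ↔ c * r * c⁻¹ * r⁻¹ ∈ Q := fun c => by
      rw [hsame, mul_inv_eq_iff_eq_mul]
      exact Subgroup.mem_centralizer_singleton_iff
    have hcomm : ⁅M, M⁆ ≤ H' := by
      rw [Subgroup.commutator_le]
      intro a _ b _
      rw [hH, hsame, commutatorElement_def]
      have key : ∀ a b u v : ↥(Subgroup.centralizer ({z} : Set G)) ⧸ Q, a * u * a⁻¹ = v → a⁻¹ * v * a = u := fun a _ u v h => by rw [← h]; group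
      show (a : ↥(Subgroup.centralizer ({z} : Set G)) ⧸ Q) * b * (a : ↥(Subgroup.centralizer ({z} : Set G)) ⧸ Q)⁻¹ * (b : ↥(Subgroup.centralizer ({z} : Set G)) ⧸ Q)⁻¹ * qr *
        ((a : ↥(Subgroup.centralizer ({z} : Set G)) ⧸ Q) * b * (a : ↥(Subgroup.centralizer ({z} : Set G)) ⧸ Q)⁻¹ * (b : ↥(Subgroup.centralizer ({z} : Set G)) ⧸ Q)⁻¹)⁻¹ = qr
      rw [show (a : ↥(Subgroup.centralizer ({z} : Set G)) ⧸ Q) * b * (a : ↥(Subgroup.centralizer ({z} : Set G)) ⧸ Q)⁻¹ * (b : ↥(Subgroup.centralizer ({z} : Set G)) ⧸ Q)⁻¹ * qr *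
          ((a : ↥(Subgroup.centralizer ({z} : Set G)) ⧸ Q) * b * (a : ↥(Subgroup.centralizer ({z} : Set G)) ⧸ Q)⁻¹ * (b : ↥(Subgroup.centralizer ({z} : Set G)) ⧸ Q)⁻¹)⁻¹ =
          (a : ↥(Subgroup.centralizer ({z} : Set G)) ⧸ Q) * ((b : ↥(Subgroup.centralizer ({z} : Set G)) ⧸ Q) * ((a : ↥(Subgroup.centralizer ({z} : Set G)) ⧸ Q)⁻¹ * ((b : ↥(Subgroup.centralizer ({z} : Set G)) ⧸ Q)⁻¹ * qr * b) * a) * (b : ↥(Subgroup.centralizer ({z} : Set G)) ⧸ Q)⁻¹) *
            (a : ↥(Subgroup.centralizer ({z} : Set G)) ⧸ Q)⁻¹ by group]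
      have inv' : ∀ c : ↥(Subgroup.centralizer ({z} : Set G)), (c : ↥(Subgroup.centralizer ({z} : Set G)) ⧸ Q) * qr⁻¹ * (c : ↥(Subgroup.centralizer ({z} : Set G)) ⧸ Q)⁻¹ = ((c : ↥(Subgroup.centralizer ({z} : Set G)) ⧸ Q) * qr * (c : ↥(Subgroup.centralizer ({z} : Set G)) ⧸ Q)⁻¹)⁻¹ := fun c => by
        group
      have back : ∀ c : ↥(Subgroup.centralizer ({z} : Set G)), (((c : ↥(Subgroup.centralizer ({z} : Set G)) ⧸ Q) * qr * (c : ↥(Subgroup.centralizer ({z} : Set G)) ⧸ Q)⁻¹ = qr ∧ (c : ↥(Subgroup.centralizer ({z} : Set G)) ⧸ Q)⁻¹ * qr * c = qr ∧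
          (c : ↥(Subgroup.centralizer ({z} : Set G)) ⧸ Q) * qr⁻¹ * (c : ↥(Subgroup.centralizer ({z} : Set G)) ⧸ Q)⁻¹ = qr⁻¹ ∧ (c : ↥(Subgroup.centralizer ({z} : Set G)) ⧸ Q)⁻¹ * qr⁻¹ * c = qr⁻¹) ∨
          ((c : ↥(Subgroup.centralizer ({z} : Set G)) ⧸ Q) * qr * (c : ↥(Subgroup.centralizer ({z} : Set G)) ⧸ Q)⁻¹ = qr⁻¹ ∧ (c : ↥(Subgroup.centralizer ({z} : Set G)) ⧸ Q)⁻¹ * qr * c = qr⁻¹ ∧
          (c : ↥(Subgroup.centralizer ({z} : Set G)) ⧸ Q) * qr⁻¹ * (c : ↥(Subgroup.centralizer ({z} : Set G)) ⧸ Q)⁻¹ = qr ∧ (c : ↥(Subgroup.centralizer ({z} : Set G)) ⧸ Q)⁻¹ * qr⁻¹ * c = qr)) := fun c => by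
        rcases hact' c with e | e
        · have e' := inv' c; rw [e] at e'
          exact Or.inl ⟨e, key _ (c : ↥(Subgroup.centralizer ({z} : Set G)) ⧸ Q) _ _ e, e', key _ (c : ↥(Subgroup.centralizer ({z} : Set G)) ⧸ Q) _ _ e'⟩
        · have e' := inv' c; rw [e, inv_inv] at e'
          exact Or.inr ⟨e, key _ (c : ↥(Subgroup.centralizer ({z} : Set G)) ⧸ Q) _ _ e', e', key _ (c : ↥(Subgroup.centralizer ({z} : Set G)) ⧸ Q) _ _ e⟩
      rcases back a with ⟨a1, a2, a3, a4⟩ | ⟨a1, a2, a3, a4⟩ <;>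
        rcases back b with ⟨b1, b2, b3, b4⟩ | ⟨b1, b2, b3, b4⟩
      · rw [b2, a2, b1, a1]
      · rw [b2, a4, b3, a1]
      · rw [b2, a2, b3, a3]
      · rw [b2, a4, b1, a3]
    intro m hm
    obtain ⟨k, hk, hkq⟩ := H.perfect m hm
    have hQH : Q ≤ H' := fun q hq => by
      show (q : ↥(Subgroup.centralizer ({z} : Set G)) ⧸ Q) ∈ Subgroup.centralizer ({qr} : Set (↥(Subgroup.centralizer ({z} : Set G)) ⧸ Q))
      exact ((QuotientGroup.eq_one_iff q).mpr hq).symm ▸ one_mem (Subgroup.centralizer ({qr} : Set (↥(Subgroup.centralizer ({z} : Set G)) ⧸ Q)))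
    have := mul_mem (hcomm hk) (hQH hkq)
    rw [mul_inv_cancel_left] at this
    exact (hH m).mp this
  have hinvert : ∀ c : ↥(Subgroup.centralizer ({z} : Set G)), c ∉ M → c * r * c⁻¹ * r ∈ Q := by
    obtain ⟨h, n, hn, hne⟩ := H.invert
    have hqn : (h : ↥(Subgroup.centralizer ({z} : Set G)) ⧸ Q) * (n : ↥(Subgroup.centralizer ({z} : Set G)) ⧸ Q) * (h : ↥(Subgroup.centralizer ({z} : Set G)) ⧸ Q)⁻¹ ≠ n := fun e => hne (by
      rw [← QuotientGroup.eq_one_iff]
      show (h : ↥(Subgroup.centralizer ({z} : Set G)) ⧸ Q) * n * (h : ↥(Subgroup.centralizer ({z} : Set G)) ⧸ Q)⁻¹ * (n : ↥(Subgroup.centralizer ({z} : Set G)) ⧸ Q)⁻¹ = 1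
      rw [e, mul_inv_cancel])
    have hhr : (h : ↥(Subgroup.centralizer ({z} : Set G)) ⧸ Q) * qr * (h : ↥(Subgroup.centralizer ({z} : Set G)) ⧸ Q)⁻¹ ≠ qr := by
      intro e
      apply hqn
      obtain ⟨q, hq, rfl | rfl | rfl⟩ := hcosets n hn
      · rw [(QuotientGroup.eq_one_iff n).mpr hq]; group
      · show (h : ↥(Subgroup.centralizer ({z} : Set G)) ⧸ Q) * (qr * (q : ↥(Subgroup.centralizer ({z} : Set G)) ⧸ Q)) * (h : ↥(Subgroup.centralizer ({z} : Set G)) ⧸ Q)⁻¹ = qr * q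
        rw [(QuotientGroup.eq_one_iff q).mpr hq, mul_one, e]
      · show (h : ↥(Subgroup.centralizer ({z} : Set G)) ⧸ Q) * (qr⁻¹ * (q : ↥(Subgroup.centralizer ({z} : Set G)) ⧸ Q)) * (h : ↥(Subgroup.centralizer ({z} : Set G)) ⧸ Q)⁻¹ = qr⁻¹ * q
        rw [(QuotientGroup.eq_one_iff q).mpr hq, mul_one]
        calc (h : ↥(Subgroup.centralizer ({z} : Set G)) ⧸ Q) * qr⁻¹ * (h : ↥(Subgroup.centralizer ({z} : Set G)) ⧸ Q)⁻¹ = ((h : ↥(Subgroup.centralizer ({z} : Set G)) ⧸ Q) * qr * (h : ↥(Subgroup.centralizer ({z} : Set G)) ⧸ Q)⁻¹)⁻¹ := by group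
          _ = qr⁻¹ := by rw [e]
    have hhM : h ∉ M := fun hm => hhr ((hsame h).mp (hcentral h hm))
    intro c hc
    refine (hflip c).mpr ((hact' c).resolve_left fun e => ?_)
    have hch : c * h ∈ M := (Subgroup.mul_mem_iff_of_index_two hM).mpr ⟨fun h' => absurd h' hc, fun h' => absurd h' hhM⟩
    have e1 := (hsame _).mp (hcentral _ hch)
    apply hhr
    calc (h : ↥(Subgroup.centralizer ({z} : Set G)) ⧸ Q) * qr * (h : ↥(Subgroup.centralizer ({z} : Set G)) ⧸ Q)⁻¹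
        = (c : ↥(Subgroup.centralizer ({z} : Set G)) ⧸ Q)⁻¹ * (((c * h : ↥(Subgroup.centralizer ({z} : Set G))) : ↥(Subgroup.centralizer ({z} : Set G)) ⧸ Q) * qr * ((c * h : ↥(Subgroup.centralizer ({z} : Set G))) : ↥(Subgroup.centralizer ({z} : Set G)) ⧸ Q)⁻¹) * c := by
          rw [QuotientGroup.mk_mul]; group
      _ = (c : ↥(Subgroup.centralizer ({z} : Set G)) ⧸ Q)⁻¹ * ((c : ↥(Subgroup.centralizer ({z} : Set G)) ⧸ Q) * qr * (c : ↥(Subgroup.centralizer ({z} : Set G)) ⧸ Q)⁻¹) * c := by rw [e1, e]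
      _ = qr := by group
  have hMcard : ¬ 2 ^ 21 ∣ Nat.card ↥(M.map (Subgroup.centralizer ({z} : Set G)).subtype) := by
    rw [Subgroup.card_map_of_injective (Subgroup.centralizer ({z} : Set G)).subtype_injective]
    have h1 := Subgroup.card_eq_card_quotient_mul_card_subgroup (N.subgroupOf M)
    rw [Nat.card_congr e.toEquiv, CfsgLib.U43Mult.psu_card hK, Nat.card_congr (Subgroup.subgroupOfEquivOfLe hNM).toEquiv,
      hN, hcard] at h1
    rw [h1]
    norm_num
  have cj_of : ∀ {s : G}, Cj z s → IsConj z s := fun {s} ⟨g, hg⟩ => isConj_iff.mpr ⟨g, hg⟩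
  refine ⟨⟨hz, hes, hEG, hQcard, hcore ▸ Subgroup.map_mono (hQN.trans hNM), ?_, ?_, hMcard, hr3,
    memM.mpr (hNM hrN), ?_, ?_, ?_, ⟨_, ⟨g₀, rfl⟩, memQ.mpr hg₀Q, hg₀ne⟩, ?_, ?_⟩, ?_, hcore⟩
  · rintro _ ⟨m, -, rfl⟩; exact memC.mp m.2
  · intro a b ha hb haM hbM
    exact memM.mpr (show (⟨a, memC.mpr ha⟩ * ⟨b, memC.mpr hb⟩ : ↥(Subgroup.centralizer ({z} : Set G))) ∈ M from
      (Subgroup.mul_mem_iff_of_index_two hM).mpr ⟨fun h => absurd (memM.mpr h) haM, fun h => absurd (memM.mpr h) hbM⟩)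
  · intro q hq hf
    obtain ⟨q, hq', rfl⟩ := hcore.ge hq
    have hzz : z * z = 1 := hes.zz
    have h1 : ((r * q * r⁻¹ * q⁻¹ : ↥(Subgroup.centralizer ({z} : Set G))) : G) ∈ Subgroup.zpowers z := by
      show (r : G) * q * (r : G)⁻¹ * (q : G)⁻¹ ∈ Subgroup.zpowers z
      rcases hf with f | f <;> rw [show ((Subgroup.centralizer ({z} : Set G)).subtype q : G) = (q : G) from rfl] at f <;> rw [f]
      · rw [mul_inv_cancel]; exact one_mem _
      · rw [memC.mp q.2, mul_inv_cancel_right]; exact Subgroup.mem_zpowers z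
    obtain ⟨k, hk⟩ := H.fpf r hrN hrQ q hq' h1
    show (q : G) = 1 ∨ (q : G) = z
    rw [← hk]
    rcases Int.even_or_odd k with ⟨t, rfl⟩ | ⟨t, rfl⟩
    · left
      show z ^ (t + t) = 1
      rw [← two_mul, zpow_mul, show z ^ (2 : ℤ) = 1 by rw [zpow_two]; exact hzz, one_zpow]
    · right
      show z ^ (2 * t + 1) = z
      rw [zpow_add_one, zpow_mul, show z ^ (2 : ℤ) = 1 by rw [zpow_two]; exact hzz, one_zpow, one_mul]
  · rintro _ ⟨m, hm, rfl⟩
    exact memQ.mpr (show (m * r * m⁻¹ * r⁻¹ : ↥(Subgroup.centralizer ({z} : Set G))) ∈ Q from hcentral m hm)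
  · intro c hc hcM
    exact memQ.mpr (show (⟨c, memC.mpr hc⟩ * r * ⟨c, memC.mpr hc⟩⁻¹ * r : ↥(Subgroup.centralizer ({z} : Set G))) ∈ Q from
      hinvert _ fun h => hcM (memM.mpr h))
  · rintro s ⟨g, hg⟩ hsQ hne
    obtain ⟨-, h, -⟩ := H.pair s ⟨memC.mpr (hes.comm s hsQ), memQ.mp hsQ⟩ (cj_of ⟨g, hg⟩) hne g hg _ _ rfl rfl
    rw [← hQG, hcore, show (coreCent z).map (MulAut.conj g).toMonoidHom = coreCent s by rw [← hg, coreCent_conj]; rfl] at h
    exact h
  · rintro s ⟨g, hg⟩ hsQ hne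
    obtain ⟨-, -, -, -, -, -, hn, ⟨ι⟩⟩ :=
      H.pair s ⟨memC.mpr (hes.comm s hsQ), memQ.mp hsQ⟩ (cj_of ⟨g, hg⟩) hne g hg _ _ rfl rfl
    set X := (((Subgroup.centralizer ({z} : Set G)) ⊓ Subgroup.centralizer ({s} : Set G)).subgroupOf (Subgroup.centralizer ({z} : Set G))).map (QuotientGroup.mk' Q) with hXdef
    set E := (((Q.map (Subgroup.centralizer ({z} : Set G)).subtype).map (MulAut.conj g).toMonoidHom ⊓ (Subgroup.centralizer ({z} : Set G))).subgroupOf (Subgroup.centralizer ({z} : Set G))).map (QuotientGroup.mk' Q) with hEdef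
    let f : ↥((Subgroup.centralizer ({z} : Set G)) ⊓ Subgroup.centralizer ({s} : Set G)) →* ↥X :=
      { toFun := fun c => ⟨QuotientGroup.mk ⟨c, c.2.1⟩, ⟨⟨c, c.2.1⟩, c.2, rfl⟩⟩
        map_one' := Subtype.ext rfl
        map_mul' := fun a b => Subtype.ext rfl }
    have hfs : Function.Surjective f := by
      rintro ⟨y, c, hc, rfl⟩
      exact ⟨⟨c, hc⟩, rfl⟩
    let φ : ↥((Subgroup.centralizer ({z} : Set G)) ⊓ Subgroup.centralizer ({s} : Set G)) →* A6 :=
      (ι.toMonoidHom.comp (QuotientGroup.mk' (E.subgroupOf X))).comp f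
    refine ⟨φ, (ι.surjective.comp (QuotientGroup.mk'_surjective _)).comp hfs, fun c => ?_⟩
    show ι (QuotientGroup.mk (f c)) = 1 ↔ _
    rw [ι.map_eq_one_iff, QuotientGroup.eq_one_iff, Subgroup.mem_subgroupOf]
    have hconj : (Q.map (Subgroup.centralizer ({z} : Set G)).subtype).map (MulAut.conj g).toMonoidHom = coreCent s := by
      rw [← hQG, ← hg, hcore, coreCent_conj]; rfl
    constructor
    · rintro ⟨⟨u, huC⟩, hu, e'⟩
      obtain ⟨hu1, -⟩ := hu
      rw [hconj] at hu1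
      have e'' : ((⟨c, c.2.1⟩ : ↥(Subgroup.centralizer ({z} : Set G))) * ⟨u, huC⟩⁻¹) ∈ Q := by
        rw [← QuotientGroup.eq_one_iff, QuotientGroup.mk_mul, QuotientGroup.mk_inv]
        have : (QuotientGroup.mk (⟨u, huC⟩ : ↥(Subgroup.centralizer ({z} : Set G))) : ↥(Subgroup.centralizer ({z} : Set G)) ⧸ Q) = QuotientGroup.mk (⟨c, c.2.1⟩ : ↥(Subgroup.centralizer ({z} : Set G))) := e'
        rw [this, mul_inv_cancel]
      exact ⟨(c : G) * u⁻¹, memQ.mpr e'', u, hu1, memC.mp huC, (inv_mul_cancel_right (c : G) u).symm⟩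
    · rintro ⟨q, hq, u, hu, huz, e'⟩
      refine ⟨⟨u, memC.mpr huz⟩, ⟨by rw [hconj]; exact hu, memC.mpr huz⟩, ?_⟩
      show (QuotientGroup.mk (⟨u, memC.mpr huz⟩ : ↥(Subgroup.centralizer ({z} : Set G))) : ↥(Subgroup.centralizer ({z} : Set G)) ⧸ Q) = QuotientGroup.mk (⟨c, c.2.1⟩ : ↥(Subgroup.centralizer ({z} : Set G)))
      have hqC : q ∈ (Subgroup.centralizer ({z} : Set G)) := memC.mpr (hes.comm q hq)
      have hq' : (⟨q, hqC⟩ : ↥(Subgroup.centralizer ({z} : Set G))) ∈ Q := memQ.mp hq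
      rw [show (⟨c, c.2.1⟩ : ↥(Subgroup.centralizer ({z} : Set G))) = ⟨q, hqC⟩ * ⟨u, memC.mpr huz⟩ from Subtype.ext e', QuotientGroup.mk_mul,
        (QuotientGroup.eq_one_iff _).mpr hq', one_mul]
  · rintro _ ⟨m, hm, rfl⟩
    obtain ⟨k, hk, hkq⟩ := H.perfect m hm
    refine ⟨k, ?_, memQ.mpr (show k⁻¹ * m ∈ Q from hkq)⟩
    rw [← Subgroup.map_commutator]
    exact Subgroup.mem_map_of_mem _ hk

/-- The conclusion about the normalizer of the eight-group, given the facts. -/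
theorem shape_of {z : G} {Q N M : Subgroup (Subgroup.centralizer ({z} : Set G))} [Q.Normal] [N.Normal] [M.Normal]
    (hset : IsExtraspecialCentralizerSetting z Q 6) (hQN : Q ≤ N) (hNM : N ≤ M)
    (hN : Nat.card N = 3 * Nat.card Q) {K : Type} [Field K] [Fintype K] (hK : Fintype.card K = 9)
    (e : M ⧸ N.subgroupOf M ≃* PSU 4 K 3) (hM : M.index = 2) (H : Facts z Q N M) :
    ∃ V : Subgroup G, Cfsg.IsElementaryAbelian 2 V ∧ Nat.card V = 8 ∧ z ∈ V ∧
      ∃ R : Subgroup G, R = (Cfsg.pCore 2 ↥(Subgroup.normalizer (V : Set G))).map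
          (Subgroup.normalizer (V : Set G)).subtype ∧ Cfsg.IsSpecial 2 ↥R ∧ Nat.card R = 2 ^ 15 ∧
        (Subgroup.center ↥R).map R.subtype = V ∧
        ∃ _ : (R.subgroupOf (Subgroup.normalizer (V : Set G))).Normal,
          Nonempty (↥(Subgroup.normalizer (V : Set G)) ⧸ R.subgroupOf (Subgroup.normalizer (V : Set G)) ≃*
            Matrix.SpecialLinearGroup (Fin 3) (ZMod 2) × ↥(alternatingGroup (Fin 6))) := by
  have : Fact (Nat.Prime 3) := ⟨Nat.prime_three⟩
  obtain ⟨r, hr⟩ := exists_prime_orderOf_dvd_card' (G := ↥N) 3 (by rw [hN]; exact dvd_mul_right _ _)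
  exact (setup_of hset hQN hNM hN hK e hM H r.2 (by rw [Subgroup.orderOf_coe, hr])).1.shape

/-- The centralizer of a subgroup of order three mapping onto the three-core is quasisimple. -/
theorem cover_of {z : G} {Q N M : Subgroup (Subgroup.centralizer ({z} : Set G))} [Q.Normal] [N.Normal] [M.Normal]
    (hset : IsExtraspecialCentralizerSetting z Q 6) (hQN : Q ≤ N) (hNM : N ≤ M)
    (hN : Nat.card N = 3 * Nat.card Q) {K : Type} [Field K] [Fintype K] (hK : Fintype.card K = 9)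
    (e : M ⧸ N.subgroupOf M ≃* PSU 4 K 3) (hM : M.index = 2) (H : Facts z Q N M)
    (X : Subgroup (Subgroup.centralizer ({z} : Set G))) (hX : Nat.card X = 3) (hXQ : (X ⊔ Q).Normal) :
    Cfsg.IsQuasisimple ↥(Subgroup.centralizer (X : Set (Subgroup.centralizer ({z} : Set G)))) ∧
    IsCyclic ↥(Subgroup.center ↥(Subgroup.centralizer (X : Set (Subgroup.centralizer ({z} : Set G))))) ∧
    Nat.card ↥(Subgroup.center ↥(Subgroup.centralizer (X : Set (Subgroup.centralizer ({z} : Set G))))) = 6 ∧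
    Nonempty (↥(Subgroup.centralizer (X : Set (Subgroup.centralizer ({z} : Set G)))) ⧸
      Subgroup.center ↥(Subgroup.centralizer (X : Set (Subgroup.centralizer ({z} : Set G)))) ≃* PSU 4 K 3) := by
  classical
  have : Fact (Nat.Prime 3) := ⟨Nat.prime_three⟩
  have hsimple : IsSimpleGroup (PSU 4 K 3) :=
    CfsgLib.UnitarySimple.simple (F := K) (q := 3) (by rw [hK]; norm_num) (by norm_num) (by norm_num)
  obtain ⟨r, hr⟩ := exists_prime_orderOf_dvd_card' (G := ↥X) 3 (by rw [hX])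
  have hgen : ∀ y ∈ X, y ∈ Subgroup.zpowers (r : ↥(Subgroup.centralizer ({z} : Set G))) := fun y hy => by
    obtain ⟨k, hk⟩ := mem_zpowers_of_prime_card hX (g := r) (g' := ⟨y, hy⟩) (fun h => by rw [h, orderOf_one] at hr; omega)
    exact ⟨k, congrArg Subtype.val hk⟩
  -- `X` lies in `N`
  have hXN : X ≤ N := by
    have hsq : ∀ y : ↥(Subgroup.centralizer ({z} : Set G)), y * y ∈ M := fun y => Subgroup.mul_self_mem_of_index_two hM y
    have hXM : X ≤ M := by
      intro y hy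
      have h3 : y ^ 3 = 1 := by
        have := congrArg Subtype.val (pow_card_eq_one' (x := (⟨y, hy⟩ : X)))
        rwa [hX] at this
      have h4 : (y * y) * (y * y) = y := by
        rw [show (y * y) * (y * y) = y ^ 3 * y by simp [pow_succ, mul_assoc], h3, one_mul]
      rw [← h4]
      exact mul_mem (hsq y) (hsq y)
    have hJ : X ⊔ Q ≤ M := sup_le hXM (hQN.trans hNM)
    let f := e.toMonoidHom.comp (QuotientGroup.mk' (N.subgroupOf M))
    have hf : Function.Surjective f := e.surjective.comp (QuotientGroup.mk'_surjective _)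
    have hn : (((X ⊔ Q).subgroupOf M).map f).Normal := Subgroup.Normal.map inferInstance f hf
    intro y hy
    rcases hn.eq_bot_or_eq_top with h | h
    · have h1 : f ⟨y, hXM hy⟩ = 1 := Subgroup.mem_bot.mp (h ▸ ⟨⟨y, hXM hy⟩, Subgroup.mem_sup_left hy, rfl⟩)
      have h2 : (QuotientGroup.mk (⟨y, hXM hy⟩ : ↥M) : ↥M ⧸ N.subgroupOf M) = 1 :=
        e.map_eq_one_iff.mp h1
      exact Subgroup.mem_subgroupOf.mp ((QuotientGroup.eq_one_iff (⟨y, hXM hy⟩ : ↥M)).mp h2)
    · exfalso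
      have hcard := Subgroup.card_dvd_of_surjective
        (f.comp ((X ⊔ Q).subgroupOf M).subtype) fun a => by
          obtain ⟨b, hb, rfl⟩ : a ∈ ((X ⊔ Q).subgroupOf M).map f := h ▸ Subgroup.mem_top a
          exact ⟨⟨b, hb⟩, rfl⟩
      rw [Nat.card_congr (Subgroup.subgroupOfEquivOfLe hJ).toEquiv, CfsgLib.U43Mult.psu_card hK] at hcard
      have hc := CfsgLib.CentrallyLarge.card_sup_mul_card_inf (H := Q) (K := X)
        (le_norm fun a _ q hq => Subgroup.Normal.conj_mem inferInstance q hq a)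
      rw [sup_comm, hset.2.2.2.1, hX] at hc
      have hdvd : Nat.card ↥(X ⊔ Q) ∣ 3 * 2 ^ 13 := Dvd.intro _ (by rw [hc]; norm_num)
      exact absurd (hcard.trans hdvd) (by norm_num)
  obtain ⟨S, hperf, hcore⟩ :=
    setup_of hset hQN hNM hN hK e hM H (r := (r : ↥(Subgroup.centralizer ({z} : Set G)))) (hXN r.2) (by rw [Subgroup.orderOf_coe, hr])
  set ρ : G := ((r : ↥(Subgroup.centralizer ({z} : Set G))) : G)
  set CX := Subgroup.centralizer (X : Set ↥(Subgroup.centralizer ({z} : Set G)))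
  have memC : ∀ {c : G}, c ∈ (Subgroup.centralizer ({z} : Set G)) ↔ c * z = z * c := fun {c} => Subgroup.mem_centralizer_singleton_iff
  have memCX : ∀ c : ↥(Subgroup.centralizer ({z} : Set G)), c ∈ CX ↔ (c : G) ∈ cx z ρ := fun c => by
    rw [mem_cx]
    refine ⟨fun h => ⟨memC.mp c.2, congrArg Subtype.val ((Subgroup.mem_centralizer_iff.mp h r r.2).symm)⟩,
      fun h => Subgroup.mem_centralizer_iff.mpr fun y hy => ?_⟩
    obtain ⟨k, rfl⟩ := hgen y hy
    exact ((show Commute c (r : ↥(Subgroup.centralizer ({z} : Set G))) from Subtype.ext h.2).zpow_right k).eq.symm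
  have hmap : CX.map (Subgroup.centralizer ({z} : Set G)).subtype = cx z ρ := by
    refine le_antisymm ?_ fun c hc => ⟨⟨c, memC.mpr (mem_cx.mp hc).1⟩, (memCX _).mpr hc, rfl⟩
    rintro _ ⟨c, hc, rfl⟩; exact (memCX c).mp hc
  have hperfect : commutator ↥CX = ⊤ := by
    refine Subgroup.map_injective (f := (Subgroup.centralizer ({z} : Set G)).subtype.comp CX.subtype) ((Subgroup.centralizer ({z} : Set G)).subtype_injective.comp CX.subtype_injective) ?_
    rw [← Subgroup.map_map, ← Subgroup.map_map, commutator_def, Subgroup.map_commutator, Subgroup.map_commutator,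
      ← MonoidHom.range_eq_map, Subgroup.range_subtype, hmap]
    exact S.cx_perfect hperf
  -- the map onto the simple quotient
  have hCXM : CX ≤ M := fun c hc => by
    obtain ⟨d, hd, he⟩ := S.cx_le_M ((memCX c).mp hc)
    exact Subtype.ext (show (d : G) = c from he) ▸ hd
  let f : ↥CX →* PSU 4 K 3 := (e.toMonoidHom.comp (QuotientGroup.mk' (N.subgroupOf M))).comp (Subgroup.inclusion hCXM)
  have hNq : ∀ q : ↥(Subgroup.centralizer ({z} : Set G)), (q : G) ∈ coreCent z → q ∈ N := fun q hq => by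
    obtain ⟨d, hd, he⟩ := hcore.ge hq
    exact hQN (Subtype.ext (show (d : G) = q from he) ▸ hd)
  have hfs : Function.Surjective f := by
    intro a
    obtain ⟨b, rfl⟩ := e.surjective a
    obtain ⟨m, rfl⟩ := QuotientGroup.mk'_surjective _ b
    obtain ⟨c, hc, hcm⟩ := S.cx_cover (show ((m : ↥(Subgroup.centralizer ({z} : Set G))) : G) ∈ M.map (Subgroup.centralizer ({z} : Set G)).subtype from ⟨m, m.2, rfl⟩)
    refine ⟨⟨⟨c, memC.mpr (mem_cx.mp hc).1⟩, (memCX _).mpr hc⟩, congrArg e ?_⟩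
    show (QuotientGroup.mk _ : ↥M ⧸ N.subgroupOf M) = QuotientGroup.mk m
    rw [QuotientGroup.eq, Subgroup.mem_subgroupOf]
    exact hNq _ hcm
  have hzC : z ∈ (Subgroup.centralizer ({z} : Set G)) := memC.mpr rfl
  -- the kernel is central
  have hrc : ρ ∈ cx z ρ := mem_cx.mpr ⟨S.rho_z, rfl⟩
  have hker_le : f.ker ≤ Subgroup.center ↥CX := by
    intro c hc
    have hcN : (c : ↥(Subgroup.centralizer ({z} : Set G))) ∈ N := by
      have h1 : (QuotientGroup.mk (Subgroup.inclusion hCXM c) : ↥M ⧸ N.subgroupOf M) = 1 :=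
        e.map_eq_one_iff.mp (MonoidHom.mem_ker.mp hc)
      exact Subgroup.mem_subgroupOf.mp ((QuotientGroup.eq_one_iff (Subgroup.inclusion hCXM c)).mp h1)
    -- `N` is `X Q`
    have hNeq : X ⊔ Q = N := by
      refine Subgroup.eq_of_le_of_card_ge (sup_le hXN hQN) ?_
      have h := CfsgLib.CentrallyLarge.card_sup_mul_card_inf (H := Q) (K := X)
        (le_norm fun a _ q hq => Subgroup.Normal.conj_mem inferInstance q hq a)
      have h2 : Nat.card ↥(Q ⊓ X) = 1 :=
        by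
        rw [Subgroup.inf_eq_bot_of_coprime (H := Q) (K := X) (by rw [hX, hset.2.2.2.1]; norm_num), Subgroup.card_bot]
      rw [h2, mul_one, sup_comm] at h
      rw [h, hN, mul_comm]
      exact le_of_eq (by rw [hX])
    rw [← hNeq] at hcN
    obtain ⟨y, hy, q, hq, hyq⟩ :=
      mem_sup (le_norm fun a _ q hq => Subgroup.Normal.conj_mem inferInstance q hq a) hcN
    obtain ⟨k, hk⟩ := hgen y hy
    have hqz : (q : G) = 1 ∨ (q : G) = z := by
      refine S.cx_core ?_ (hcore ▸ ⟨q, hq, rfl⟩)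
      have h1 : (c : ↥(Subgroup.centralizer ({z} : Set G))) ∈ CX := c.2
      have h2 : q ∈ CX := by
        have hyc : y ∈ CX := Subgroup.mem_centralizer_iff.mpr fun b hb => by
          obtain ⟨l, rfl⟩ := hgen b hb
          rw [← hk]; exact ((Commute.refl (r : ↥(Subgroup.centralizer ({z} : Set G)))).zpow_zpow l k).eq
        have := mul_mem (inv_mem hyc) h1
        rwa [hyq, inv_mul_cancel_left] at this
      exact (memCX q).mp h2
    rw [Subgroup.mem_center_iff]
    intro d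
    refine Subtype.ext ?_
    show (d : ↥(Subgroup.centralizer ({z} : Set G))) * c = c * d
    rw [hyq]
    have hdy : Commute (d : ↥(Subgroup.centralizer ({z} : Set G))) y := (Subgroup.mem_centralizer_iff.mp d.2 y hy).symm
    have hdq : Commute (d : ↥(Subgroup.centralizer ({z} : Set G))) q := by
      rcases hqz with h | h
      · rw [show q = 1 from Subtype.ext h]; exact Commute.one_right _
      · exact Subtype.ext (by rw [Subgroup.coe_mul, Subgroup.coe_mul, h]; exact memC.mp (d : ↥(Subgroup.centralizer ({z} : Set G))).2)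
    exact (hdy.mul_right hdq).eq
  have hcen : Subgroup.center ↥CX = f.ker := by
    refine le_antisymm ?_ hker_le
    have hn : ((Subgroup.center ↥CX).map f).Normal := Subgroup.Normal.map inferInstance f hfs
    rcases hn.eq_bot_or_eq_top with h | h
    · exact (Subgroup.map_eq_bot_iff _).mp h
    · exfalso
      have hab : ∀ a b : ↥CX, a * b = b * a := by
        have hcentral : ∀ a : PSU 4 K 3, ∀ b, a * b = b * a := fun a b => by
          obtain ⟨a, ha, rfl⟩ : a ∈ (Subgroup.center ↥CX).map f := h ▸ Subgroup.mem_top a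
          obtain ⟨b, rfl⟩ := hfs b
          rw [← map_mul, ← map_mul, Subgroup.mem_center_iff.mp ha b]
        have hle : commutator ↥CX ≤ f.ker := by
          rw [commutator_def, Subgroup.commutator_le]
          intro a _ b _
          rw [MonoidHom.mem_ker, map_commutatorElement, commutatorElement_eq_one_iff_mul_comm]
          exact hcentral _ _
        intro a b
        exact Subgroup.mem_center_iff.mp (hker_le (hle (hperfect ▸ Subgroup.mem_top b))) a
      have hbot : commutator ↥CX = ⊥ := by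
        rw [eq_bot_iff, commutator_def, Subgroup.commutator_le]
        intro a _ b _
        rw [Subgroup.mem_bot, commutatorElement_eq_one_iff_mul_comm]
        exact hab a b
      rw [hperfect] at hbot
      have h1 : (⟨⟨z, hzC⟩, (memCX _).mpr (mem_cx.mpr ⟨rfl, S.rho_z.symm⟩)⟩ : ↥CX) ∈ (⊥ : Subgroup ↥CX) :=
        hbot ▸ Subgroup.mem_top _
      exact S.es.ne (congrArg (fun a : ↥CX => ((a : ↥(Subgroup.centralizer ({z} : Set G))) : G)) (Subgroup.mem_bot.mp h1))
  let ι : ↥CX ⧸ Subgroup.center ↥CX ≃* PSU 4 K 3 :=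
    (QuotientGroup.quotientMulEquivOfEq hcen).trans (QuotientGroup.quotientKerEquivOfSurjective f hfs)
  -- the centre has order six, generated by `r z`
  have hw : (⟨ρ * z, memC.mpr (Commute.mul_left S.rho_z rfl)⟩ : ↥(Subgroup.centralizer ({z} : Set G))) ∈ CX :=
    (memCX _).mpr (mem_cx.mpr ⟨Commute.mul_left S.rho_z rfl, Commute.mul_left rfl S.rho_z.symm⟩)
  set w : ↥CX := ⟨_, hw⟩
  have hword : orderOf w = 6 := by
    rw [← Subgroup.orderOf_coe, ← Subgroup.orderOf_coe]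
    show orderOf (ρ * z) = 6
    rw [(show Commute ρ z from S.rho_z).orderOf_mul_eq_mul_orderOf_of_coprime (by rw [S.rho_ord, S.hz]; norm_num),
      S.rho_ord, S.hz]
  have hwc : w ∈ Subgroup.center ↥CX := by
    rw [Subgroup.mem_center_iff]
    intro d
    refine Subtype.ext (Subtype.ext ?_)
    exact Commute.mul_right ((mem_cx.mp ((memCX _).mp d.2)).2) ((mem_cx.mp ((memCX _).mp d.2)).1)
  have hall : ∀ c ∈ Subgroup.center ↥CX, c ∈ Subgroup.zpowers w := by
    have h1 : ∀ t : G, (t = ρ ∨ t = z) → t ∈ Subgroup.zpowers (ρ * z) := by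
      have hc : Commute ρ z := S.rho_z
      have h3 : ρ ^ 3 = 1 := by rw [← S.rho_ord, pow_orderOf_eq_one]
      rintro t (e | e) <;> rw [e]
      · refine ⟨4, ?_⟩
        show (ρ * z) ^ (4 : ℤ) = ρ
        rw [show (4 : ℤ) = ((4 : ℕ) : ℤ) from rfl, zpow_natCast, hc.mul_pow, pow_succ ρ 3, h3, one_mul,
          show z ^ 4 = (z * z) ^ 2 by rw [← pow_two, ← pow_mul], S.zz, one_pow, mul_one]
      · refine ⟨3, ?_⟩
        show (ρ * z) ^ (3 : ℤ) = z
        rw [show (3 : ℤ) = ((3 : ℕ) : ℤ) from rfl, zpow_natCast, hc.mul_pow, h3, one_mul, pow_succ, pow_two, S.zz,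
          one_mul]
    intro c hc
    rw [hcen, MonoidHom.mem_ker] at hc
    have hcN : (c : ↥(Subgroup.centralizer ({z} : Set G))) ∈ N := by
      have h2 : (QuotientGroup.mk (Subgroup.inclusion hCXM c) : ↥M ⧸ N.subgroupOf M) = 1 := e.map_eq_one_iff.mp hc
      exact Subgroup.mem_subgroupOf.mp ((QuotientGroup.eq_one_iff (Subgroup.inclusion hCXM c)).mp h2)
    -- `c = y q` with `q` a power of `z`
    have hcard : Nat.card ↥(X ⊔ Q) = Nat.card N := by
      have h := CfsgLib.CentrallyLarge.card_sup_mul_card_inf (H := Q) (K := X)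
        (le_norm fun a _ q hq => Subgroup.Normal.conj_mem inferInstance q hq a)
      have h2 : Nat.card ↥(Q ⊓ X) = 1 :=
        by
        rw [Subgroup.inf_eq_bot_of_coprime (H := Q) (K := X) (by rw [hX, hset.2.2.2.1]; norm_num), Subgroup.card_bot]
      rw [h2, mul_one, sup_comm] at h
      rw [h, hN, mul_comm, hX]
    rw [← Subgroup.eq_of_le_of_card_ge (sup_le hXN hQN) hcard.ge] at hcN
    obtain ⟨y, hy, q, hq, hyq⟩ :=
      mem_sup (le_norm fun a _ q hq => Subgroup.Normal.conj_mem inferInstance q hq a) hcN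
    obtain ⟨k, hk⟩ := hgen y hy
    have hy' : (y : G) = ρ ^ k := by rw [← hk]; rfl
    have hcg : ((c : ↥(Subgroup.centralizer ({z} : Set G))) : G) ∈ Subgroup.zpowers (ρ * z) := by
      rw [hyq, Subgroup.coe_mul, hy']
      refine mul_mem (zpow_mem (h1 ρ (Or.inl rfl)) k) ?_
      have hqc : (q : G) ∈ cx z ρ := by
        have hcc := (memCX _).mp c.2
        have := mul_mem (inv_mem (zpow_mem hrc k)) hcc
        rwa [hyq, Subgroup.coe_mul, hy', inv_mul_cancel_left] at this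
      rcases S.cx_core hqc (hcore ▸ ⟨q, hq, rfl⟩) with h | h <;> rw [h]
      exacts [one_mem _, h1 z (Or.inr rfl)]
    obtain ⟨l, hl⟩ := hcg
    exact ⟨l, Subtype.ext (Subtype.ext (by simpa [w] using hl))⟩
  have hZ : Subgroup.center ↥CX = Subgroup.zpowers w :=
    le_antisymm hall (Subgroup.zpowers_le.mpr hwc)
  refine ⟨⟨⟨hperfect⟩, ι.isSimpleGroup⟩, ?_, ?_, ⟨ι⟩⟩
  · rw [hZ]; infer_instance
  · rw [hZ, Nat.card_zpowers, hword]

end CfsgLib.Fi24Three
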