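import Cfsg.Agent.Lib.SUSixSub.Frame
import Cfsg.Agent.Lib.UnitarySimple

/-!
The group U₄(3) has no non-trivial action on an elementary abelian two-group of order below 2^14: the abelian
subgroup of order 81 splits such a group into pieces indexed by its hyperplanes, each class of which has at least
seven members.
-/

set_option autoImplicit false
set_option maxRecDepth 30000
set_option linter.unusedSectionVars false

namespace CfsgLib.Fi24Three.SmallModule

open Equiv CfsgLib.SUSixSub

def cCodes : List ℕ := [567, 513, 351, 189, 495, 333, 171, 279, 117, 684, 63, 630, 468, 489, 327, 165, 273, 111, 678, 57, 624, 462, 255, 93, 660, 39, 606, 444, 552, 390, 228, 21, 588, 426, 534, 372, 210, 318, 156, 723]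

def pairsL : List (Perm (Fin 6) × Perm (Fin 6)) := [
  (c[(0 : Fin 6), 2, 4], c[(0 : Fin 6), 5, 2]),
  (c[(0 : Fin 6), 3, 5], c[(1 : Fin 6), 5, 3]),
  (c[(1 : Fin 6), 4, 3], c[(0 : Fin 6), 5, 2]),
  (c[(2 : Fin 6), 5, 3], c[(0 : Fin 6), 1, 4]),
  (c[(0 : Fin 6), 4, 3], c[(1 : Fin 6), 4, 5]),
  (c[(2 : Fin 6), 5, 3], c[(1 : Fin 6), 2, 5]),
  (c[(0 : Fin 6), 3, 4], c[(0 : Fin 6), 1, 4]),
  (c[(1 : Fin 6), 4, 3], c[(0 : Fin 6), 3, 2]),
  (c[(0 : Fin 6), 3, 5], c[(1 : Fin 6), 3, 5]),
  (c[(0 : Fin 6), 3, 2], c[(0 : Fin 6), 3, 5])]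

def imgCodes : List (List (ℕ × ℕ)) := [
  [(0, 27), (1, 0), (2, 10), (3, 29), (4, 13), (5, 15), (6, 1)],
  [(0, 3), (1, 13), (2, 31), (3, 10), (4, 39), (6, 0), (7, 4)],
  [(0, 22), (1, 14), (2, 25), (4, 8), (5, 23), (6, 2), (7, 7)],
  [(0, 29), (1, 15), (2, 19), (3, 35), (4, 26), (5, 6), (6, 3)],
  [(0, 6), (1, 4), (2, 35), (3, 1), (4, 31), (5, 19), (7, 26)],
  [(0, 16), (1, 5), (2, 14), (3, 23), (4, 22), (5, 17), (6, 7)],
  [(0, 35), (1, 6), (2, 29), (3, 26), (4, 4), (5, 3), (6, 10)],
  [(0, 8), (1, 22), (2, 2), (3, 7), (5, 25), (6, 5), (7, 17)],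
  [(0, 14), (1, 23), (2, 5), (3, 17), (5, 8), (8, 16), (9, 25)],
  [(0, 37), (1, 24), (2, 9), (3, 32), (4, 21), (5, 38), (6, 11)],
  [(0, 10), (1, 31), (2, 39), (3, 4), (4, 35), (6, 6), (9, 26)],
  [(0, 21), (1, 33), (2, 24), (3, 38), (4, 12), (5, 30), (6, 9)],
  [(0, 33), (1, 32), (2, 18), (3, 20), (4, 30), (5, 36), (6, 12)],
  [(0, 15), (1, 26), (2, 6), (3, 3), (4, 19), (5, 13), (7, 0)],
  [(0, 7), (1, 25), (2, 8), (3, 22), (4, 16), (5, 14), (6, 23)],
  [(0, 39), (1, 27), (2, 3), (4, 1), (5, 0), (6, 29), (9, 15)],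
  [(0, 17), (1, 8), (2, 23), (4, 5), (5, 22), (6, 25), (9, 16)],
  [(0, 5), (1, 7), (2, 17), (3, 16), (4, 23), (6, 22), (7, 8)],
  [(0, 34), (1, 9), (2, 38), (3, 33), (5, 32), (6, 28), (7, 11)],
  [(0, 19), (1, 39), (2, 15), (3, 6), (4, 29), (5, 4), (6, 27)],
  [(0, 12), (1, 37), (2, 30), (4, 11), (5, 24), (8, 9), (9, 20)],
  [(0, 32), (1, 38), (2, 36), (3, 21), (5, 33), (6, 30), (7, 9)],
  [(0, 23), (1, 17), (2, 16), (3, 2), (4, 25), (8, 22), (9, 5)],
  [(0, 2), (1, 16), (2, 22), (3, 25), (4, 7), (6, 14), (8, 5)],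
  [(0, 28), (1, 18), (2, 37), (3, 24), (5, 20), (8, 32), (9, 12)],
  [(0, 25), (1, 2), (2, 7), (3, 5), (4, 14), (6, 16), (8, 17)],
  [(0, 0), (1, 1), (2, 4), (3, 19), (4, 15), (5, 39), (6, 13)],
  [(0, 26), (1, 3), (2, 1), (3, 39), (4, 0), (5, 27), (6, 19)],
  [(0, 30), (1, 21), (2, 28), (3, 9), (6, 18), (7, 34), (8, 12)],
  [(0, 1), (1, 19), (2, 13), (3, 31), (4, 27), (5, 35), (6, 15)],
  [(0, 24), (1, 20), (2, 34), (3, 18), (4, 38), (5, 11), (6, 21)],
  [(0, 31), (1, 35), (2, 27), (3, 0), (4, 10), (5, 1), (8, 4)],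
  [(0, 11), (1, 34), (2, 21), (3, 28), (5, 18), (6, 32), (7, 30)],
  [(0, 20), (1, 36), (2, 33), (3, 30), (4, 34), (5, 21), (6, 38)],
  [(0, 36), (1, 12), (2, 20), (3, 11), (4, 24), (5, 34), (8, 30)],
  [(0, 4), (1, 10), (2, 26), (3, 13), (4, 6), (5, 29), (6, 31)],
  [(0, 18), (1, 11), (2, 32), (3, 36), (5, 12), (6, 37), (7, 33)],
  [(0, 38), (1, 30), (2, 11), (3, 12), (4, 18), (5, 37), (6, 36)],
  [(0, 9), (1, 28), (2, 12), (3, 34), (4, 20), (6, 33), (7, 21)],
  [(0, 13), (1, 29), (2, 0), (3, 15), (4, 3), (5, 26), (6, 39)]]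

/-- The coefficient of a functional at a coordinate. -/
def cvec (c : Fin 40) (i : Fin 6) : ZMod 3 := ((cCodes.getD c.val 0 / 3 ^ i.val : ℕ) : ZMod 3)

/-- The exponent at a coordinate. -/
def lz (l : Fin 5 → Fin 3) (i : Fin 6) : ZMod 3 := l6 l i

/-- The functional. -/
def chi (c : Fin 40) (l : Fin 5 → Fin 3) : ZMod 3 := ∑ i, cvec c i * lz l i

/-- Candidates separating two hyperplanes. -/
def seps : List (Fin 5 → Fin 3) :=
  ((List.finRange 5).map fun a => Pi.single a 1) ++ (List.finRange 5).flatMap fun a => (List.finRange 5).flatMap fun b =>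
    [(Pi.single a 1 + Pi.single b 1 : Fin 5 → Fin 3), Pi.single a 1 + Pi.single b 2]

theorem exists_sep : ∀ c d : Fin 40, c ≠ d → seps.any (fun u => decide (chi c u = 0 ∧ chi d u ≠ 0)) = true := by
  decide +kernel

theorem parity : ∀ l : Fin 5 → Fin 3, (∀ i, l i = l 0) ∧ l6 l 5 = l 0 ∨
    (Finset.univ.filter fun c => chi c l = 0).card % 2 = 1 := by
  decide +kernel

/-- The permutation number `j`. -/
def qr (j : Fin 10) : Perm (Fin 6) × Perm (Fin 6) := pairsL.getD j.val 1

theorem qr_cube : ∀ j : Fin 10, (qr j).1 ^ 3 = 1 ∧ (qr j).2 ^ 3 = 1 := by decide +kernel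

/-- The table of images. -/
def row (c : Fin 40) (k : Fin 7) : ℕ × ℕ := (imgCodes.getD c.val []).getD k.val (0, 0)

theorem row_ok : ∀ (c : Fin 40) (k : Fin 7), (row c k).1 < 10 ∧ (row c k).2 < 40 := by decide +kernel

/-- The permutation used. -/
def rperm (c : Fin 40) (k : Fin 7) : Fin 10 := ⟨_, (row_ok c k).1⟩

/-- The image. -/
def rimg (c : Fin 40) (k : Fin 7) : Fin 40 := ⟨_, (row_ok c k).2⟩

theorem rimg_inj : ∀ (c : Fin 40) (k k' : Fin 7), rimg c k = rimg c k' → k = k' := by decide +kernel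

theorem rimg_spec : ∀ (c : Fin 40) (k : Fin 7), ∃ s t : ZMod 3, s ≠ 0 ∧ ∀ i : Fin 6,
    cvec (rimg c k) (((qr (rperm c k)).1 * (qr (rperm c k)).2) i) = s * cvec c i + t := by decide +kernel

theorem lz_add (l m : Fin 5 → Fin 3) (i : Fin 6) : lz (l + m) i = lz l i + lz m i := by
  refine Fin.lastCases ?_ (fun j => ?_) i
  · simp only [lz, l6, Fin.snoc_last, Pi.add_apply]
    show (-(_ : ZMod 3)) = -(_ : ZMod 3) + -(_ : ZMod 3)
    abel
  · simp only [lz, l6, Fin.snoc_castSucc, Pi.add_apply]
    rfl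

theorem lz_sum : ∀ l : Fin 5 → Fin 3, ∑ i, lz l i = 0 := by decide +kernel

theorem chi_add (c : Fin 40) (l m : Fin 5 → Fin 3) : chi c (l + m) = chi c l + chi c m := by
  simp only [chi, lz_add, mul_add, Finset.sum_add_distrib]

theorem chi_zero (c : Fin 40) : chi c 0 = 0 := by
  have := chi_add c 0 0
  rw [add_zero] at this
  exact left_eq_add.mp this

/-- The diagonal element. -/
noncomputable def ex (l : Fin 5 → Fin 3) : ↥K0 := ⟨monoEl l 1, diag_mem half_K0 (monoEl_mem (one_mem _) l)⟩

theorem monoEl_add (l m : Fin 5 → Fin 3) : monoEl (l + m) 1 = monoEl l 1 * monoEl m 1 := gm_inj (by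
  rw [gm_mul, gm_monoEl, gm_monoEl, gm_monoEl, monoF_mul, one_mul]
  congr 1
  funext i
  show wp (l6 (l + m) i) = wp (l6 l i) * wp (l6 m i)
  rw [← wp_add]
  exact congrArg wp (lz_add l m i))

theorem ex_add (l m : Fin 5 → Fin 3) : ex (l + m) = ex l * ex m := Subtype.ext (monoEl_add l m)

/-- The permutation element. -/
noncomputable def pel (j : Fin 10) : ↥K0 :=
  ⟨permEl (qr j).1 * permEl (qr j).2, mul_mem
    (cube_mem half_K0 (permEl_mem (Subgroup.mem_top _)) (by rw [← map_pow, (qr_cube j).1, map_one]))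
    (cube_mem half_K0 (permEl_mem (Subgroup.mem_top _)) (by rw [← map_pow, (qr_cube j).2, map_one]))⟩

theorem exists_moved (p : Perm (Fin 6)) (l : Fin 5 → Fin 3) : ∃ m : Fin 5 → Fin 3,
    (∀ i, lz m i = lz l (p.symm i)) ∧ permEl p * monoEl l 1 = monoEl m 1 * permEl p := by
  obtain ⟨m, hm⟩ := exists_l6 (d := fun i => wp (l6 l (p.symm i)))
    ((Equiv.prod_comp p.symm fun i => wp (l6 l i)).trans (l6_prod l))
  refine ⟨m, fun i => (wp_inj _ _ (hm i)).symm, gm_inj ?_⟩
  rw [gm_mul, gm_mul, gm_permEl, gm_monoEl, gm_monoEl, monoF_mul, monoF_mul, one_mul, mul_one]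
  congr 1
  funext i
  simp only [Pi.one_apply, one_mul, mul_one]
  exact hm i

section Action

variable {W : Type*} [CommGroup W] [Finite W] (a : ↥K0 →* MulAut W)

/-- The product over the kernel of a functional. -/
noncomputable def proj (c : Fin 40) : W →* W :=
  ∏ l ∈ Finset.univ.filter (fun l => chi c l = 0), (a (ex l)).toMonoidHom

/-- The product over all diagonal elements. -/
noncomputable def tot : W →* W := ∏ l : Fin 5 → Fin 3, (a (ex l)).toMonoidHom

theorem proj_apply (c : Fin 40) (w : W) :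
    proj a c w = ∏ l ∈ Finset.univ.filter (fun l => chi c l = 0), a (ex l) w := by
  rw [proj, MonoidHom.finsetProd_apply]; rfl

theorem tot_apply (w : W) : tot a w = ∏ l : Fin 5 → Fin 3, a (ex l) w := by
  rw [tot, MonoidHom.finsetProd_apply]; rfl

theorem act_add (l m : Fin 5 → Fin 3) (w : W) : a (ex (l + m)) w = a (ex l) (a (ex m) w) := by
  rw [ex_add, map_mul]; rfl

theorem proj_comm (c : Fin 40) (m : Fin 5 → Fin 3) (w : W) : proj a c (a (ex m) w) = a (ex m) (proj a c w) := by
  rw [proj_apply, proj_apply, map_prod]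
  refine Finset.prod_congr rfl fun l _ => ?_
  rw [← act_add, ← act_add, add_comm]

theorem tot_comm (m : Fin 5 → Fin 3) (w : W) : tot a (a (ex m) w) = a (ex m) (tot a w) := by
  rw [tot_apply, tot_apply, map_prod]
  refine Finset.prod_congr rfl fun l _ => ?_
  rw [← act_add, ← act_add, add_comm]

theorem proj_inv (c : Fin 40) {m : Fin 5 → Fin 3} (hm : chi c m = 0) (w : W) :
    a (ex m) (proj a c w) = proj a c w := by
  rw [proj_apply, map_prod]
  refine Finset.prod_nbij (fun l => m + l) (fun l hl => ?_) (fun l _ l' _ h => add_left_cancel h) (fun l hl => ?_)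
    (fun l _ => (act_add a m l w).symm)
  · simp only [Finset.mem_coe, Finset.mem_filter, Finset.mem_univ, true_and] at hl ⊢
    rw [chi_add, hm, hl, add_zero]
  · simp only [Finset.mem_coe, Finset.mem_filter, Finset.mem_univ, true_and] at hl
    refine ⟨-m + l, ?_, by simp⟩
    simp only [Finset.mem_coe, Finset.mem_filter, Finset.mem_univ, true_and]
    have h := chi_add c m (-m + l)
    rw [add_neg_cancel_left, hm, hl, zero_add] at h
    exact h.symm

theorem tot_inv (m : Fin 5 → Fin 3) (w : W) : a (ex m) (tot a w) = tot a w := by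
  rw [tot_apply, map_prod, ← Equiv.prod_comp (Equiv.addLeft m) (fun l => a (ex l) w)]
  exact Finset.prod_congr rfl fun l _ => (act_add a m l w).symm

theorem tot_absorb (m : Fin 5 → Fin 3) (w : W) : tot a (a (ex m) w) = tot a w := by
  rw [tot_comm, tot_inv]

variable (hW : ∀ w : W, w * w = 1)

include hW

theorem pow_odd {n : ℕ} (hn : n % 2 = 1) (w : W) : w ^ n = w := by
  rw [← Nat.mod_add_div n 2, hn, pow_add, pow_mul, pow_two, hW, one_pow, pow_one, mul_one]

theorem pow_even {n : ℕ} (hn : n % 2 = 0) (w : W) : w ^ n = 1 := by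
  rw [← Nat.mod_add_div n 2, hn, zero_add, pow_mul, pow_two, hW, one_pow]

theorem tot_fixed {x : W} (hx : ∀ l, a (ex l) x = x) : tot a x = x := by
  rw [tot_apply, Finset.prod_congr rfl (fun l _ => hx l), Finset.prod_const]
  exact pow_odd hW (by rw [Finset.card_univ, Fintype.card_fun, Fintype.card_fin, Fintype.card_fin]; norm_num) x

theorem card_ker_odd : ∀ c : Fin 40, (Finset.univ.filter fun l => chi c l = 0).card % 2 = 1 := by
  decide +kernel

theorem proj_fixed (c : Fin 40) {x : W} (hx : ∀ l, chi c l = 0 → a (ex l) x = x) : proj a c x = x := by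
  rw [proj_apply, Finset.prod_congr rfl (fun l hl => hx l (Finset.mem_filter.mp hl).2), Finset.prod_const]
  exact pow_odd hW (card_ker_odd hW c) x

theorem tot_proj (c : Fin 40) (w : W) : tot a (proj a c w) = tot a w := by
  rw [proj_apply, map_prod, Finset.prod_congr rfl (fun l _ => tot_absorb a l w), Finset.prod_const]
  exact pow_odd hW (card_ker_odd hW c) _

theorem proj_tot (c : Fin 40) (w : W) : proj a c (tot a w) = tot a w := proj_fixed a hW c fun l _ => tot_inv a l w

theorem tot_tot (w : W) : tot a (tot a w) = tot a w := tot_fixed a hW fun l => tot_inv a l w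

theorem proj_proj_ne {c d : Fin 40} (hcd : c ≠ d) (w : W) : proj a c (proj a d w) = tot a w := by
  set x := proj a c (proj a d w) with hx
  obtain ⟨u, -, hu⟩ := List.any_eq_true.mp (exists_sep c d hcd)
  obtain ⟨hu1, hu2⟩ := of_decide_eq_true hu
  have hc : ∀ m, chi c m = 0 → a (ex m) x = x := fun m hm => proj_inv a c hm _
  have hd : ∀ m, chi d m = 0 → a (ex m) x = x := fun m hm => by rw [hx, ← proj_comm, proj_inv a d hm]
  have hfix : ∀ l, a (ex l) x = x := by
    intro l
    have key : ∀ s t : ZMod 3, t ≠ 0 → s + t = 0 ∨ s + (t + t) = 0 ∨ s = 0 := by decide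
    have hiu : ∀ k : Fin 5 → Fin 3, a (ex (k + u)) x = a (ex k) x := fun k => by rw [act_add, hc u hu1]
    rcases key (chi d l) (chi d u) hu2 with h | h | h
    · rw [← hiu l]
      exact hd _ (by rw [chi_add, h])
    · rw [← hiu l, ← hiu (l + u)]
      exact hd _ (by rw [chi_add, chi_add, add_assoc, h])
    · exact hd l h
  rw [← tot_fixed a hW hfix, hx, tot_proj a hW, tot_proj a hW]

theorem proj_proj_self (c : Fin 40) (w : W) : proj a c (proj a c w) = proj a c w :=
  proj_fixed a hW c fun _ hl => proj_inv a c hl w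

/-- The idempotent of a functional. -/
noncomputable def piece (c : Fin 40) : W →* W := proj a c * tot a

omit hW in
theorem piece_apply (c : Fin 40) (w : W) : piece a c w = proj a c w * tot a w := rfl

theorem piece_self (c : Fin 40) (w : W) : piece a c (piece a c w) = piece a c w := by
  rw [piece_apply, piece_apply, map_mul, map_mul, proj_proj_self a hW, proj_tot a hW, tot_proj a hW, tot_tot a hW,
    hW (tot a w), mul_one]

theorem piece_ne {c d : Fin 40} (hcd : c ≠ d) (w : W) : piece a c (piece a d w) = 1 := by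
  rw [piece_apply, piece_apply, map_mul, map_mul, proj_proj_ne a hW hcd, proj_tot a hW, tot_proj a hW, tot_tot a hW,
    hW (tot a w), one_mul]

theorem tot_piece (c : Fin 40) (w : W) : tot a (piece a c w) = 1 := by
  rw [piece_apply, map_mul, tot_proj a hW, tot_tot a hW, hW]

theorem piece_range_card (c : Fin 40) {w : W} (hw : piece a c w ≠ 1) : 4 ≤ Nat.card ↥(piece a c).range := by
  set v := piece a c w with hv
  obtain ⟨l, hl⟩ : ∃ l, a (ex l) v ≠ v := by
    by_contra hno
    push Not at hno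
    exact hw ((tot_fixed a hW hno).symm.trans (by rw [hv]; exact tot_piece a hW c w))
  have hmem : a (ex l) v ∈ (piece a c).range := ⟨a (ex l) w, by
    rw [hv, piece_apply, piece_apply, proj_comm, tot_comm, map_mul]⟩
  haveI : Fact (Nat.Prime 2) := ⟨Nat.prime_two⟩
  have h2 : IsPGroup 2 ↥(piece a c).range := fun y => ⟨1, Subtype.ext (by simp [pow_two, hW])⟩
  obtain ⟨k, hk⟩ := h2.exists_card_eq
  have h3 : 3 ≤ Nat.card ↥(piece a c).range := by
    refine le_trans ?_ (Nat.card_le_card_of_injective (fun i : Fin 3 =>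
      (![⟨1, one_mem _⟩, ⟨v, ⟨w, rfl⟩⟩, ⟨a (ex l) v, hmem⟩] : Fin 3 → ↥(piece a c).range) i) ?_)
    · simp
    · intro i j e
      have e' := congrArg Subtype.val e
      fin_cases i <;> fin_cases j <;> first | rfl | (exfalso; simp at e'; first
        | exact hw e' | exact hw e'.symm | exact hl e' | exact hl e'.symm
        | exact hw ((a (ex l)).map_eq_one_iff.mp e') | exact hw ((a (ex l)).map_eq_one_iff.mp e'.symm))
  rw [hk] at h3 ⊢
  match k with
  | 0 => norm_num at h3
  | 1 => norm_num at h3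
  | k + 2 => rw [pow_add]; norm_num; exact Nat.one_le_two_pow

theorem exists_piece (hsc : ∀ l : Fin 5 → Fin 3, (∀ i, l i = l 0) → l6 l 5 = l 0 → ∀ w, a (ex l) w = w) {w : W}
    (hw : ∃ l, a (ex l) w ≠ w) : ∃ c, piece a c w ≠ 1 := by
  by_contra hno
  push Not at hno
  obtain ⟨l, hl⟩ := hw
  apply hl
  have hp : ∀ c, proj a c w = tot a w := fun c => by
    have h := hno c
    rw [piece_apply] at h
    rw [mul_eq_one_iff_eq_inv.mp h, inv_eq_of_mul_eq_one_right (hW _)]
  have h1 : (∏ c : Fin 40, proj a c w) = 1 := by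
    rw [Finset.prod_congr rfl (fun c _ => hp c), Finset.prod_const, Finset.card_univ, Fintype.card_fin]
    exact pow_even hW (by norm_num) _
  have h2 : (∏ c : Fin 40, proj a c w) = tot a w * w := by
    simp only [proj_apply, Finset.prod_filter]
    rw [Finset.prod_comm]
    have h3 : ∀ m : Fin 5 → Fin 3, (∏ c : Fin 40, if chi c m = 0 then a (ex m) w else 1) =
        a (ex m) w * if (∀ i, m i = m 0) ∧ l6 m 5 = m 0 then w else 1 := by
      intro m
      rw [← Finset.prod_filter, Finset.prod_const]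
      rcases parity m with h | h
      · rw [if_pos h, hsc m h.1 h.2, hW, pow_even hW]
        have h40 : ∀ m : Fin 5 → Fin 3, (∀ i, m i = m 0) ∧ l6 m 5 = m 0 →
            (Finset.univ.filter fun c => chi c m = 0).card = 40 := by decide +kernel
        rw [h40 m h]
      · rw [pow_odd hW h, if_neg, mul_one]
        intro h'
        have h40 : ∀ m : Fin 5 → Fin 3, (∀ i, m i = m 0) ∧ l6 m 5 = m 0 →
            (Finset.univ.filter fun c => chi c m = 0).card = 40 := by decide +kernel
        rw [h40 m h'] at h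
        norm_num at h
    rw [Finset.prod_congr rfl (fun m _ => h3 m), Finset.prod_mul_distrib, tot_apply, ← Finset.prod_filter,
      Finset.prod_const]
    congr 1
    have hc3 : (Finset.univ.filter fun m : Fin 5 → Fin 3 => (∀ i, m i = m 0) ∧ l6 m 5 = m 0).card % 2 = 1 := by
      decide +kernel
    exact pow_odd hW hc3 w
  rw [h1] at h2
  have h4 : w = tot a w := (inv_eq_of_mul_eq_one_right h2.symm).symm.trans (inv_eq_of_mul_eq_one_right (hW _))
  rw [h4, tot_inv]

/-- Moving a piece by a permutation. -/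
theorem piece_move (c : Fin 40) (k : Fin 7) (w : W) :
    piece a (rimg c k) (a (pel (rperm c k)) w) = a (pel (rperm c k)) (piece a c w) := by
  obtain ⟨s, t, hs, hst⟩ := rimg_spec c k
  set j := rperm c k
  set p := (qr j).1 * (qr j).2 with hp
  choose mv hmv1 hmv2 using exists_moved p
  have hconj : ∀ l, a (ex (mv l)) (a (pel j) w) = a (pel j) (a (ex l) w) := by
    intro l
    have e : pel j * ex l = ex (mv l) * pel j := by
      refine Subtype.ext ?_
      show permEl (qr j).1 * permEl (qr j).2 * monoEl l 1 = monoEl (mv l) 1 * (permEl (qr j).1 * permEl (qr j).2)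
      rw [← map_mul]
      exact hmv2 l
    have := congrArg (fun g => a g w) e
    simp only [map_mul, MulAut.mul_apply] at this
    exact this.symm
  have hinj : Function.Injective mv := fun l l' h => l6_inj fun i => by
    have e1 := hmv1 l (p i)
    have e2 := hmv1 l' (p i)
    rw [h, e2, Equiv.symm_apply_apply] at e1
    exact congrArg wp e1.symm
  have hbij : Function.Bijective mv := Finite.injective_iff_bijective.mp hinj
  have hchi : ∀ l, chi (rimg c k) (mv l) = s * chi c l := by
    intro l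
    simp only [chi]
    rw [← Equiv.sum_comp p (fun i => cvec (rimg c k) i * lz (mv l) i)]
    simp only [hmv1, Equiv.symm_apply_apply, hst, add_mul, Finset.sum_add_distrib, ← Finset.mul_sum, lz_sum,
      mul_zero, add_zero, mul_assoc]
  rw [piece_apply, piece_apply, map_mul, proj_apply, proj_apply, tot_apply, tot_apply, map_prod, map_prod]
  congr 1
  · refine (Finset.prod_bijective mv hbij (fun l => ?_) fun l _ => (hconj l).symm).symm
    simp only [Finset.mem_filter, Finset.mem_univ, true_and, hchi, mul_eq_zero, hs, false_or]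
  · exact (Function.Bijective.prod_comp hbij fun l => a (ex l) (a (pel j) w)).symm.trans
      (Finset.prod_congr rfl fun l _ => hconj l)

end Action

/-- The small model acts trivially on small elementary groups. -/
theorem small_trivial {W : Type*} [CommGroup W] [Finite W] (hW : ∀ w : W, w * w = 1) (hcard : Nat.card W < 2 ^ 14)
    (f : SmallU →* MulAut W) : f = 1 := by
  by_contra hne
  haveI : IsSimpleGroup SmallU := by
    haveI : Fact (Nat.Prime 3) := ⟨Nat.prime_three⟩
    letI : Fintype (GaloisField 3 2) := Fintype.ofFinite _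
    have hF : Fintype.card (GaloisField 3 2) = 9 := by
      rw [← Nat.card_eq_fintype_card, GaloisField.card 3 2 two_ne_zero]; norm_num
    obtain ⟨es⟩ := (U43Mult.small_card hF).2.2
    haveI := CfsgLib.UnitarySimple.simple (F := GaloisField 3 2) (q := 3) (by rw [hF]; norm_num) (n := 4)
      (by norm_num) (by norm_num)
    exact es.symm.isSimpleGroup
  have hinj : Function.Injective f := by
    rcases (MonoidHom.normal_ker f).eq_bot_or_eq_top with h | h
    · exact (MonoidHom.ker_eq_bot_iff f).mp h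
    · exact absurd (MonoidHom.ext fun g => MonoidHom.mem_ker.mp (h ▸ Subgroup.mem_top g)) hne
  set a : ↥K0 →* MulAut W := f.comp pi0 with ha
  have hsc : ∀ l : Fin 5 → Fin 3, (∀ i, l i = l 0) → l6 l 5 = l 0 → ∀ w, a (ex l) w = w := by
    intro l h1 h5 w
    have hz : monoEl l 1 ∈ Zs := by
      rw [Zs, Subgroup.mem_zpowers_iff]
      refine ⟨((l 0).val : ℕ), ?_⟩
      rw [zpow_natCast]
      refine gm_inj ?_
      have hpw : ∀ b : Fin 3, gm (om ^ b.val) = wp b • (1 : Matrix (Fin 6) (Fin 6) G24.K) := by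
        intro b
        fin_cases b
        · simp only [pow_zero, gm_one]; exact (one_smul _ _).symm
        · simp only [pow_one]; exact gm_om
        · rw [pow_two, gm_mul, gm_om, Matrix.smul_mul, Matrix.one_mul, smul_smul]; rfl
      rw [hpw, Matrix.smul_one_eq_diagonal, gm_monoEl, monoF_diag]
      congr 1
      funext i
      refine congrArg wp ?_
      refine Fin.lastCases h5.symm (fun j => ?_) i
      simp [l6, h1 j]
    rw [← pi0_ker] at hz
    obtain ⟨g, hg, e⟩ := hz
    rw [show ex l = g from Subtype.ext e.symm, ha, MonoidHom.comp_apply, MonoidHom.mem_ker.mp hg, map_one]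
    rfl
  have hmv : ∃ w l, a (ex l) w ≠ w := by
    by_contra hno
    push Not at hno
    have h1 : ∀ l, monoEl l 1 ∈ Zs := fun l => by
      rw [← pi0_ker]
      refine ⟨ex l, MonoidHom.mem_ker.mpr (hinj ?_), rfl⟩
      rw [map_one]
      exact MulEquiv.ext fun w => hno w l
    have hle : Dg ≤ Zs := fun g hg => by
      obtain ⟨l, p, hp, rfl⟩ := exists_monoEl hg
      rw [Subgroup.mem_bot.mp hp]
      exact h1 l
    have := Subgroup.card_le_of_le hle
    rw [card_Dg, card_Zs] at this
    omega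
  obtain ⟨w, hw⟩ := hmv
  obtain ⟨c, hc⟩ := exists_piece a hW hsc hw
  let Φ : W →* ((k : Fin 7) → ↥(piece a (rimg c k)).range) := Pi.monoidHom fun k => (piece a (rimg c k)).rangeRestrict
  have hsurj : Function.Surjective Φ := by
    intro v
    refine ⟨∏ k, (v k : W), funext fun k => Subtype.ext ?_⟩
    show piece a (rimg c k) (∏ k', (v k' : W)) = v k
    rw [map_prod, Finset.prod_eq_single k]
    · obtain ⟨y, hy⟩ := (v k).2
      rw [← hy, piece_self a hW]
    · intro k' _ hk'
      obtain ⟨y, hy⟩ := (v k').2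
      rw [← hy]
      exact piece_ne a hW (fun e => hk' (rimg_inj c k k' e).symm) y
    · simp
  have h := Nat.card_le_card_of_surjective Φ hsurj
  rw [Nat.card_pi] at h
  have h4 : ∀ k, 4 ≤ Nat.card ↥(piece a (rimg c k)).range := fun k => by
    refine piece_range_card a hW _ (w := a (pel (rperm c k)) w) ?_
    rw [piece_move a hW, ne_eq, MulEquiv.map_eq_one_iff]
    exact hc
  have := Finset.prod_le_prod' (s := Finset.univ) fun k _ => h4 k
  rw [Finset.prod_const, Finset.card_univ, Fintype.card_fin] at this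
  omega

/-- U₄(3) acts trivially on small elementary groups. -/
theorem psu_trivial {F : Type*} [Field F] [Fintype F] (hF : Fintype.card F = 9) {W : Type*} [CommGroup W] [Finite W]
    (hW : ∀ w : W, w * w = 1) (hcard : Nat.card W < 2 ^ 14) (f : Cfsg.PSU 4 F 3 →* MulAut W) : f = 1 := by
  obtain ⟨es⟩ := (U43Mult.small_card hF).2.2
  refine MonoidHom.ext fun g => ?_
  have := DFunLike.congr_fun (small_trivial hW hcard (f.comp es.symm.toMonoidHom)) (es g)
  simpa using this

end CfsgLib.Fi24Three.SmallModule
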