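import Cfsg.Prelude.Def_MonsterType
import Cfsg.Agent.Lib.Fi24Three.SmallModule
import Cfsg.Agent.Lib.LargeExtra.Sections
import Cfsg.Agent.Lib.U43Mult.Group

/-!
The module of a group of large Fischer type: the element of order three of the top acts without fixed points
and the subgroup of index two is perfect modulo the core.
-/

set_option autoImplicit false
set_option linter.unusedSectionVars false

namespace CfsgLib.Fi24Three

open CfsgLargeExtra
open scoped commutatorElement

universe u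

/-- Automorphisms of an elementary group of order at most 2^11 have no full Sylow three-subgroup of order 3^7. -/
theorem three_seven_not_dvd_mulAut {W : Type u} [CommGroup W] [Finite W] (hW : ∀ w : W, w * w = 1)
    (hcard : Nat.card W ≤ 2 ^ 11) : ¬ 3 ^ 7 ∣ Nat.card (MulAut W) := by
  classical
  haveI : Fact (Nat.Prime 2) := ⟨Nat.prime_two⟩
  letI : Module (ZMod 2) (Additive W) := AddCommGroup.zmodModule (n := 2) fun x => by
    show Additive.ofMul ((Additive.toMul x) ^ 2) = 0
    rw [pow_two, hW]; rfl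
  haveI : Module.Finite (ZMod 2) (Additive W) := Module.Finite.of_finite
  let b := Module.finBasis (ZMod 2) (Additive W)
  set e := Module.finrank (ZMod 2) (Additive W)
  have he : e ≤ 11 := by
    have h := Nat.card_congr b.equivFun.toEquiv
    rw [Nat.card_fun, Nat.card_zmod, Nat.card_fin, ← Nat.card_congr Additive.ofMul] at h
    exact (Nat.pow_le_pow_iff_right (by norm_num)).1 (h ▸ hcard)
  let l : MulAut W →* (Additive W →ₗ[ZMod 2] Additive W)ˣ :=
    MonoidHom.toHomUnits
      { toFun := fun φ => (MonoidHom.toAdditive (φ : W ≃* W).toMonoidHom).toZModLinearMap 2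
        map_one' := LinearMap.ext fun _ => rfl
        map_mul' := fun _ _ => LinearMap.ext fun _ => rfl }
  have hl : Function.Injective l := fun φ ψ h => MulEquiv.ext fun x =>
    congrArg Additive.toMul (LinearMap.congr_fun (congrArg Units.val h) (Additive.ofMul x) :)
  let m : MulAut W →* GL (Fin e) (ZMod 2) :=
    (Units.map (LinearMap.toMatrixAlgEquiv b).toMulEquiv.toMonoidHom).comp l
  have hm : Function.Injective m := fun φ ψ h =>
    hl (Units.ext ((LinearMap.toMatrixAlgEquiv b).injective (congrArg Units.val h)))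
  intro h
  have h2 := h.trans (Subgroup.card_dvd_of_injective m hm)
  rw [Matrix.card_GL_field, ZMod.card] at h2
  interval_cases e <;> (simp only [Fin.prod_univ_succ, Fin.prod_univ_zero] at h2; norm_num at h2)

variable {C : Type u} [Group C]

/-- The action on a section. -/
noncomputable def secAct (A B : Subgroup C) [A.Normal] [B.Normal] :
    C →* MulAut ↥(B.map (QuotientGroup.mk' A)) :=
  haveI : (B.map (QuotientGroup.mk' A)).Normal :=
    Subgroup.Normal.map inferInstance _ (QuotientGroup.mk'_surjective A)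
  MulAut.conjNormal.comp (QuotientGroup.mk' A)

theorem secAct_one_iff {A B : Subgroup C} [A.Normal] [B.Normal] {c : C} :
    secAct A B c = 1 ↔ ∀ b ∈ B, c * b * c⁻¹ * b⁻¹ ∈ A := by
  have key : ∀ b : C, (QuotientGroup.mk' A c * QuotientGroup.mk' A b * (QuotientGroup.mk' A c)⁻¹ =
      QuotientGroup.mk' A b) ↔ c * b * c⁻¹ * b⁻¹ ∈ A := fun b => by
    rw [← mul_inv_eq_one, ← map_inv, ← map_inv, ← map_mul, ← map_mul, ← map_mul]
    exact QuotientGroup.eq_one_iff _
  constructor
  · intro h b hb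
    have h1 := congrArg Subtype.val (DFunLike.congr_fun h ⟨_, b, hb, rfl⟩)
    exact (key b).mp (by simpa [secAct, MulAut.conjNormal_apply] using h1)
  · intro h
    refine MulEquiv.ext fun v => ?_
    obtain ⟨_, b, hb, rfl⟩ := v
    exact Subtype.ext ((key b).mpr (h b hb))

/-- The commutative structure of a section of exponent two. -/
theorem sec_sq {A B : Subgroup C} [A.Normal] (h : ∀ b ∈ B, b * b ∈ A) (v : ↥(B.map (QuotientGroup.mk' A))) :
    v * v = 1 := by
  obtain ⟨_, b, hb, rfl⟩ := v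
  refine Subtype.ext ?_
  show QuotientGroup.mk' A b * QuotientGroup.mk' A b = 1
  rw [← map_mul]
  exact (QuotientGroup.eq_one_iff _).mpr (h b hb)

/-- The structure of a commutative group on a group of exponent two. -/
@[reducible] def commOfSq {W : Type u} [Group W] (h : ∀ w : W, w * w = 1) : CommGroup W :=
  { (inferInstance : Group W) with
    mul_comm := fun a b => by
      have ha : a⁻¹ = a := inv_eq_of_mul_eq_one_right (h a)
      have hb : b⁻¹ = b := inv_eq_of_mul_eq_one_right (h b)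
      have hab : (a * b)⁻¹ = a * b := inv_eq_of_mul_eq_one_right (h _)
      rw [mul_inv_rev, ha, hb] at hab
      exact hab.symm }

theorem card_map_le [Finite C] (A B : Subgroup C) [A.Normal] : Nat.card ↥(B.map (QuotientGroup.mk' A)) ≤ Nat.card B :=
  Nat.le_of_dvd Nat.card_pos (B.card_map_dvd _)

variable {G : Type u} [Group G] [Finite G] {z : G} {Q N M : Subgroup (Subgroup.centralizer ({z} : Set G))}
  [Q.Normal] [N.Normal] [M.Normal]

/-- An element acting trivially on the core modulo `z` lies in the core. -/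
theorem mem_of_trivial (hes : ES (Q.map (Subgroup.centralizer ({z} : Set G)).subtype) z)
    {c : Subgroup.centralizer ({z} : Set G)}
    (h : ∀ q ∈ Q, ((c * q * c⁻¹ * q⁻¹ : ↥(Subgroup.centralizer ({z} : Set G))) : G) ∈ Subgroup.zpowers z) :
    c ∈ Q := by
  classical
  set QG := Q.map (Subgroup.centralizer ({z} : Set G)).subtype with hQG
  have hcases : ∀ q ∈ QG, (c : G) * q * (c : G)⁻¹ = q ∨ (c : G) * q * (c : G)⁻¹ = z * q := by
    rintro _ ⟨q, hq, rfl⟩
    obtain ⟨k, hk⟩ := h q hq
    have hk' : z ^ k = (c : G) * (q : G) * (c : G)⁻¹ * (q : G)⁻¹ := hk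
    rcases Int.even_or_odd k with ⟨j, rfl⟩ | ⟨j, rfl⟩
    · left
      rw [← two_mul, zpow_mul, zpow_two, hes.zz, one_zpow] at hk'
      exact mul_inv_eq_one.mp hk'.symm
    · right
      rw [zpow_add, zpow_mul, zpow_two, hes.zz, one_zpow, one_mul, zpow_one] at hk'
      exact (eq_mul_inv_iff_mul_eq.mp hk').symm
  suffices hc : (c : G) ∈ QG by
    obtain ⟨d, hd, e⟩ := hc
    exact Subtype.ext (show (d : G) = c from e) ▸ hd
  by_cases hall : ∀ q ∈ QG, (c : G) * q = q * c
  · rcases hes.cen _ hall with e | e <;> rw [e]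
    exacts [one_mem _, hes.mem]
  push Not at hall
  obtain ⟨q₀, hq₀, hne⟩ := hall
  let K : Subgroup G := QG ⊓ Subgroup.centralizer ({(c : G)} : Set G)
  have memK : ∀ {q : G}, q ∈ K ↔ q ∈ QG ∧ q * c = c * q := fun {q} => by
    rw [Subgroup.mem_inf, Subgroup.mem_centralizer_singleton_iff]
  have hcz : (c : G) * z = z * c := Subgroup.mem_centralizer_singleton_iff.mp c.2
  have hzK : z ∈ K := memK.mpr ⟨hes.mem, hcz.symm⟩
  have hq₀c := (hcases q₀ hq₀).resolve_left fun e => hne (mul_inv_eq_iff_eq_mul.mp e)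
  have hcoset : ∀ q ∈ QG, q ∈ K ∨ q₀⁻¹ * q ∈ K := by
    intro q hq
    rcases hcases q hq with e | e
    · exact Or.inl (memK.mpr ⟨hq, (mul_inv_eq_iff_eq_mul.mp e).symm⟩)
    · refine Or.inr (memK.mpr ⟨mul_mem (inv_mem hq₀) hq, ?_⟩)
      have e2 : (c : G) * (q₀⁻¹ * q) * (c : G)⁻¹ = q₀⁻¹ * q := by
        calc (c : G) * (q₀⁻¹ * q) * (c : G)⁻¹ = ((c : G) * q₀ * (c : G)⁻¹)⁻¹ * ((c : G) * q * (c : G)⁻¹) := by group
          _ = q₀⁻¹ * q := by rw [hq₀c, e]; group
      exact (mul_inv_eq_iff_eq_mul.mp e2).symm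
  -- the element of the core with the same commutators
  have hzK' : (⟨z, hes.mem⟩ : ↥QG) ∈ K.subgroupOf QG := hzK
  have hcard := hes.toExt.card_mul_card_centralizer (A := K.subgroupOf QG) hzK'
  obtain ⟨r, hr, hr1, hrz⟩ : ∃ r, r ∈ Subgroup.centralizer ((K.subgroupOf QG : Subgroup ↥QG) : Set ↥QG) ∧
      r ≠ 1 ∧ r ≠ ⟨z, hes.mem⟩ := by
    by_contra hno
    push Not at hno
    have h2 : Nat.card (Subgroup.centralizer ((K.subgroupOf QG : Subgroup ↥QG) : Set ↥QG)) ≤ 2 := by
      refine (Nat.card_le_card_of_surjective (fun i : Fin 2 => (⟨![1, ⟨z, hes.mem⟩] i, ?_⟩ :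
        ↥(Subgroup.centralizer ((K.subgroupOf QG : Subgroup ↥QG) : Set ↥QG)))) ?_).trans (by simp)
      · fin_cases i
        · exact one_mem _
        · exact Subgroup.mem_centralizer_iff.mpr fun s _ => Subtype.ext (hes.comm s s.2)
      · rintro ⟨r, hr⟩
        by_cases h1 : r = 1
        · exact ⟨0, Subtype.ext h1.symm⟩
        · exact ⟨1, Subtype.ext (hno r hr h1).symm⟩
    have hlt : Nat.card (K.subgroupOf QG) < Nat.card ↥QG := by
      refine lt_of_le_of_ne (Subgroup.card_le_card_group _) fun e => hne ?_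
      have htop := Subgroup.eq_top_of_card_eq _ e
      have : (⟨q₀, hq₀⟩ : ↥QG) ∈ K.subgroupOf QG := htop ▸ Subgroup.mem_top _
      exact (memK.mp this).2.symm
    have h3 := Nat.mul_le_mul_left (Nat.card (K.subgroupOf QG)) h2
    rw [hcard] at h3
    omega
  have hrK : ∀ q ∈ K, (r : G) * q = q * r := fun q hq =>
    (congrArg Subtype.val (Subgroup.mem_centralizer_iff.mp hr ⟨q, (memK.mp hq).1⟩ hq)).symm
  have hrq₀ : (r : G) * q₀ * (r : G)⁻¹ = z * q₀ := by
    rcases hes.conj_cases r.2 hq₀ with e | e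
    · exfalso
      rcases hes.cen r fun q hq => by
        rcases hcoset q hq with hk | hk
        · exact hrK q hk
        · have h1 : Commute (r : G) q₀ := mul_inv_eq_iff_eq_mul.mp e
          have h2 := (h1.mul_right (show Commute (r : G) (q₀⁻¹ * q) from hrK _ hk))
          rwa [mul_inv_cancel_left] at h2 with e1 | e1
      · exact hr1 (Subtype.ext e1)
      · exact hrz (Subtype.ext e1)
    · rw [e, hes.comm q₀ hq₀]
  have key : ∀ q ∈ QG, (r : G) * q * (r : G)⁻¹ = (c : G) * q * (c : G)⁻¹ := by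
    intro q hq
    rcases hcoset q hq with hk | hk
    · rw [mul_inv_eq_iff_eq_mul.mpr (hrK q hk), mul_inv_eq_iff_eq_mul.mpr (memK.mp hk).2.symm]
    · calc (r : G) * q * (r : G)⁻¹
          = ((r : G) * q₀ * (r : G)⁻¹) * ((r : G) * (q₀⁻¹ * q) * (r : G)⁻¹) := by group
        _ = ((c : G) * q₀ * (c : G)⁻¹) * ((c : G) * (q₀⁻¹ * q) * (c : G)⁻¹) := by
          rw [hrq₀, hq₀c, mul_inv_eq_iff_eq_mul.mpr (hrK _ hk), mul_inv_eq_iff_eq_mul.mpr (memK.mp hk).2.symm]
        _ = (c : G) * q * (c : G)⁻¹ := by group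
  rcases hes.cen ((r : G)⁻¹ * c) fun q hq => by
      calc (r : G)⁻¹ * c * q = (r : G)⁻¹ * ((c : G) * q * (c : G)⁻¹) * c := by group
        _ = q * ((r : G)⁻¹ * c) := by rw [← key q hq]; group with e | e
  · exact inv_mul_eq_one.mp e ▸ r.2
  · rw [inv_mul_eq_iff_eq_mul.mp e]; exact mul_mem r.2 hes.mem

/-- The two facts about the module. -/
theorem core_facts (hset : Cfsg.IsExtraspecialCentralizerSetting z Q 6) (hQN : Q ≤ N) (hNM : N ≤ M)
    (hN : Nat.card N = 3 * Nat.card Q) {K : Type} [Field K] [Fintype K] (hK : Fintype.card K = 9)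
    (e : M ⧸ N.subgroupOf M ≃* Cfsg.PSU 4 K 3) :
    (∀ r ∈ N, r ∉ Q → ∀ q ∈ Q, ((r * q * r⁻¹ * q⁻¹ : ↥(Subgroup.centralizer ({z} : Set G))) : G) ∈ Subgroup.zpowers z →
      (q : G) ∈ Subgroup.zpowers z) ∧
    (∀ m ∈ M, ∃ k ∈ ⁅M, M⁆, k⁻¹ * m ∈ Q) := by
  classical
  obtain ⟨hz, hF, hE, hcard, -⟩ := hset
  set QG := Q.map (Subgroup.centralizer ({z} : Set G)).subtype with hQG
  have hQcard : Nat.card QG = 2 ^ 13 := by
    rw [hQG, Subgroup.card_map_of_injective (Subgroup.centralizer ({z} : Set G)).subtype_injective, hcard]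
  obtain ⟨a₀, b₀, hab₀⟩ : ∃ a b : ↥Q, a * b ≠ b * a := by
    by_contra hall
    push Not at hall
    have htop : Subgroup.center ↥Q = ⊤ :=
      (Subgroup.eq_top_iff' _).mpr fun a => Subgroup.mem_center_iff.mpr fun c => hall c a
    have h4 := hE.2
    rw [htop, Subgroup.card_top, hcard] at h4
    norm_num at h4
  have hEG : Cfsg.IsExtraspecial 2 QG := by
    obtain ⟨w, hw⟩ := CfsgLib.ExtraTwo.ofExtraspecial hE
    let e' := Q.equivMapOfInjective (Subgroup.centralizer ({z} : Set G)).subtype (Subgroup.centralizer ({z} : Set G)).subtype_injective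
    have hB : CfsgLib.ExtraTwo.Ext2 ↥QG (e' w) := by
      refine ⟨fun h => hw.ne (e'.map_eq_one_iff.mp h), fun b => ?_, fun b => ?_⟩
      · obtain ⟨a, rfl⟩ := e'.surjective b
        rw [e'.map_eq_one_iff, e'.injective.eq_iff, ← hw.center_iff, Subgroup.mem_center_iff, Subgroup.mem_center_iff]
        refine ⟨fun h c => e'.injective (by rw [map_mul, map_mul]; exact h (e' c)), fun h d => ?_⟩
        obtain ⟨c, rfl⟩ := e'.surjective d
        rw [← map_mul, ← map_mul, h c]
      · obtain ⟨a, rfl⟩ := e'.surjective b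
        rw [← map_mul, e'.map_eq_one_iff, e'.injective.eq_iff]
        exact hw.sq a
    exact CfsgLargeExtra.isExtraspecial_of_ext2 hB (a := e' a₀) (b := e' b₀)
      fun h => hab₀ (e'.injective (by rw [map_mul, map_mul]; exact h))
  obtain ⟨hes, -⟩ := ES.of_fitting z hz (C := Subgroup.centralizer ({z} : Set G)) rfl QG (by rw [hF]) hEG
  have hzC : z ∈ (Subgroup.centralizer ({z} : Set G)) := Subgroup.mem_centralizer_singleton_iff.mpr rfl
  set Z : Subgroup ↥(Subgroup.centralizer ({z} : Set G)) := Subgroup.zpowers ⟨z, hzC⟩ with hZdef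
  have hzcent : (⟨z, hzC⟩ : ↥(Subgroup.centralizer ({z} : Set G))) ∈ Subgroup.center ↥(Subgroup.centralizer ({z} : Set G)) :=
    Subgroup.mem_center_iff.mpr fun c => Subtype.ext (Subgroup.mem_centralizer_singleton_iff.mp c.2)
  haveI : Z.Normal := ⟨fun a ha g => by
    rw [Subgroup.mem_center_iff.mp (Subgroup.zpowers_le.mpr hzcent ha) g, mul_inv_cancel_right]; exact ha⟩
  have memZ : ∀ {c : ↥(Subgroup.centralizer ({z} : Set G))}, c ∈ Z ↔ (c : G) ∈ Subgroup.zpowers z := fun {c} => by
    constructor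
    · rintro ⟨k, rfl⟩; exact ⟨k, rfl⟩
    · rintro ⟨k, hk⟩; exact ⟨k, Subtype.ext hk⟩
  have hzQ : (⟨z, hzC⟩ : ↥(Subgroup.centralizer ({z} : Set G))) ∈ Q := by
    obtain ⟨d, hd, e'⟩ := hes.mem
    exact (Subtype.ext (show (d : G) = z from e') : d = ⟨z, hzC⟩) ▸ hd
  have hZQ : Z ≤ Q := Subgroup.zpowers_le.mpr hzQ
  have hZcard : Nat.card Z = 2 := by
    rw [hZdef, Nat.card_zpowers, ← Subgroup.orderOf_coe]
    exact hz
  have hcom : ∀ a ∈ Q, ∀ b ∈ Q, a * b * a⁻¹ * b⁻¹ ∈ Z := by
    intro a ha b hb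
    rw [memZ]
    rcases hes.conj_cases (show (a : G) ∈ QG from ⟨a, ha, rfl⟩) (show (b : G) ∈ QG from ⟨b, hb, rfl⟩) with f | f
    · show (a : G) * b * (a : G)⁻¹ * (b : G)⁻¹ ∈ _
      rw [f, mul_inv_cancel]; exact one_mem _
    · show (a : G) * b * (a : G)⁻¹ * (b : G)⁻¹ ∈ _
      rw [f, hes.comm (b : G) ⟨b, hb, rfl⟩, mul_inv_cancel_right]
      exact Subgroup.mem_zpowers z
  have hsq : ∀ q ∈ Q, q * q ∈ Z := by
    intro q hq
    rw [memZ]
    rcases hes.sq (q : G) ⟨q, hq, rfl⟩ with f | f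
    · show (q : G) * q ∈ _
      rw [f]; exact one_mem _
    · show (q : G) * q ∈ _
      rw [f]; exact Subgroup.mem_zpowers z
  have hinner : ∀ c : ↥(Subgroup.centralizer ({z} : Set G)), (∀ q ∈ Q, c * q * c⁻¹ * q⁻¹ ∈ Z) → c ∈ Q := fun c h =>
    mem_of_trivial hes fun q hq => memZ.mp (h q hq)
  have hQ2 : IsPGroup 2 ↥Q := IsPGroup.of_card hcard
  have hNQ : ∀ r ∈ N, r * r ∈ Q → r ∈ Q := by
    intro r hr h2
    have h3 : r ^ 3 ∈ Q := by
      have hidx : (Q.subgroupOf N).index = 3 := by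
        have h := Subgroup.card_mul_index (Q.subgroupOf N)
        rw [Nat.card_congr (Subgroup.subgroupOfEquivOfLe hQN).toEquiv, hN, mul_comm 3] at h
        exact Nat.eq_of_mul_eq_mul_left Nat.card_pos h
      have := Subgroup.pow_index_mem (Q.subgroupOf N) ⟨r, hr⟩
      rw [hidx] at this
      exact this
    have := mul_mem (inv_mem h2) h3
    rwa [pow_succ, pow_two, inv_mul_cancel_left] at this
  have hsimple : IsSimpleGroup (Cfsg.PSU 4 K 3) :=
    CfsgLib.UnitarySimple.simple (F := K) (q := 3) (by rw [hK]; norm_num) (by norm_num) (by norm_num)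
  haveI : IsSimpleGroup (↥M ⧸ N.subgroupOf M) := e.isSimpleGroup
  have hMN : Nat.card (↥M ⧸ N.subgroupOf M) = 3265920 := by
    rw [Nat.card_congr e.toEquiv, CfsgLib.U43Mult.psu_card hK]
  let π : ↥M →* ↥M ⧸ N.subgroupOf M := QuotientGroup.mk' _
  have hπ : ∀ m : ↥M, π m = 1 ↔ (m : ↥(Subgroup.centralizer ({z} : Set G))) ∈ N := fun m =>
    (QuotientGroup.eq_one_iff m).trans Subgroup.mem_subgroupOf
  have himage : ∀ H : Subgroup ↥M, H.Normal → H.map π = ⊥ ∨ H.map π = ⊤ := fun H hH =>
    (Subgroup.Normal.map hH π (QuotientGroup.mk'_surjective _)).eq_bot_or_eq_top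
  refine ⟨fun r hrN hrQ q hq hrq => memZ.mp (Classical.byContradiction fun hqZ => ?_), fun m hm => ?_⟩
  · -- the fixed points of the top
    have hq' : ∀ n ∈ N, n * q * n⁻¹ * q⁻¹ ∈ Z := by
      let S : Subgroup ↥(Subgroup.centralizer ({z} : Set G)) := N ⊓ (Subgroup.centralizer ({QuotientGroup.mk' Z q} : Set (↥(Subgroup.centralizer ({z} : Set G)) ⧸ Z))).comap (QuotientGroup.mk' Z)
      have memS : ∀ c : ↥(Subgroup.centralizer ({z} : Set G)), c ∈ (Subgroup.centralizer ({QuotientGroup.mk' Z q} : Set (↥(Subgroup.centralizer ({z} : Set G)) ⧸ Z))).comap (QuotientGroup.mk' Z) ↔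
          c * q * c⁻¹ * q⁻¹ ∈ Z := fun c => by
        rw [Subgroup.mem_comap, Subgroup.mem_centralizer_singleton_iff, ← mul_inv_eq_iff_eq_mul, ← mul_inv_eq_one,
          ← map_inv, ← map_inv, ← map_mul, ← map_mul, ← map_mul]
        exact QuotientGroup.eq_one_iff _
      have hQS : Q ≤ S := fun p hp => ⟨hQN hp, (memS p).mpr (hcom p hp q hq)⟩
      have hrS : r ∈ S := ⟨hrN, (memS r).mpr (memZ.mpr hrq)⟩
      have hSN : S = N := by
        refine Subgroup.eq_of_le_of_card_ge inf_le_left ?_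
        obtain ⟨k, hk⟩ := Subgroup.card_dvd_of_le hQS
        have h3 : Nat.card Q * k ∣ Nat.card Q * 3 := by
          rw [← hk, mul_comm _ 3, ← hN]; exact Subgroup.card_dvd_of_le inf_le_left
        rcases (Nat.dvd_prime Nat.prime_three).mp (Nat.dvd_of_mul_dvd_mul_left Nat.card_pos h3) with rfl | rfl
        · exfalso
          rw [mul_one] at hk
          exact hrQ (Subgroup.eq_of_le_of_card_ge hQS hk.le ▸ hrS)
        · rw [hN, hk, mul_comm]
      intro n hn
      rw [← hSN] at hn
      exact (memS n).mp hn.2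
    let W0 : Subgroup ↥(Subgroup.centralizer ({z} : Set G)) := Q ⊓ (Subgroup.centralizer ((N.map (QuotientGroup.mk' Z) : Subgroup (↥(Subgroup.centralizer ({z} : Set G)) ⧸ Z)) :
      Set (↥(Subgroup.centralizer ({z} : Set G)) ⧸ Z))).comap (QuotientGroup.mk' Z)
    have memW0 : ∀ {c : ↥(Subgroup.centralizer ({z} : Set G))}, c ∈ W0 ↔ c ∈ Q ∧ ∀ n ∈ N, n * c * n⁻¹ * c⁻¹ ∈ Z := fun {c} => by
      rw [Subgroup.mem_inf, Subgroup.mem_comap, Subgroup.mem_centralizer_iff]
      refine and_congr_right fun _ => ⟨fun h n hn => ?_, ?_⟩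
      · have h1 := h _ ⟨n, hn, rfl⟩
        rw [← mul_inv_eq_iff_eq_mul, ← mul_inv_eq_one, ← map_inv, ← map_inv, ← map_mul, ← map_mul, ← map_mul] at h1
        exact (QuotientGroup.eq_one_iff _).mp h1
      · rintro h _ ⟨n, hn, rfl⟩
        rw [← mul_inv_eq_iff_eq_mul, ← mul_inv_eq_one, ← map_inv, ← map_inv, ← map_mul, ← map_mul, ← map_mul]
        exact (QuotientGroup.eq_one_iff _).mpr (h n hn)
    haveI : W0.Normal := by
      haveI : (N.map (QuotientGroup.mk' Z)).Normal :=
        Subgroup.Normal.map inferInstance _ (QuotientGroup.mk'_surjective Z)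
      exact inferInstance
    have hW0Q : W0 ≤ Q := inf_le_left
    have hZW0 : Z ≤ W0 := fun a ha => memW0.mpr ⟨hZQ ha, fun n _ => by
      rw [Subgroup.mem_center_iff.mp (Subgroup.zpowers_le.mpr hzcent ha) n, mul_inv_cancel_right, mul_inv_cancel]
      exact one_mem _⟩
    have hW0card : 4 ≤ Nat.card W0 := by
      obtain ⟨k, hk⟩ := (hQ2.to_le hW0Q).exists_card_eq
      have hlt : Nat.card Z < Nat.card W0 := by
        refine lt_of_le_of_ne (Subgroup.card_le_of_le hZW0) fun f => hqZ ?_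
        rw [Subgroup.eq_of_le_of_card_ge hZW0 f.ge]
        exact memW0.mpr ⟨hq, hq'⟩
      rw [hZcard, hk] at hlt
      rw [hk]
      match k with
      | 0 => norm_num at hlt
      | 1 => norm_num at hlt
      | k + 2 => rw [pow_add]; norm_num; exact Nat.one_le_two_pow
    -- the top acts trivially on the fixed points
    have htriv : ∀ m ∈ M, ∀ w ∈ W0, m * w * m⁻¹ * w⁻¹ ∈ Z := by
      intro m hm
      have hW2 : ∀ v : ↥(W0.map (QuotientGroup.mk' Z)), v * v = 1 := sec_sq fun w hw => hsq w (hW0Q hw)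
      letI := commOfSq hW2
      let f : ↥M →* MulAut ↥(W0.map (QuotientGroup.mk' Z)) := (secAct Z W0).comp M.subtype
      have hker : N.subgroupOf M ≤ f.ker := fun n hn =>
        MonoidHom.mem_ker.mpr (secAct_one_iff.mpr fun w hw => (memW0.mp hw).2 _ (Subgroup.mem_subgroupOf.mp hn))
      have hlt : Nat.card ↥(W0.map (QuotientGroup.mk' Z)) < 2 ^ 14 := by
        have := (card_map_le Z W0).trans (Subgroup.card_le_of_le hW0Q)
        rw [hcard] at this
        omega
      have h := SmallModule.psu_trivial hK hW2 hlt ((QuotientGroup.lift _ f hker).comp e.symm.toMonoidHom)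
      refine secAct_one_iff.mp ?_
      have h1 := DFunLike.congr_fun h (e (π ⟨m, hm⟩))
      simp only [MonoidHom.comp_apply, MulEquiv.coe_toMonoidHom, MulEquiv.symm_apply_apply, MonoidHom.one_apply] at h1
      exact h1
    -- hence it is faithful on the rest
    have hU2 : ∀ v : ↥(Q.map (QuotientGroup.mk' W0)), v * v = 1 := sec_sq fun p hp => hZW0 (hsq p hp)
    letI := commOfSq hU2
    let g : ↥M →* MulAut ↥(Q.map (QuotientGroup.mk' W0)) := (secAct W0 Q).comp M.subtype
    have hsquare : ∀ k : ↥M, k ∈ g.ker → (k : ↥(Subgroup.centralizer ({z} : Set G))) * k ∈ Q := by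
      intro k hk
      refine hinner _ fun p hp => ?_
      have hw := secAct_one_iff.mp (MonoidHom.mem_ker.mp hk) p hp
      set c := (k : ↥(Subgroup.centralizer ({z} : Set G)))
      set w := c * p * c⁻¹ * p⁻¹ with hwdef
      have hw' := htriv c k.2 w hw
      rw [← QuotientGroup.eq_one_iff] at hw' ⊢
      have hw2 : (QuotientGroup.mk w : ↥(Subgroup.centralizer ({z} : Set G)) ⧸ Z) * QuotientGroup.mk w = 1 := by
        rw [← QuotientGroup.mk_mul, QuotientGroup.eq_one_iff]
        exact hsq w (hW0Q hw)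
      calc (QuotientGroup.mk (c * c * p * (c * c)⁻¹ * p⁻¹) : ↥(Subgroup.centralizer ({z} : Set G)) ⧸ Z)
          = QuotientGroup.mk ((c * w * c⁻¹ * w⁻¹) * (w * w)) := by rw [hwdef]; congr 1; group
        _ = 1 := by rw [QuotientGroup.mk_mul, hw', one_mul, QuotientGroup.mk_mul, hw2]
    have hkerQ : g.ker ≤ Q.subgroupOf M := by
      have hkN : g.ker.map π = ⊥ := by
        refine (himage _ g.normal_ker).resolve_right fun htop => ?_
        haveI : Fact (Nat.Prime 3) := ⟨Nat.prime_three⟩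
        obtain ⟨x, hx⟩ := exists_prime_orderOf_dvd_card' (G := ↥M ⧸ N.subgroupOf M) 3 (by rw [hMN]; norm_num)
        obtain ⟨k, hk, rfl⟩ : x ∈ g.ker.map π := htop ▸ Subgroup.mem_top x
        have h2 : π k * π k = 1 := by
          rw [← map_mul, hπ]; exact hQN (hsquare k hk)
        have h3 : orderOf (π k) ∣ 2 := orderOf_dvd_of_pow_eq_one (by rw [pow_two]; exact h2)
        rw [hx] at h3
        norm_num at h3
      intro k hk
      have hkN' : (k : ↥(Subgroup.centralizer ({z} : Set G))) ∈ N := (hπ k).mp ((Subgroup.mem_bot).mp (hkN ▸ Subgroup.mem_map_of_mem π hk))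
      exact Subgroup.mem_subgroupOf.mpr (hNQ _ hkN' (hsquare k hk))
    have hdvd : 3 ^ 7 ∣ Nat.card g.range := by
      have h1 := g.ker.card_mul_index
      rw [Subgroup.index_ker] at h1
      have h2 : Nat.card M = Nat.card Q * 3 * 3265920 := by
        have h := Subgroup.card_mul_index (N.subgroupOf M)
        rw [Subgroup.index, hMN, Nat.card_congr (Subgroup.subgroupOfEquivOfLe hNM).toEquiv, hN, mul_comm 3] at h
        exact h.symm
      obtain ⟨j, hj⟩ : Nat.card g.ker ∣ Nat.card Q := by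
        rw [← Nat.card_congr (Subgroup.subgroupOfEquivOfLe (hQN.trans hNM)).toEquiv]
        exact Subgroup.card_dvd_of_le hkerQ
      rw [h2, hj, mul_assoc, mul_assoc] at h1
      rw [Nat.eq_of_mul_eq_mul_left Nat.card_pos h1]
      exact Dvd.dvd.mul_left (by norm_num) j
    refine three_seven_not_dvd_mulAut hU2 ?_ (hdvd.trans (Subgroup.card_subgroup_dvd_card _))
    have h1 := Subgroup.card_mul_index (W0.subgroupOf Q)
    rw [Nat.card_congr (Subgroup.subgroupOfEquivOfLe hW0Q).toEquiv, hcard] at h1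
    have h2 : Nat.card ↥(Q.map (QuotientGroup.mk' W0)) = (W0.subgroupOf Q).index := by
      rw [← MonoidHom.restrict_range, ← Subgroup.index_ker, MonoidHom.ker_restrict, QuotientGroup.ker_mk']
    rw [h2]
    have h3 := Nat.mul_le_mul_right (W0.subgroupOf Q).index hW0card
    rw [h1] at h3
    norm_num at h3 ⊢
    omega
  · -- perfectness
    let D : Subgroup ↥(Subgroup.centralizer ({z} : Set G)) := ⁅M, M⁆ ⊔ Q
    have hDM : D ≤ M := sup_le (Subgroup.commutator_le_left M M) (hQN.trans hNM)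
    suffices hMD : M ≤ D by
      obtain ⟨k, hk, p, hp, rfl⟩ := by
        have := hMD hm
        rw [← SetLike.mem_coe, Subgroup.coe_mul_of_left_le_normalizer_right _ _
          (fun a _ => (Subgroup.normalizer_eq_top (H := Q)) ▸ Subgroup.mem_top a)] at this
        exact this
      exact ⟨k, hk, by rw [inv_mul_cancel_left]; exact hp⟩
    let φ : ↥D →* ↥M ⧸ N.subgroupOf M := π.comp (Subgroup.inclusion hDM)
    have hφ : Function.Surjective φ := by
      have h : (D.subgroupOf M).map π = ⊤ := by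
        refine (himage _ inferInstance).resolve_left fun hbot => ?_
        have hab : ∀ a b : ↥M ⧸ N.subgroupOf M, a * b = b * a := by
          intro a b
          obtain ⟨a, rfl⟩ := QuotientGroup.mk'_surjective _ a
          obtain ⟨b, rfl⟩ := QuotientGroup.mk'_surjective _ b
          rw [← commutatorElement_eq_one_iff_mul_comm, ← map_commutatorElement]
          have : π ⁅a, b⁆ ∈ (D.subgroupOf M).map π := Subgroup.mem_map_of_mem π
            (show ((⁅a, b⁆ : ↥M) : ↥(Subgroup.centralizer ({z} : Set G))) ∈ D from Subgroup.mem_sup_left (Subgroup.commutator_mem_commutator a.2 b.2))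
          exact Subgroup.mem_bot.mp (hbot ▸ this)
        letI : CommGroup (↥M ⧸ N.subgroupOf M) := { (inferInstance : Group _) with mul_comm := hab }
        have := IsSimpleGroup.prime_card (α := ↥M ⧸ N.subgroupOf M)
        rw [hMN] at this
        norm_num at this
      intro x
      obtain ⟨d, hd, rfl⟩ : x ∈ (D.subgroupOf M).map π := h ▸ Subgroup.mem_top x
      exact ⟨⟨(d : ↥(Subgroup.centralizer ({z} : Set G))), hd⟩, rfl⟩
    by_contra hMD
    have hDN : ∀ d ∈ D, d ∈ N → d ∈ Q := by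
      intro d hd hdN
      by_contra hdQ
      apply hMD
      have hDN' : N ≤ D := by
        have hle : Q ≤ D ⊓ N := le_inf le_sup_right hQN
        obtain ⟨k, hk⟩ := Subgroup.card_dvd_of_le hle
        have h3 : Nat.card Q * k ∣ Nat.card Q * 3 := by
          rw [← hk, mul_comm _ 3, ← hN]; exact Subgroup.card_dvd_of_le inf_le_right
        rcases (Nat.dvd_prime Nat.prime_three).mp (Nat.dvd_of_mul_dvd_mul_left Nat.card_pos h3) with rfl | rfl
        · rw [mul_one] at hk
          exact absurd (Subgroup.eq_of_le_of_card_ge hle hk.le ▸ (Subgroup.mem_inf.mpr ⟨hd, hdN⟩)) hdQ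
        · have := Subgroup.eq_of_le_of_card_ge (inf_le_right : D ⊓ N ≤ N) (by rw [hN, hk, mul_comm])
          exact this ▸ inf_le_left
      intro x hx
      obtain ⟨d', hd'⟩ := hφ (π ⟨x, hx⟩)
      have h1 : (QuotientGroup.mk (Subgroup.inclusion hDM d') : ↥M ⧸ N.subgroupOf M) = QuotientGroup.mk ⟨x, hx⟩ := hd'
      rw [QuotientGroup.eq, Subgroup.mem_subgroupOf] at h1
      have := mul_mem d'.2 (hDN' h1)
      simpa [Subgroup.inclusion] using this
    have hV2 : ∀ v : ↥(Q.map (QuotientGroup.mk' Z)), v * v = 1 := sec_sq hsq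
    letI := commOfSq hV2
    let g : ↥D →* MulAut ↥(Q.map (QuotientGroup.mk' Z)) := (secAct Z Q).comp D.subtype
    have hker : φ.ker ≤ g.ker := fun d hd => by
      have hdQ : (d : ↥(Subgroup.centralizer ({z} : Set G))) ∈ Q := hDN _ d.2 ((hπ _).mp (MonoidHom.mem_ker.mp hd))
      exact MonoidHom.mem_ker.mpr (secAct_one_iff.mpr fun p hp => hcom _ hdQ p hp)
    have hlt : Nat.card ↥(Q.map (QuotientGroup.mk' Z)) < 2 ^ 14 := by
      have := card_map_le Z Q
      rw [hcard] at this
      omega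
    let L := φ.liftOfSurjective hφ ⟨g, hker⟩
    have h := SmallModule.psu_trivial hK hV2 hlt (L.comp e.symm.toMonoidHom)
    haveI : Nontrivial (↥M ⧸ N.subgroupOf M) := inferInstance
    obtain ⟨x, hx⟩ := exists_ne (1 : ↥M ⧸ N.subgroupOf M)
    obtain ⟨d, rfl⟩ := hφ x
    refine hx ((hπ _).mpr (hQN (hinner _ (secAct_one_iff.mp ?_))))
    have h1 := DFunLike.congr_fun h (e (φ d))
    simp only [MonoidHom.comp_apply, MulEquiv.coe_toMonoidHom, MulEquiv.symm_apply_apply, MonoidHom.one_apply] at h1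
    rwa [MonoidHom.liftOfRightInverse_comp_apply] at h1

end CfsgLib.Fi24Three
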