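import Cfsg.Agent.Lib.Fi24Three.Core

/-!
Some element of the centralizer inverts the top of order three. If all commuted with it, the elements of the core
of a second involution would act on the first core as scalar-linear maps with an image in a space of order four,
so that this core would be too small.
-/

set_option autoImplicit false
set_option linter.unusedSectionVars false

namespace CfsgLib.Fi24Three

open CfsgLargeExtra

universe u

variable {G : Type u} [Group G] [Finite G] {Q : Subgroup G} {z : G}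

/-- Two elements of the core not commuting with a third have a product commuting with it. -/
theorem comm_mul_of_not {a b v : G} (h : ES Q z) (ha : a ∈ Q) (hb : b ∈ Q) (hv : v ∈ Q) (hna : a * v ≠ v * a)
    (hnb : b * v ≠ v * b) : a * b * v = v * (a * b) := by
  have e1 := (h.conj_cases hb hv).resolve_left fun e => hnb (mul_inv_eq_iff_eq_mul.mp e)
  have e2 := (h.conj_cases ha hv).resolve_left fun e => hna (mul_inv_eq_iff_eq_mul.mp e)
  refine mul_inv_eq_iff_eq_mul.mp ?_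
  calc a * b * v * (a * b)⁻¹ = a * (b * v * b⁻¹) * a⁻¹ := by group
    _ = (a * v * a⁻¹) * (a * z * a⁻¹) := by rw [e1]; group
    _ = v := by
      rw [e2, mul_inv_eq_iff_eq_mul.mpr (h.comm a ha), mul_assoc, h.zz, mul_one]

/-- The centralizer in the core of the centralizer of a conjugate pair. -/
theorem mem_pair_of_cent (h : ES Q z) {v : G} (hv : v ∈ Q) (hvv : v * v = 1) {a : G} (ha : a ∈ Q)
    (hc : ∀ p ∈ Q, p * v = v * p → a * p = p * a) : a = 1 ∨ a = z ∨ a = v ∨ a = z * v :=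
  h.mem_four hv hvv ha fun p hp hpv => hc p hp hpv

/-- If every element commuting with `z` centralises `ρ` modulo the core, there is no second conjugate in the core. -/
theorem no_central_top (h : ES Q z) (hcard : Nat.card Q = 2 ^ 13) {g ρ : G} (hxQ : g * z * g⁻¹ ∈ Q)
    (hxz : g * z * g⁻¹ ≠ z) (hρz : ρ * z = z * ρ) (hρ3 : ρ ^ 3 = 1)
    (hfpf : ∀ q ∈ Q, ρ * q * ρ⁻¹ * q⁻¹ ∈ Subgroup.zpowers z → q ∈ Subgroup.zpowers z)
    (htriv : ∀ c : G, c * z = z * c → (∀ q ∈ Q, c * q * c⁻¹ * q⁻¹ ∈ Subgroup.zpowers z) → c ∈ Q)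
    (hcentral : ∀ c : G, c * z = z * c → c * ρ * c⁻¹ * ρ⁻¹ ∈ Q) : False := by
  classical
  set x := g * z * g⁻¹ with hxdef
  set Q' := CfsgLargeExtra.cj g Q with hQ'
  have h' : ES Q' x := h.cj g
  have hcard' : Nat.card Q' = 2 ^ 13 :=
    (Subgroup.card_map_of_injective (MulAut.conj g).injective).trans hcard
  have hzQ' : z ∈ Q' := h.symm_mem hxQ fun _ => h.exists_pair (by rw [hcard]; norm_num) hxQ h'.zz
  set Zs := Subgroup.zpowers z with hZs
  have memZ : ∀ {a : G}, a ∈ Zs ↔ a = 1 ∨ a = z := fun {a} => by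
    constructor
    · rintro ⟨k, rfl⟩
      rcases Int.even_or_odd k with ⟨j, rfl⟩ | ⟨j, rfl⟩
      · left; show z ^ (j + j) = 1
        rw [← two_mul, zpow_mul, zpow_two, h.zz, one_zpow]
      · right; show z ^ (2 * j + 1) = z
        rw [zpow_add, zpow_mul, zpow_two, h.zz, one_zpow, one_mul, zpow_one]
    · rintro (rfl | rfl)
      exacts [one_mem _, Subgroup.mem_zpowers _]
  have hzZ : z ∈ Zs := Subgroup.mem_zpowers z
  have hZQ : Zs ≤ Q := Subgroup.zpowers_le.mpr h.mem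
  have hxx : x * x = 1 := h'.zz
  have hxzc : x * z = z * x := h.comm x hxQ
  have hZc : ∀ c : G, c * z = z * c → ∀ a ∈ Zs, c * a * c⁻¹ = a := by
    intro c hc a ha
    rcases memZ.mp ha with rfl | rfl
    · group
    · exact mul_inv_eq_iff_eq_mul.mpr hc
  -- equality modulo `z`
  have hcong : ∀ c : G, c * z = z * c → ∀ q ∈ Q,
      (c * (ρ * q * ρ⁻¹) * c⁻¹) * (ρ * (c * q * c⁻¹) * ρ⁻¹)⁻¹ ∈ Zs := by
    intro c hc q hq
    have hs := hcentral c hc
    set w := ρ * (c * q * c⁻¹) * ρ⁻¹ with hw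
    have hwQ : w ∈ Q := h.nor ρ hρz _ (h.nor c hc q hq)
    have he : c * (ρ * q * ρ⁻¹) * c⁻¹ = (c * ρ * c⁻¹ * ρ⁻¹) * w * (c * ρ * c⁻¹ * ρ⁻¹)⁻¹ := by
      rw [hw]; group
    rw [he]
    rcases h.conj_cases hs hwQ with e | e <;> rw [e]
    · rw [mul_inv_cancel]; exact one_mem _
    · rw [h.comm w hwQ, mul_inv_cancel_right]; exact hzZ
  have hcoset : ∀ {a b : G}, a * b⁻¹ ∈ Zs → a = b ∨ a = z * b := by
    intro a b hab
    rcases memZ.mp hab with e | e
    · exact Or.inl (mul_inv_eq_one.mp e)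
    · exact Or.inr (mul_inv_eq_iff_eq_mul.mp e)
  set x' := ρ * x * ρ⁻¹ with hx'def
  have hx'Q : x' ∈ Q := h.nor ρ hρz x hxQ
  -- the joint core and the centralizer of `z` in the second core
  set U := Q' ⊓ Subgroup.centralizer ({z} : Set G) with hUdef
  have memU : ∀ {u : G}, u ∈ U ↔ u ∈ Q' ∧ u * z = z * u := fun {u} => by
    rw [hUdef, Subgroup.mem_inf, Subgroup.mem_centralizer_singleton_iff]
  set D := Q ⊓ Q' with hDdef
  have hfour : ∀ a ∈ Q', (∀ u ∈ U, a * u = u * a) → a = 1 ∨ a = x ∨ a = z ∨ a = x * z := fun a ha hc =>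
    mem_pair_of_cent h' hzQ' h.zz ha fun p hp hpz => hc p (memU.mpr ⟨hp, hpz⟩)
  -- the first case
  have hx'Q' : x' ∉ Q' := by
    intro hmem
    have hall : ∀ u ∈ U, x' * u = u * x' := by
      intro u hu
      obtain ⟨huQ, huz⟩ := memU.mp hu
      have hux : u * x * u⁻¹ = x := mul_inv_eq_iff_eq_mul.mpr (h'.comm u huQ)
      have h1 := hcong u huz x hxQ
      rw [hux] at h1
      rcases h'.conj_cases huQ hmem with e | e
      · exact (mul_inv_eq_iff_eq_mul.mp e).symm
      · exfalso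
        rcases hcoset h1 with f | f <;> rw [e] at f
        · exact h'.ne (mul_eq_left.mp f)
        · rw [← h.comm x' hx'Q] at f
          exact hxz (mul_left_cancel f)
    have hfix : x ∈ Zs := by
      refine hfpf x hxQ ?_
      rcases hfour x' hmem hall with e | e | e | e
      · exfalso
        refine h'.ne ?_
        rw [hx'def] at e
        exact conj_eq_one_iff.mp e
      · rw [← hx'def, e, mul_inv_cancel]; exact one_mem _
      · exfalso
        refine hxz (mul_left_cancel (a := ρ) (mul_right_cancel (b := ρ⁻¹) ?_))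
        rw [← hx'def, e, hρz, mul_inv_cancel_right]
      · rw [← hx'def, e, hxzc, mul_inv_cancel_right]; exact hzZ
    rcases memZ.mp hfix with e | e
    exacts [h'.ne e, hxz e]
  -- the invariant part of the joint core
  let T : Set G := {t | t ∈ D ∧ ρ * t * ρ⁻¹ ∈ D ∧ ρ * (ρ * t * ρ⁻¹) * ρ⁻¹ ∈ D}
  have hzD : z ∈ D := ⟨h.mem, hzQ'⟩
  have hDcong : ∀ {a b : G}, a * b⁻¹ ∈ Zs → b ∈ D → a ∈ D := by
    intro a b hab hb
    have := mul_mem ((Subgroup.zpowers_le.mpr hzD) hab) hb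
    rwa [inv_mul_cancel_right] at this
  have hUD : ∀ u ∈ U, ∀ d ∈ D, u * d * u⁻¹ ∈ D := fun u hu d hd =>
    ⟨h.nor u (memU.mp hu).2 d hd.1, mul_mem (mul_mem (memU.mp hu).1 hd.2) (Subgroup.inv_mem _ (memU.mp hu).1)⟩
  have hstep : ∀ u ∈ U, ∀ q ∈ Q, ρ * q * ρ⁻¹ ∈ D → ρ * (u * q * u⁻¹) * ρ⁻¹ ∈ D := by
    intro u hu q hq hd
    refine hDcong ?_ (hUD u hu _ hd)
    have h1 := inv_mem (hcong u (memU.mp hu).2 q hq)
    rwa [mul_inv_rev, inv_inv] at h1
  have hTinv : ∀ u ∈ U, ∀ t ∈ T, u * t * u⁻¹ ∈ T := by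
    intro u hu t ht
    refine ⟨hUD u hu t ht.1, hstep u hu t ht.1.1 ht.2.1, ?_⟩
    have hq := h.nor ρ hρz t ht.1.1
    have h1 := hcong u (memU.mp hu).2 t ht.1.1
    have h2 : ρ * (u * (ρ * t * ρ⁻¹) * u⁻¹) * ρ⁻¹ ∈ D := hstep u hu _ hq ht.2.2
    rcases hcoset h1 with f | f
    · rwa [f] at h2
    · rw [f, show ρ * (z * (ρ * (u * t * u⁻¹) * ρ⁻¹)) * ρ⁻¹ =
        (ρ * z * ρ⁻¹) * (ρ * (ρ * (u * t * u⁻¹) * ρ⁻¹) * ρ⁻¹) by group, mul_inv_eq_iff_eq_mul.mpr hρz] at h2
      have := mul_mem hzD h2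
      rwa [← mul_assoc, h.zz, one_mul] at this
  have hTmul : ∀ a ∈ T, ∀ b ∈ T, a * b⁻¹ ∈ T := by
    intro a ha b hb
    refine ⟨mul_mem ha.1 (inv_mem hb.1), ?_, ?_⟩
    · have := mul_mem ha.2.1 (inv_mem hb.2.1)
      rwa [show ρ * a * ρ⁻¹ * (ρ * b * ρ⁻¹)⁻¹ = ρ * (a * b⁻¹) * ρ⁻¹ by group] at this
    · have := mul_mem ha.2.2 (inv_mem hb.2.2)
      rwa [show ρ * (ρ * a * ρ⁻¹) * ρ⁻¹ * (ρ * (ρ * b * ρ⁻¹) * ρ⁻¹)⁻¹ = ρ * (ρ * (a * b⁻¹) * ρ⁻¹) * ρ⁻¹ by group]
        at this
  have hxT : x ∉ T := fun hT => hx'Q' hT.2.1.2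
  have hxzT : x * z ∉ T := fun hT => by
    apply hx'Q'
    have h1 := mul_mem hT.2.1.2 hzQ'
    rwa [show ρ * (x * z) * ρ⁻¹ = x' * (ρ * z * ρ⁻¹) by rw [hx'def]; group, mul_inv_eq_iff_eq_mul.mpr hρz,
      mul_assoc, h.zz, mul_one] at h1
  have hTtriv : ∀ t ∈ T, t ∈ Zs := by
    intro t ht
    have hall : ∀ u ∈ U, t * u = u * t := by
      intro u hu
      rcases h'.conj_cases (memU.mp hu).1 ht.1.2 with e | e
      · exact (mul_inv_eq_iff_eq_mul.mp e).symm
      · exfalso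
        have h1 := hTmul _ (hTinv u hu t ht) _ ht
        rw [e, h'.comm t ht.1.2, mul_inv_cancel_right] at h1
        exact hxT h1
    rcases hfour t ht.1.2 hall with e | e | e | e
    · rw [e]; exact one_mem _
    · exact absurd (e ▸ ht) hxT
    · rw [e]; exact hzZ
    · exact absurd (e ▸ ht) hxzT
  -- the perpendicular space of the line
  set T1 : Subgroup G := Q ⊓ Subgroup.centralizer ({x, x'} : Set G) with hT1def
  have memT1 : ∀ {t : G}, t ∈ T1 ↔ t ∈ Q ∧ t * x = x * t ∧ t * x' = x' * t := fun {t} => by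
    rw [hT1def, Subgroup.mem_inf, Subgroup.mem_centralizer_iff]
    simp [eq_comm]
  set x'' := ρ * x' * ρ⁻¹ with hx''def
  have hsum : x * x' * x'' ∈ Zs := by
    have hx''Q : x'' ∈ Q := h.nor ρ hρz x' hx'Q
    have hm : x * x' * x'' ∈ Q := mul_mem (mul_mem hxQ hx'Q) hx''Q
    refine hfpf _ hm ?_
    have e3 : ρ * x'' * ρ⁻¹ = x := by
      have h3 : ρ * ρ * ρ = 1 := by rw [← hρ3]; simp [pow_succ]
      calc ρ * x'' * ρ⁻¹ = (ρ * ρ * ρ) * x * (ρ * ρ * ρ)⁻¹ := by rw [hx''def, hx'def]; group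
        _ = x := by rw [h3]; group
    have e4 : ρ * (x * x' * x'') * ρ⁻¹ = x' * x'' * x := by
      rw [show ρ * (x * x' * x'') * ρ⁻¹ = (ρ * x * ρ⁻¹) * (ρ * x' * ρ⁻¹) * (ρ * x'' * ρ⁻¹) by group, e3, ← hx'def,
        ← hx''def]
    rw [e4]
    rcases h.conj_cases (show x⁻¹ ∈ Q from inv_mem hxQ) hm with e | e
    · rw [show x' * x'' * x = x⁻¹ * (x * x' * x'') * x⁻¹⁻¹ by group, e, mul_inv_cancel]; exact one_mem _
    · rw [show x' * x'' * x = x⁻¹ * (x * x' * x'') * x⁻¹⁻¹ by group, e, h.comm _ hm, mul_inv_cancel_right]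
      exact hzZ
  have hρT1 : ∀ t ∈ T1, ρ * t * ρ⁻¹ ∈ T1 := by
    intro t ht
    obtain ⟨htQ, htx, htx'⟩ := memT1.mp ht
    have hq := h.nor ρ hρz t htQ
    have h1 : Commute (ρ * t * ρ⁻¹) x' := by
      show _ = _
      rw [hx'def, show ρ * t * ρ⁻¹ * (ρ * x * ρ⁻¹) = ρ * (t * x) * ρ⁻¹ by group, htx]; group
    have h2 : Commute (ρ * t * ρ⁻¹) x'' := by
      show _ = _
      rw [hx''def, show ρ * t * ρ⁻¹ * (ρ * x' * ρ⁻¹) = ρ * (t * x') * ρ⁻¹ by group, htx']; group
    have h3 : Commute (ρ * t * ρ⁻¹) (x * x' * x'') := by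
      rcases memZ.mp hsum with e | e <;> rw [e]
      exacts [Commute.one_right _, h.comm _ hq]
    have h4 := (h3.mul_right h2.inv_right).mul_right h1.inv_right
    rw [show x * x' * x'' * x''⁻¹ * x'⁻¹ = x by group] at h4
    exact memT1.mpr ⟨hq, h4.eq, h1.eq⟩
  have hUT1 : ∀ u ∈ U, ∀ t ∈ T1, u * t * u⁻¹ * t⁻¹ ∈ Zs := by
    intro u hu t ht
    obtain ⟨huQ, huz⟩ := memU.mp hu
    have hinD : ∀ t ∈ T1, u * t * u⁻¹ * t⁻¹ ∈ D := by
      intro t ht
      obtain ⟨htQ, htx, -⟩ := memT1.mp ht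
      refine ⟨mul_mem (h.nor u huz t htQ) (Subgroup.inv_mem _ htQ), ?_⟩
      have := mul_mem huQ (h'.nor t htx u⁻¹ (inv_mem huQ))
      simpa [mul_assoc] using this
    have hconv : ∀ t ∈ T1, (ρ * (u * t * u⁻¹ * t⁻¹) * ρ⁻¹) * (u * (ρ * t * ρ⁻¹) * u⁻¹ * (ρ * t * ρ⁻¹)⁻¹)⁻¹ ∈ Zs := by
      intro t ht
      have h1 := inv_mem (hcong u huz t (memT1.mp ht).1)
      convert h1 using 1
      group
    have hρD : ∀ t ∈ T1, ρ * (u * t * u⁻¹ * t⁻¹) * ρ⁻¹ ∈ D := fun t ht =>
      hDcong (hconv t ht) (hinD _ (hρT1 t ht))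
    refine hTtriv _ ⟨hinD t ht, hρD t ht, ?_⟩
    have h2 := hρD _ (hρT1 t ht)
    rcases hcoset (hconv t ht) with f | f
    · rwa [f]
    · rw [f, show ρ * (z * (u * (ρ * t * ρ⁻¹) * u⁻¹ * (ρ * t * ρ⁻¹)⁻¹)) * ρ⁻¹ =
        (ρ * z * ρ⁻¹) * (ρ * (u * (ρ * t * ρ⁻¹) * u⁻¹ * (ρ * t * ρ⁻¹)⁻¹) * ρ⁻¹) by group,
        mul_inv_eq_iff_eq_mul.mpr hρz]
      exact mul_mem hzD h2
  -- an element outside
  obtain ⟨a, ha, hax⟩ : ∃ a ∈ Q, a * x ≠ x * a := by
    by_contra hno
    push Not at hno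
    rcases h.cen x fun q hq => (hno q hq).symm with e | e
    exacts [h'.ne e, hxz e]
  let S : Subgroup G := Subgroup.closure {z, x, x'}
  have hSQ : S ≤ Q := (Subgroup.closure_le Q).mpr (by
    rintro y (rfl | rfl | rfl)
    exacts [h.mem, hxQ, hx'Q])
  have hS : ∀ u ∈ U, u * a * u⁻¹ * a⁻¹ ∈ S := by
    intro u hu
    obtain ⟨huQ, huz⟩ := memU.mp hu
    have hbQ : u * a * u⁻¹ ∈ Q := h.nor u huz a ha
    refine h.double_cent S hSQ (Subgroup.subset_closure (by simp)) (mul_mem hbQ (inv_mem ha)) fun p hp hps => ?_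
    have hpT1 : p ∈ T1 := memT1.mpr ⟨hp, (hps x (Subgroup.subset_closure (by simp))).symm,
      (hps x' (Subgroup.subset_closure (by simp))).symm⟩
    have h1 : u * p * u⁻¹ = p ∨ u * p * u⁻¹ = z * p := hcoset (hUT1 u hu p hpT1)
    have hup : u * p * u⁻¹ ∈ Q := h.nor u huz p hp
    have key : (u * a * u⁻¹) * p * (u * a * u⁻¹)⁻¹ = a * p * a⁻¹ := by
      have hL : (u * a * u⁻¹) * (u * p * u⁻¹) * (u * a * u⁻¹)⁻¹ = u * (a * p * a⁻¹) * u⁻¹ := by group
      have hfixZ : u * z * u⁻¹ = z := hZc u huz z hzZ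
      have hbz : (u * a * u⁻¹) * z * (u * a * u⁻¹)⁻¹ = z := mul_inv_eq_iff_eq_mul.mpr (h.comm _ hbQ)
      rcases h.conj_cases ha hp with e | e <;> rw [e] at hL ⊢
      · rcases h1 with f | f <;> rw [f] at hL
        · exact hL
        · rw [show u * a * u⁻¹ * (z * p) * (u * a * u⁻¹)⁻¹ =
            ((u * a * u⁻¹) * z * (u * a * u⁻¹)⁻¹) * ((u * a * u⁻¹) * p * (u * a * u⁻¹)⁻¹) by group, hbz] at hL
          exact mul_left_cancel hL
      · rw [show u * (p * z) * u⁻¹ = (u * p * u⁻¹) * (u * z * u⁻¹) by group, hfixZ] at hL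
        rcases h1 with f | f <;> rw [f] at hL
        · exact hL
        · rw [show u * a * u⁻¹ * (z * p) * (u * a * u⁻¹)⁻¹ =
            ((u * a * u⁻¹) * z * (u * a * u⁻¹)⁻¹) * ((u * a * u⁻¹) * p * (u * a * u⁻¹)⁻¹) by group, hbz,
            mul_assoc z p z] at hL
          exact mul_left_cancel hL
    refine mul_inv_eq_iff_eq_mul.mp ?_
    calc (u * a * u⁻¹ * a⁻¹) * p * (u * a * u⁻¹ * a⁻¹)⁻¹
        = (u * a * u⁻¹) * (a⁻¹ * p * a⁻¹⁻¹) * (u * a * u⁻¹)⁻¹ := by group
      _ = p := by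
        rcases h.conj_cases (inv_mem ha) hp with e | e <;> rw [e]
        · rw [key]
          rw [inv_inv, mul_assoc] at e
          exact mul_inv_eq_iff_eq_mul.mpr ((inv_mul_eq_iff_eq_mul.mp e).symm)
        · rw [show u * a * u⁻¹ * (p * z) * (u * a * u⁻¹)⁻¹ = ((u * a * u⁻¹) * p * (u * a * u⁻¹)⁻¹) *
            ((u * a * u⁻¹) * z * (u * a * u⁻¹)⁻¹) by group, key, mul_inv_eq_iff_eq_mul.mpr (h.comm _ hbQ)]
          calc a * p * a⁻¹ * z = a * (p * z) * a⁻¹ := by
                rw [show a * (p * z) * a⁻¹ = a * p * a⁻¹ * (a * z * a⁻¹) by group,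
                  mul_inv_eq_iff_eq_mul.mpr (h.comm a ha)]
            _ = p := by rw [← e]; group
  have hsame : ∀ u ∈ U, (∀ q ∈ T1, u * q * u⁻¹ * q⁻¹ ∈ Zs) → u * a * u⁻¹ * a⁻¹ ∈ Zs → u ∈ Q := by
    intro u hu h1 h2
    obtain ⟨huQ, huz⟩ := memU.mp hu
    let K : Subgroup G :=
      { carrier := {q | q ∈ Q ∧ u * q * u⁻¹ * q⁻¹ ∈ Zs}
        one_mem' := ⟨one_mem _, by simp⟩
        mul_mem' := fun {b c} hb hc => ⟨mul_mem hb.1 hc.1, by
          have := mul_mem hb.2 hc.2
          have e : b * (u * c * u⁻¹ * c⁻¹) * b⁻¹ = u * c * u⁻¹ * c⁻¹ := hZc b (h.comm b hb.1) _ hc.2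
          rw [← e] at this
          convert this using 1; group⟩
        inv_mem' := fun {b} hb => ⟨inv_mem hb.1, by
          have := inv_mem hb.2
          rw [← hZc b⁻¹ (h.comm _ (inv_mem hb.1)) _ this] at this
          convert this using 1; group⟩ }
    have hρK : ∀ q ∈ K, ρ * q * ρ⁻¹ ∈ K := by
      intro q hq
      refine ⟨h.nor ρ hρz q hq.1, ?_⟩
      have e1 := hcong u huz q hq.1
      have e2 : ρ * (u * q * u⁻¹ * q⁻¹) * ρ⁻¹ ∈ Zs := by rw [hZc ρ hρz _ hq.2]; exact hq.2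
      have := mul_mem e1 e2
      convert this using 1; group
    have haK : a ∈ K := ⟨ha, h2⟩
    have haK' := hρK a haK
    set a' := ρ * a * ρ⁻¹ with ha'def
    have ha' := haK'.1
    have ha'x' : a' * x' ≠ x' * a' := fun e => hax (by
      rw [ha'def, hx'def, show ρ * a * ρ⁻¹ * (ρ * x * ρ⁻¹) = ρ * (a * x) * ρ⁻¹ by group,
        show ρ * x * ρ⁻¹ * (ρ * a * ρ⁻¹) = ρ * (x * a) * ρ⁻¹ by group] at e
      exact mul_left_cancel (mul_right_cancel e))
    obtain ⟨b, hbK, hbx, hbx'⟩ : ∃ b ∈ K, b * x = x * b ∧ b * x' ≠ x' * b := by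
      by_cases hax' : a * x' = x' * a
      · refine ⟨a * a', mul_mem haK haK', ?_, fun e => ha'x' ?_⟩
        · refine comm_mul_of_not h ha ha' hxQ hax fun e => ?_
          have h3 : Commute a' (x * x' * x'') := by
            rcases memZ.mp hsum with f | f <;> rw [f]
            exacts [Commute.one_right _, h.comm _ ha']
          have h4 : Commute a' x'' := by
            show _ = _
            rw [hx''def, ha'def, show ρ * a * ρ⁻¹ * (ρ * x' * ρ⁻¹) = ρ * (a * x') * ρ⁻¹ by group, hax']; group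
          have h5 := ((show Commute a' x from e).inv_right.mul_right h3).mul_right h4.inv_right
          rw [show x⁻¹ * (x * x' * x'') * x''⁻¹ = x' by group] at h5
          exact ha'x' h5.eq
        · have := (show Commute a x' from hax').inv_left.mul_left e
          rwa [inv_mul_cancel_left] at this
      · refine ⟨a', haK', ?_, ha'x'⟩
        by_contra hne
        have h4 : a' * x'' ≠ x'' * a' := fun e => hax' (by
          rw [ha'def, hx''def, show ρ * a * ρ⁻¹ * (ρ * x' * ρ⁻¹) = ρ * (a * x') * ρ⁻¹ by group,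
            show ρ * x' * ρ⁻¹ * (ρ * a * ρ⁻¹) = ρ * (x' * a) * ρ⁻¹ by group] at e
          exact mul_left_cancel (mul_right_cancel e))
        have e1 := (h.conj_cases ha' hxQ).resolve_left fun e => hne (mul_inv_eq_iff_eq_mul.mp e)
        have e2 := (h.conj_cases ha' hx'Q).resolve_left fun e => ha'x' (mul_inv_eq_iff_eq_mul.mp e)
        have hx''Q : x'' ∈ Q := h.nor ρ hρz x' hx'Q
        have e3 := (h.conj_cases ha' hx''Q).resolve_left fun e => h4 (mul_inv_eq_iff_eq_mul.mp e)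
        have hp : a' * (x * x' * x'') * a'⁻¹ = x * x' * x'' := hZc a' (h.comm a' ha') _ hsum
        rw [show a' * (x * x' * x'') * a'⁻¹ = (a' * x * a'⁻¹) * (a' * x' * a'⁻¹) * (a' * x'' * a'⁻¹) by group,
          e1, e2, e3] at hp
        have hz3 : x * z * (x' * z) * (x'' * z) = x * x' * x'' * z := by
          rw [show x * z * (x' * z) = x * (z * x') * z by group, ← h.comm x' hx'Q,
            show x * (x' * z) * z * (x'' * z) = x * x' * (z * z) * x'' * z by group, h.zz]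
          group
        rw [hz3] at hp
        exact h.ne (mul_eq_left.mp hp)
    refine htriv u huz fun q hq => ?_
    suffices hqK : q ∈ K from hqK.2
    obtain ⟨q1, hq1, hq1x, k1, hk1, rfl⟩ : ∃ q1, q1 ∈ Q ∧ q1 * x = x * q1 ∧ ∃ k ∈ K, q = q1 * k := by
      by_cases hc : q * x = x * q
      · exact ⟨q, hq, hc, 1, one_mem _, (mul_one q).symm⟩
      · exact ⟨q * a, mul_mem hq ha, comm_mul_of_not h hq ha hxQ hc hax, a⁻¹, inv_mem haK, by group⟩
    refine mul_mem ?_ hk1
    by_cases hc : q1 * x' = x' * q1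
    · exact ⟨hq1, h1 q1 (memT1.mpr ⟨hq1, hq1x, hc⟩)⟩
    · have hm : q1 * b ∈ T1 := memT1.mpr ⟨mul_mem hq1 hbK.1,
        (Commute.mul_left hq1x hbx).eq, comm_mul_of_not h hq1 hbK.1 hx'Q hc hbx'⟩
      have hm' : q1 * b ∈ K := ⟨(memT1.mp hm).1, h1 _ hm⟩
      have := mul_mem hm' (inv_mem hbK)
      rwa [mul_inv_cancel_right] at this
  -- at most four classes
  have hxx' : x * x' = x' * x := by
    by_contra hne
    have hz : x * x' * x⁻¹ = x' * z := (h.conj_cases hxQ hx'Q).resolve_left fun e => hne (mul_inv_eq_iff_eq_mul.mp e)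
    have hs : x' * x * x'⁻¹ = x * z := (h.conj_cases hx'Q hxQ).resolve_left fun e => hne (mul_inv_eq_iff_eq_mul.mp e).symm
    have hx'x' : x' * x' = 1 := by rw [hx'def, show ρ * x * ρ⁻¹ * (ρ * x * ρ⁻¹) = ρ * (x * x) * ρ⁻¹ by group, hxx]; group
    have hx''x'' : x'' * x'' = 1 := by
      rw [hx''def, show ρ * x' * ρ⁻¹ * (ρ * x' * ρ⁻¹) = ρ * (x' * x') * ρ⁻¹ by group, hx'x']; group
    rcases hcoset (show (x * x') * x''⁻¹ ∈ Zs by rwa [inv_eq_of_mul_eq_one_right hx''x'']) with e | e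
    · have : (x * x') * (x * x') = 1 := by rw [e, hx''x'']
      rw [inv_eq_of_mul_eq_one_right hxx] at hz
      rw [show x * x' * (x * x') = (x * x' * x) * x' by group, hz, mul_assoc, ← h.comm x' hx'Q, ← mul_assoc, hx'x',
        one_mul] at this
      exact h.ne this
    · have : (x * x') * (x * x') = 1 := by
        rw [e, mul_assoc z x'' (z * x''), ← mul_assoc x'' z x'', h.comm x'' (h.nor ρ hρz x' hx'Q), mul_assoc z x'' x'',
          hx''x'', mul_one, h.zz]
      rw [inv_eq_of_mul_eq_one_right hxx] at hz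
      rw [show x * x' * (x * x') = (x * x' * x) * x' by group, hz, mul_assoc, ← h.comm x' hx'Q, ← mul_assoc, hx'x',
        one_mul] at this
      exact h.ne this
  have hSform : ∀ s ∈ S, ∃ i j k : Bool, s = (if i then z else 1) * (if j then x else 1) * (if k then x' else 1) := by
    have hx'x' : x' * x' = 1 := by
      rw [hx'def, show ρ * x * ρ⁻¹ * (ρ * x * ρ⁻¹) = ρ * (x * x) * ρ⁻¹ by group, hxx]; group
    intro s hs
    induction hs using Subgroup.closure_induction with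
    | mem t ht =>
      rcases ht with rfl | rfl | rfl
      exacts [⟨true, false, false, by simp⟩, ⟨false, true, false, by simp⟩, ⟨false, false, true, by simp⟩]
    | one => exact ⟨false, false, false, by simp⟩
    | mul p q _ _ hp hq =>
      obtain ⟨i, j, k, rfl⟩ := hp
      obtain ⟨i', j', k', rfl⟩ := hq
      refine ⟨xor i i', xor j j', xor k k', ?_⟩
      have c1 : ∀ (b : Bool), Commute z (if b then x else 1) := fun b => by
        cases b
        exacts [Commute.one_right z, hxzc.symm]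
      have c2 : ∀ (b : Bool), Commute z (if b then x' else 1) := fun b => by
        cases b
        exacts [Commute.one_right z, (h.comm x' hx'Q).symm]
      have cA : ∀ (a b : Bool), Commute (if a then z else 1) (if b then x else 1) := fun a b => by
        cases a
        exacts [Commute.one_left _, c1 b]
      have cB : ∀ (a b : Bool), Commute (if a then z else 1) (if b then x' else 1) := fun a b => by
        cases a
        exacts [Commute.one_left _, c2 b]
      have cC : ∀ (a b : Bool), Commute (if a then x else 1) (if b then x' else 1) := fun a b => by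
        cases a
        · exact Commute.one_left _
        · cases b
          exacts [Commute.one_right x, hxx']
      have sq : ∀ (w : G), w * w = 1 → ∀ a b : Bool,
          (if a then w else 1) * (if b then w else 1) = if xor a b then w else 1 := fun w hw a b => by
        cases a <;> cases b <;> simp [hw]
      rw [← sq z h.zz, ← sq x hxx, ← sq x' hx'x']
      rw [show ∀ A B C A' B' C' : G, A * B * C * (A' * B' * C') = A * (B * C * A') * B' * C' from
          fun _ _ _ _ _ _ => by group,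
        ((cA i' j).symm.mul_left (cB i' k).symm).eq]
      rw [show ∀ A B C A' B' C' : G, A * (A' * (B * C)) * B' * C' = A * A' * B * (C * B') * C' from
          fun _ _ _ _ _ _ => by group, ← (cC j' k).eq]
      group
    | inv p _ hp =>
      obtain ⟨i, j, k, rfl⟩ := hp
      refine ⟨i, j, k, inv_eq_of_mul_eq_one_right ?_⟩
      have cz1 : Commute z x := hxzc.symm
      have cz2 : Commute z x' := (h.comm x' hx'Q).symm
      have cx : Commute x x' := hxx'
      cases i <;> cases j <;> cases k <;> simp only [if_true, Bool.false_eq_true, if_false, one_mul, mul_one]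
      · exact hx'x'
      · exact hxx
      · rw [cx.symm.mul_mul_mul_comm, hxx, hx'x', one_mul]
      · exact h.zz
      · rw [cz2.symm.mul_mul_mul_comm, h.zz, hx'x', one_mul]
      · rw [cz1.symm.mul_mul_mul_comm, h.zz, hxx, one_mul]
      · rw [(cz2.mul_left cx).symm.mul_mul_mul_comm, cz1.symm.mul_mul_mul_comm, h.zz, hxx, hx'x', one_mul,
          one_mul]
  choose iF jF kF hform using fun u : U => hSform _ (hS u u.2)
  let f : U → Bool × Bool := fun u => (jF u, kF u)
  have hfib : ∀ u v : U, f u = f v → (v : G)⁻¹ * u ∈ Q := by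
    intro u v e
    simp only [f, Prod.mk.injEq] at e
    have hmem : (v : G)⁻¹ * u ∈ U := mul_mem (inv_mem v.2) u.2
    refine hsame _ hmem (hUT1 _ hmem) ?_
    have hvz := (memU.mp v.2).2
    have e1 := hform u
    have e2 := hform v
    rw [e.1, e.2] at e1
    have e3 : ((u : G) * a * (u : G)⁻¹ * a⁻¹) * ((v : G) * a * (v : G)⁻¹ * a⁻¹)⁻¹ ∈ Zs := by
      rw [e1, e2]
      generalize (if jF v then x else 1) = p
      generalize (if kF v then x' else 1) = q
      have : ∀ i : Bool, (if i then z else 1) ∈ Zs := fun i => by cases i <;> simp [hzZ]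
      convert mul_mem (this (iF u)) (inv_mem (this (iF v))) using 1
      group
    have e4 := hZc (v : G)⁻¹ (by rw [inv_mul_eq_iff_eq_mul, ← mul_assoc, hvz, mul_inv_cancel_right]) _ e3
    rw [← e4] at e3
    convert e3 using 1
    group
  have hUcard : Nat.card Q' ≤ 2 * Nat.card U := by
    by_cases hall : ∀ q ∈ Q', q * z = z * q
    · have : Q' ≤ U := fun q hq => memU.mpr ⟨hq, hall q hq⟩
      have := Subgroup.card_le_of_le this
      omega
    push Not at hall
    obtain ⟨q₀, hq₀, hne⟩ := hall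
    have hinj : ∀ q : Q', ∃ p : U × Bool, (q : G) = (if p.2 then q₀⁻¹ else 1) * p.1 := by
      intro q
      by_cases hc : (q : G) * z = z * q
      · exact ⟨(⟨q, memU.mpr ⟨q.2, hc⟩⟩, false), by simp⟩
      · exact ⟨(⟨q₀ * q, memU.mpr ⟨mul_mem hq₀ q.2, comm_mul_of_not h' hq₀ q.2 hzQ' hne hc⟩⟩, true), by simp⟩
    choose p hp using hinj
    have := Nat.card_le_card_of_injective p fun a b e => Subtype.ext (by rw [hp a, hp b, e])
    rw [Nat.card_prod, Nat.card_eq_fintype_card (α := Bool), Fintype.card_bool, mul_comm] at this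
    exact this
  have hDcard : Nat.card D ≤ 2 ^ 7 := by
    set D' := D.subgroupOf Q
    have hzD' : (⟨z, h.mem⟩ : Q) ∈ D' := hzD
    have h1 := h.toExt.card_mul_card_centralizer (A := D') hzD'
    have hle : D' ≤ Subgroup.centralizer (D' : Set Q) := by
      intro d hd
      refine Subgroup.mem_centralizer_iff.mpr fun e he => Subtype.ext ?_
      rcases h'.conj_cases (show (d : G) ∈ Q' from (Subgroup.mem_subgroupOf.mp hd).2)
        (show (e : G) ∈ Q' from (Subgroup.mem_subgroupOf.mp he).2) with f | f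
      · exact (mul_inv_eq_iff_eq_mul.mp f).symm
      · exfalso
        rcases h.conj_cases d.2 e.2 with f' | f' <;> rw [f] at f'
        · exact h'.ne (mul_eq_left.mp f')
        · exact hxz (mul_left_cancel f')
    have h2 := Subgroup.card_le_of_le hle
    have h3 : Nat.card D' = Nat.card D := Nat.card_congr (Subgroup.subgroupOfEquivOfLe inf_le_left).toEquiv
    rw [h3] at h1 h2
    have h4 : Nat.card ↥Q * 2 = 2 ^ 14 := by rw [hcard]; norm_num
    nlinarith
  have hsmall : Nat.card U ≤ 4 * Nat.card D := by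
    have hex : ∀ b : Bool × Bool, ∃ v : U, (∃ u, f u = b) → f v = b := fun b => by
      by_cases hb : ∃ u, f u = b
      · exact ⟨hb.choose, fun _ => hb.choose_spec⟩
      · exact ⟨1, fun h => absurd h hb⟩
    choose rep hrep using hex
    have hmemD : ∀ u : U, (rep (f u) : G)⁻¹ * u ∈ D := fun u =>
      ⟨hfib u _ (hrep (f u) ⟨u, rfl⟩).symm, mul_mem (Subgroup.inv_mem _ (memU.mp (rep (f u)).2).1) (memU.mp u.2).1⟩
    have := Nat.card_le_card_of_injective (fun u : U => (f u, (⟨_, hmemD u⟩ : D))) fun u v e => by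
      have e1 := congrArg Prod.fst e
      have e2 := congrArg (fun w : (Bool × Bool) × D => ((w.2 : G))) e
      simp only at e1 e2
      rw [e1] at e2
      exact Subtype.ext (mul_left_cancel e2)
    rwa [Nat.card_prod, Nat.card_eq_fintype_card (α := Bool × Bool), Fintype.card_prod, Fintype.card_bool] at this
  omega

/-- Some element inverts the top. -/
theorem invert_fact {C : Subgroup G} (hC : C = Subgroup.centralizer ({z} : Set G)) {QC N : Subgroup ↥C} [QC.Normal]
    (hQ : QC.map C.subtype = Q) (h : ES Q z) (hcard : Nat.card Q = 2 ^ 13) (hnwc : ∃ g : G, g * z * g⁻¹ ∈ Q ∧ g * z * g⁻¹ ≠ z)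
    (hQN : QC ≤ N) (hN : Nat.card N = 3 * Nat.card QC)
    (hfpf : ∀ r ∈ N, r ∉ QC → ∀ q ∈ QC, ((r * q * r⁻¹ * q⁻¹ : ↥C) : G) ∈ Subgroup.zpowers z →
      (q : G) ∈ Subgroup.zpowers z) :
    ∃ c, ∃ r ∈ N, c * r * c⁻¹ * r⁻¹ ∉ QC := by
  by_contra hall
  push Not at hall
  haveI : Fact (Nat.Prime 3) := ⟨Nat.prime_three⟩
  obtain ⟨r, hr⟩ := exists_prime_orderOf_dvd_card' (G := ↥N) 3 ⟨_, hN⟩
  have hr3 : ((r : ↥C) : G) ^ 3 = 1 := by
    rw [← hr, ← Subgroup.coe_pow, ← Subgroup.coe_pow, pow_orderOf_eq_one]; rfl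
  have hrQ : (r : ↥C) ∉ QC := fun hm => by
    have h2 : IsPGroup 2 ↥QC := IsPGroup.of_card (n := 13) (by
      rw [← hcard, ← hQ, Subgroup.card_map_of_injective C.subtype_injective])
    obtain ⟨k, hk⟩ := h2 ⟨(r : ↥C), hm⟩
    have h1 : orderOf (r : ↥C) ∣ 2 ^ k := orderOf_dvd_of_pow_eq_one (congrArg Subtype.val hk)
    rw [Subgroup.orderOf_coe, hr] at h1
    have := Nat.le_of_dvd (by norm_num) (Nat.prime_three.dvd_of_dvd_pow h1)
    omega
  obtain ⟨g, hg, hgz⟩ := hnwc
  have memC : ∀ {c : G}, c * z = z * c → c ∈ C := fun {c} hc => hC ▸ Subgroup.mem_centralizer_singleton_iff.mpr hc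
  have hrz : ((r : ↥C) : G) * z = z * (r : ↥C) := by
    have := (r : ↥C).2
    exact Subgroup.mem_centralizer_singleton_iff.mp (hC ▸ this)
  refine no_central_top h hcard hg hgz hrz hr3 ?_ ?_ ?_
  · intro q hq hm
    obtain ⟨p, hp, rfl⟩ : q ∈ QC.map C.subtype := hQ ▸ hq
    exact hfpf (r : ↥C) r.2 hrQ p hp hm
  · intro c hc htr
    subst hC hQ
    exact ⟨⟨c, memC hc⟩, mem_of_trivial h fun q hq => htr q ⟨q, hq, rfl⟩, rfl⟩
  · intro c hc
    rw [← hQ]
    exact ⟨_, hall ⟨c, memC hc⟩ (r : ↥C) r.2, rfl⟩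

end CfsgLib.Fi24Three
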