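import Cfsg.Agent.Lib.Fi24Three.Six

/-!
A group with a surjection onto the alternating group of degree six acting on a section of order sixteen.
-/

set_option autoImplicit false
set_option linter.unusedSectionVars false

namespace CfsgLib.Fi24Three

universe u

variable {G : Type u} [Group G] [Finite G]

/-- The hypotheses on the section `W / D`. -/
structure Act (P W D : Subgroup G) (φ : ↥P →* A6) : Prop where
  le : D ≤ W
  nor : ∀ w ∈ W, ∀ d ∈ D, w * d * w⁻¹ ∈ D
  comm : ∀ w ∈ W, ∀ v ∈ W, w * v * w⁻¹ * v⁻¹ ∈ D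
  norW : ∀ p ∈ P, ∀ w ∈ W, p * w * p⁻¹ ∈ W
  norD : ∀ p ∈ P, ∀ d ∈ D, p * d * p⁻¹ ∈ D
  surj : Function.Surjective φ
  triv : ∀ p : P, φ p = 1 → ∀ w ∈ W, (p : G) * w * (p : G)⁻¹ * w⁻¹ ∈ D
  card : Nat.card W = 16 * Nat.card D
  moved : ∃ p ∈ P, ∃ w ∈ W, p * w * p⁻¹ * w⁻¹ ∉ D

namespace Act

variable {P W D : Subgroup G} {φ : ↥P →* A6} (h : Act P W D φ)
include h

theorem normal : (D.subgroupOf W).Normal := ⟨fun d hd w => h.nor w w.2 d hd⟩

/-- The homomorphism to the automorphisms of the section, with all properties needed. -/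
theorem data : ∃ (A : Type u) (_ : CommGroup A) (_ : Finite A) (π : ↥W →* A) (f : A6 →* MulAut A),
    Function.Surjective π ∧ (∀ w : W, π w = 1 ↔ (w : G) ∈ D) ∧ Nat.card A = 16 ∧ f ≠ 1 ∧
    ∀ (p : P) (w : W), f (φ p) (π w) = π ⟨(p : G) * w * (p : G)⁻¹, h.norW p p.2 w w.2⟩ := by
  haveI := h.normal
  let A := ↥W ⧸ D.subgroupOf W
  letI : CommGroup A :=
    { (inferInstance : Group A) with
      mul_comm := fun a b => by
        induction a using QuotientGroup.induction_on with | _ a => ?_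
        induction b using QuotientGroup.induction_on with | _ b => ?_
        rw [← QuotientGroup.mk_mul, ← QuotientGroup.mk_mul, QuotientGroup.eq]
        have := h.comm (b : G)⁻¹ (inv_mem b.2) (a : G)⁻¹ (inv_mem a.2)
        show ((a : G) * b)⁻¹ * (b * a) ∈ D
        simpa [mul_assoc] using this }
  let π : ↥W →* A := QuotientGroup.mk' (D.subgroupOf W)
  have hπ : ∀ w : W, π w = 1 ↔ (w : G) ∈ D := fun w => by
    rw [QuotientGroup.mk'_apply, QuotientGroup.eq_one_iff]; exact Iff.rfl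
  let c : ∀ p : P, ↥W →* ↥W := fun p =>
    { toFun := fun w => ⟨(p : G) * w * (p : G)⁻¹, h.norW p p.2 w w.2⟩
      map_one' := Subtype.ext (by simp)
      map_mul' := fun a b => Subtype.ext (by simp [mul_assoc]) }
  let g : ∀ p : P, A →* A := fun p => QuotientGroup.map (D.subgroupOf W) (D.subgroupOf W) (c p)
    fun d hd => h.norD p p.2 d hd
  have hg : ∀ (p : P) (w : W), g p (π w) = π (c p w) := fun p w => rfl
  have hgmul : ∀ (p r : P) (a : A), g (p * r) a = g p (g r a) := fun p r a => by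
    obtain ⟨w, rfl⟩ := QuotientGroup.mk'_surjective (D.subgroupOf W) a
    show g (p * r) (π w) = g p (g r (π w))
    rw [hg, hg, hg]
    exact congrArg π (Subtype.ext (by simp [c, mul_assoc]))
  have hg1 : ∀ a : A, g 1 a = a := fun a => by
    obtain ⟨w, rfl⟩ := QuotientGroup.mk'_surjective (D.subgroupOf W) a
    exact congrArg π (Subtype.ext (by simp [c]))
  let F : ↥P →* MulAut A :=
    { toFun := fun p =>
        { toFun := g p
          invFun := g p⁻¹
          left_inv := fun a => by rw [← hgmul, inv_mul_cancel, hg1]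
          right_inv := fun a => by rw [← hgmul, mul_inv_cancel, hg1]
          map_mul' := map_mul (g p) }
      map_one' := MulEquiv.ext hg1
      map_mul' := fun p r => MulEquiv.ext (hgmul p r) }
  have hker : φ.ker ≤ F.ker := by
    intro p hp
    refine MulEquiv.ext fun a => ?_
    obtain ⟨w, rfl⟩ := QuotientGroup.mk'_surjective (D.subgroupOf W) a
    show π (c p w) = π w
    rw [← mul_inv_eq_one, ← map_inv, ← map_mul, hπ]
    exact h.triv p hp w w.2
  let f : A6 →* MulAut A := φ.liftOfSurjective h.surj ⟨F, hker⟩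
  have hf : ∀ p : P, f (φ p) = F p := fun p =>
    MonoidHom.liftOfRightInverse_comp_apply φ _ _ ⟨F, hker⟩ p
  refine ⟨A, inferInstance, inferInstance, π, f, QuotientGroup.mk'_surjective _, hπ, ?_, ?_, fun p w => ?_⟩
  · have h1 := Subgroup.card_eq_card_quotient_mul_card_subgroup (D.subgroupOf W)
    rw [Nat.card_congr (Subgroup.subgroupOfEquivOfLe h.le).toEquiv, h.card] at h1
    exact (Nat.eq_of_mul_eq_mul_right Nat.card_pos h1).symm
  · intro e
    obtain ⟨p, hp, w, hw, hne⟩ := h.moved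
    have h1 : F ⟨p, hp⟩ (π ⟨w, hw⟩) = π ⟨w, hw⟩ := by rw [← hf, e]; rfl
    have h2 : π (c ⟨p, hp⟩ ⟨w, hw⟩) = π ⟨w, hw⟩ := h1
    rw [← mul_inv_eq_one, ← map_inv, ← map_mul, hπ] at h2
    exact hne h2
  · rw [hf]; rfl

/-- Only the elements of `D` are fixed. -/
theorem fixed {w : G} (hw : w ∈ W) (hfix : ∀ p ∈ P, p * w * p⁻¹ * w⁻¹ ∈ D) : w ∈ D := by
  obtain ⟨A, hA1, hA2, π, f, hπs, hπ, hA, hf, hfπ⟩ := h.data
  obtain ⟨σ, hσ⟩ := exists_five
  obtain ⟨p, hp⟩ := h.surj σ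
  refine (hπ ⟨w, hw⟩).mp (fix_trivial hA hf hσ ?_)
  rw [← hp, hfπ, ← mul_inv_eq_one, ← map_inv, ← map_mul, hπ]
  exact hfix p p.2

/-- No invariant subgroup strictly between. -/
theorem irred {Y : Subgroup G} (hDY : D ≤ Y) (hYW : Y ≤ W) (hY : ∀ p ∈ P, ∀ y ∈ Y, p * y * p⁻¹ ∈ Y) :
    Y ≤ D ∨ W ≤ Y := by
  obtain ⟨A, hA1, hA2, π, f, hπs, hπ, hA, hf, hfπ⟩ := h.data
  obtain ⟨σ, hσ⟩ := exists_five
  rcases irreducible hA hf hσ (U := (Y.subgroupOf W).map π) (fun g a ha => by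
      obtain ⟨w, hw, rfl⟩ := ha
      obtain ⟨p, rfl⟩ := h.surj g
      exact ⟨⟨_, h.norW p p.2 w w.2⟩, hY p p.2 w hw, (hfπ p w).symm⟩) with e | e
  · refine Or.inl fun y hy => (hπ ⟨y, hYW hy⟩).mp ?_
    rw [← Subgroup.mem_bot, ← e]
    exact ⟨⟨y, hYW hy⟩, hy, rfl⟩
  · refine Or.inr fun w hw => ?_
    obtain ⟨y, hy, hye⟩ : π ⟨w, hw⟩ ∈ (Y.subgroupOf W).map π := e ▸ Subgroup.mem_top _
    have h1 : π (⟨w, hw⟩ * y⁻¹) = 1 := by rw [map_mul, map_inv, hye, mul_inv_cancel]
    have h2 := mul_mem (hDY ((hπ _).mp h1)) hy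
    simpa using h2

/-- An invariant quadratic map has trivial polar form, for trivial `D`. -/
theorem quad (hD : D = ⊥) {Z : Type*} [CommGroup Z] (hZ : ∀ c : Z, c * c = 1) (q : G → Z) (β : G → G → Z)
    (hq : ∀ p ∈ P, ∀ a ∈ W, q (p * a * p⁻¹) = q a)
    (hadd : ∀ a ∈ W, ∀ b ∈ W, q (a * b) = q a * q b * β a b)
    (hbil : ∀ a ∈ W, ∀ b ∈ W, ∀ b' ∈ W, β a (b * b') = β a b * β a b') (hself : ∀ a ∈ W, β a a = 1)
    {a b : G} (ha : a ∈ W) (hb : b ∈ W) : β a b = 1 := by
  obtain ⟨A, hA1, hA2, π, f, hπs, hπ, hA, hf, hfπ⟩ := h.data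
  obtain ⟨σ, hσ⟩ := exists_five
  have hinj : Function.Injective π := by
    rw [injective_iff_map_eq_one]
    intro w hw
    have := (hπ w).mp hw
    rw [hD, Subgroup.mem_bot] at this
    exact Subtype.ext this
  let e : ↥W ≃* A := MulEquiv.ofBijective π ⟨hinj, hπs⟩
  have he : ∀ w, e.symm (π w) = w := fun w => e.symm_apply_apply w
  have := polar_trivial hA hf hσ hZ (fun a => q (e.symm a)) (fun a b => β (e.symm a) (e.symm b))
    (fun g a => by
      obtain ⟨w, rfl⟩ := hπs a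
      obtain ⟨p, rfl⟩ := h.surj g
      show q (e.symm (f (φ p) (π w))) = q (e.symm (π w))
      rw [hfπ, he, he]
      exact hq p p.2 w w.2)
    (fun a b => by
      show q (e.symm (a * b) : G) = _
      rw [map_mul]; exact hadd _ (e.symm a).2 _ (e.symm b).2)
    (fun a b b' => by
      show β (e.symm a) (e.symm (b * b') : G) = _
      rw [map_mul]; exact hbil _ (e.symm a).2 _ (e.symm b).2 _ (e.symm b').2)
    (fun a => hself _ (e.symm a).2) (π ⟨a, ha⟩) (π ⟨b, hb⟩)
  rwa [he, he] at this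

end Act

end CfsgLib.Fi24Three
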