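import Mathlib

/-!
The automorphism group of an elementary abelian group of order eight is `SL₃(2)`.
-/

set_option autoImplicit false

namespace CfsgLib.Fi24Three

open Matrix

abbrev V3 : Type := Fin 3 → ZMod 2

/-- The matrix of an automorphism. -/
noncomputable def autMat (α : MulAut (Multiplicative V3)) : Matrix (Fin 3) (Fin 3) (ZMod 2) :=
  LinearMap.toMatrix'
    (AddMonoidHom.toZModLinearMap 2
      ({ toFun := fun v => Multiplicative.toAdd (α (Multiplicative.ofAdd v))
         map_zero' := by simp
         map_add' := fun v w => by simp } : V3 →+ V3))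

theorem autMat_mulVec (α : MulAut (Multiplicative V3)) (v : V3) :
    autMat α *ᵥ v = Multiplicative.toAdd (α (Multiplicative.ofAdd v)) := by
  rw [autMat, LinearMap.toMatrix'_mulVec]
  rfl

theorem autMat_mul (α β : MulAut (Multiplicative V3)) : autMat (α * β) = autMat α * autMat β :=
  Matrix.ext_iff_mulVec.mpr fun v => by
    rw [autMat_mulVec, ← Matrix.mulVec_mulVec, autMat_mulVec, autMat_mulVec]
    rfl

theorem autMat_one : autMat 1 = 1 :=
  Matrix.ext_iff_mulVec.mpr fun v => by rw [autMat_mulVec, Matrix.one_mulVec]; rfl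

theorem autMat_det (α : MulAut (Multiplicative V3)) : (autMat α).det = 1 := by
  have h : (autMat α).det * (autMat α⁻¹).det = 1 := by
    rw [← Matrix.det_mul, ← autMat_mul, mul_inv_cancel, autMat_one, Matrix.det_one]
  revert h
  generalize (autMat α).det = a
  generalize (autMat α⁻¹).det = b
  revert a b
  decide

/-- The action of a matrix. -/
def matAut (A : Matrix.SpecialLinearGroup (Fin 3) (ZMod 2)) : MulAut (Multiplicative V3) where
  toFun v := Multiplicative.ofAdd ((A : Matrix (Fin 3) (Fin 3) (ZMod 2)) *ᵥ Multiplicative.toAdd v)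
  invFun v := Multiplicative.ofAdd (((A⁻¹ : Matrix.SpecialLinearGroup (Fin 3) (ZMod 2)) : Matrix (Fin 3) (Fin 3) (ZMod 2))
    *ᵥ Multiplicative.toAdd v)
  left_inv v := by
    simp only [toAdd_ofAdd, Matrix.mulVec_mulVec, ← Matrix.SpecialLinearGroup.coe_mul, inv_mul_cancel,
      Matrix.SpecialLinearGroup.coe_one, Matrix.one_mulVec, ofAdd_toAdd]
  right_inv v := by
    simp only [toAdd_ofAdd, Matrix.mulVec_mulVec, ← Matrix.SpecialLinearGroup.coe_mul, mul_inv_cancel,
      Matrix.SpecialLinearGroup.coe_one, Matrix.one_mulVec, ofAdd_toAdd]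
  map_mul' v w := by simp only [toAdd_mul, Matrix.mulVec_add, ofAdd_add]

/-- The automorphisms of the vector space as the special linear group. -/
noncomputable def autSL : MulAut (Multiplicative V3) ≃* Matrix.SpecialLinearGroup (Fin 3) (ZMod 2) where
  toFun α := ⟨autMat α, autMat_det α⟩
  invFun := matAut
  left_inv α := MulEquiv.ext fun v => by
    show Multiplicative.ofAdd (autMat α *ᵥ Multiplicative.toAdd v) = α v
    rw [autMat_mulVec]; rfl
  right_inv A := Subtype.ext (Matrix.ext_iff_mulVec.mpr fun v => by
    show autMat (matAut A) *ᵥ v = _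
    rw [autMat_mulVec]; rfl)
  map_mul' α β := Subtype.ext (autMat_mul α β)

/-- The automorphisms of an elementary abelian group of order eight. -/
theorem exists_autSL {V : Type*} [Group V] [Finite V] (h2 : ∀ a : V, a * a = 1) (h8 : Nat.card V = 8) :
    Nonempty (MulAut V ≃* Matrix.SpecialLinearGroup (Fin 3) (ZMod 2)) := by
  let _ : CommGroup V :=
    { (inferInstance : Group V) with
      mul_comm := fun a b => by
        have h : ∀ c : V, c⁻¹ = c := fun c => inv_eq_of_mul_eq_one_right (h2 c)
        calc a * b = (a * b)⁻¹ := (h _).symm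
          _ = b * a := by rw [_root_.mul_inv_rev, h, h] }
  let _ : Module (ZMod 2) (Additive V) :=
    AddCommGroup.zmodModule (n := 2) fun a => by
      rw [two_nsmul]; exact h2 a.toMul
  have hfin : Module.finrank (ZMod 2) (Additive V) = 3 := by
    have h := Module.natCard_eq_pow_finrank (K := ZMod 2) (V := Additive V)
    rw [show Nat.card (Additive V) = 8 from h8, Nat.card_zmod, show (8 : ℕ) = 2 ^ 3 by norm_num] at h
    exact (Nat.pow_right_injective (le_refl 2) h).symm
  let e : Additive V ≃ₗ[ZMod 2] V3 := (Module.finBasisOfFinrankEq (ZMod 2) (Additive V) hfin).equivFun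
  let f : V ≃* Multiplicative V3 := AddEquiv.toMultiplicativeRight e.toAddEquiv
  exact ⟨(MulAut.congr f).trans autSL⟩

end CfsgLib.Fi24Three
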