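import Cfsg.Agent.Lib.Fi24Three.Setting
import Cfsg.Agent.Lib.LargeExtra.Odd

/-!
The setting is carried along by conjugation.
-/

set_option autoImplicit false
set_option linter.unusedSectionVars false

namespace CfsgLib.Fi24Three

open CfsgLargeExtra

universe u

variable {G : Type u} [Group G] [Finite G]

theorem conj_mem_core {g v a : G} : g * a * g⁻¹ ∈ coreCent (g * v * g⁻¹) ↔ a ∈ coreCent v := by
  rw [coreCent_conj, mem_cj]; simp [mul_assoc]

theorem conj_mem_cj_iff {g a : G} {H : Subgroup G} : g * a * g⁻¹ ∈ cj g H ↔ a ∈ H := by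
  rw [mem_cj]; simp [mul_assoc]

theorem conj_comm_iff {g a b : G} :
    g * a * g⁻¹ * (g * b * g⁻¹) = g * b * g⁻¹ * (g * a * g⁻¹) ↔ a * b = b * a := by
  rw [show g * a * g⁻¹ * (g * b * g⁻¹) = g * (a * b) * g⁻¹ by group,
    show g * b * g⁻¹ * (g * a * g⁻¹) = g * (b * a) * g⁻¹ by group, mul_left_inj, mul_right_inj]

theorem eq_conj (g a : G) : g * (g⁻¹ * a * g) * g⁻¹ = a := by group

theorem Setup.conj {z : G} {M : Subgroup G} {ρ : G} (S : Setup z M ρ) (g : G) :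
    Setup (g * z * g⁻¹) (cj g M) (g * ρ * g⁻¹) := by
  have cjmem : ∀ x, Cj (g * z * g⁻¹) (g * x * g⁻¹) → Cj z x := by
    rintro x ⟨k, hk⟩
    refine ⟨g⁻¹ * k * g, ?_⟩
    rw [show g⁻¹ * k * g * z * (g⁻¹ * k * g)⁻¹ = g⁻¹ * (k * (g * z * g⁻¹) * k⁻¹) * g by group, hk]
    group
  refine ⟨?_, ?_, ?_, ?_, ?_, fun m hm => ?_, fun a b ha hb hna hnb => ?_, ?_, ?_, conj_mem_cj S.rho_mem,
    fun q hq he => ?_, fun m hm => ?_, fun c hc hcM => ?_, ?_, fun x hx hxQ hne => ?_, fun x hx hxQ hne => ?_⟩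
  · exact (orderOf_injective (MulAut.conj g).toMonoidHom (MulAut.conj g).injective z).trans S.hz
  · rw [coreCent_conj]; exact S.es.cj g
  · have h := S.es.cj g
    rw [← coreCent_conj] at h
    obtain ⟨a, ha, b, hb, -, -, hne⟩ := S.es.exists_pair (by rw [S.card_Q]; norm_num) (one_mem _) (one_mul 1)
    refine isExtraspecial_of_ext2 h.toExt (a := ⟨g * a * g⁻¹, conj_mem_core.mpr ha⟩)
      (b := ⟨g * b * g⁻¹, conj_mem_core.mpr hb⟩) fun e => hne ?_
    exact conj_comm_iff.mp (congrArg Subtype.val e)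
  · rw [coreCent_conj]; exact (Subgroup.card_map_of_injective (MulAut.conj g).injective).trans S.card_Q
  · rw [coreCent_conj]; exact Subgroup.map_mono S.Q_le
  · rw [← eq_conj g m, conj_comm_iff]
    exact S.M_le _ (mem_cj.mp hm)
  · rw [← eq_conj g a, conj_comm_iff] at ha
    rw [← eq_conj g b, conj_comm_iff] at hb
    rw [mem_cj] at hna hnb ⊢
    rw [show g⁻¹ * (a * b) * g = (g⁻¹ * a * g) * (g⁻¹ * b * g) by group]
    exact S.M_index _ _ ha hb hna hnb
  · rw [show Nat.card (cj g M) = Nat.card M from Subgroup.card_map_of_injective (MulAut.conj g).injective]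
    exact S.M_card
  · exact (orderOf_injective (MulAut.conj g).toMonoidHom (MulAut.conj g).injective ρ).trans S.rho_ord
  · rw [coreCent_conj, mem_cj] at hq
    rw [← eq_conj g q] at he ⊢
    generalize g⁻¹ * q * g = p at hq he ⊢
    rcases S.fpf p hq (by
        rw [show g * ρ * g⁻¹ * (g * p * g⁻¹) * (g * ρ * g⁻¹)⁻¹ = g * (ρ * p * ρ⁻¹) * g⁻¹ by group,
          show g * p * g⁻¹ * (g * z * g⁻¹) = g * (p * z) * g⁻¹ by group] at he
        exact he.imp (fun e => mul_left_cancel (mul_right_cancel e)) fun e => mul_left_cancel (mul_right_cancel e)) with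
      e | e <;> rw [e]
    · exact Or.inl (by group)
    · exact Or.inr rfl
  · have := conj_mem_core (g := g).mpr (S.central _ (mem_cj.mp hm))
    rwa [show g * (g⁻¹ * m * g * ρ * (g⁻¹ * m * g)⁻¹ * ρ⁻¹) * g⁻¹ =
      m * (g * ρ * g⁻¹) * m⁻¹ * (g * ρ * g⁻¹)⁻¹ by group] at this
  · rw [← eq_conj g c, conj_comm_iff] at hc
    have := conj_mem_core (g := g).mpr (S.invert _ hc fun h => hcM (mem_cj.mpr h))
    rwa [show g * (g⁻¹ * c * g * ρ * (g⁻¹ * c * g)⁻¹ * ρ) * g⁻¹ =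
      c * (g * ρ * g⁻¹) * c⁻¹ * (g * ρ * g⁻¹) by group] at this
  · obtain ⟨x, ⟨k, hk⟩, hx, hne⟩ := S.nwc
    exact ⟨g * x * g⁻¹, ⟨g * k * g⁻¹, by rw [← hk]; group⟩, conj_mem_core.mpr hx,
      fun e => hne (mul_left_cancel (mul_right_cancel e))⟩
  · rw [← eq_conj g x] at hx hxQ hne ⊢
    generalize g⁻¹ * x * g = y at hx hxQ hne ⊢
    refine S.inter' ⟨g, rfl⟩ ⟨g * (cjmem y hx).choose, ?_⟩ hxQ hne
    rw [show g * (cjmem y hx).choose * z * (g * (cjmem y hx).choose)⁻¹ =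
      g * ((cjmem y hx).choose * z * (cjmem y hx).choose⁻¹) * g⁻¹ by group, (cjmem y hx).choose_spec]
  · rw [← eq_conj g x] at hx hxQ hne ⊢
    generalize g⁻¹ * x * g = y at hx hxQ hne ⊢
    obtain ⟨φ, hs, hk⟩ := S.quot y (cjmem y hx) (conj_mem_core.mp hxQ) fun e => hne (by rw [e])
    have hmem : ∀ c : G,
        c ∈ Subgroup.centralizer ({g * z * g⁻¹} : Set G) ⊓ Subgroup.centralizer ({g * y * g⁻¹} : Set G) →
        g⁻¹ * c * g ∈ Subgroup.centralizer ({z} : Set G) ⊓ Subgroup.centralizer ({y} : Set G) := fun c hc => by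
      obtain ⟨h1, h2⟩ := hc
      refine ⟨mem_cent.mpr ?_, mem_cent.mpr ?_⟩
      · refine conj_comm_iff (g := g).mp ?_; rw [eq_conj]; exact mem_cent.mp h1
      · refine conj_comm_iff (g := g).mp ?_; rw [eq_conj]; exact mem_cent.mp h2
    have hmem' : ∀ c : G, c ∈ Subgroup.centralizer ({z} : Set G) ⊓ Subgroup.centralizer ({y} : Set G) →
        g * c * g⁻¹ ∈
          Subgroup.centralizer ({g * z * g⁻¹} : Set G) ⊓ Subgroup.centralizer ({g * y * g⁻¹} : Set G) :=
      fun c hc => ⟨mem_cent.mpr (conj_comm_iff.mpr (mem_cent.mp hc.1)),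
        mem_cent.mpr (conj_comm_iff.mpr (mem_cent.mp hc.2))⟩
    let e : ↥(Subgroup.centralizer ({g * z * g⁻¹} : Set G) ⊓ Subgroup.centralizer ({g * y * g⁻¹} : Set G)) →*
        ↥(Subgroup.centralizer ({z} : Set G) ⊓ Subgroup.centralizer ({y} : Set G)) :=
      { toFun := fun c => ⟨_, hmem c c.2⟩
        map_one' := Subtype.ext (by simp)
        map_mul' := fun a b => Subtype.ext (by simp [mul_assoc]) }
    refine ⟨φ.comp e, hs.comp fun c => ⟨⟨_, hmem' c c.2⟩, Subtype.ext (by simp [e, mul_assoc])⟩, fun c => ?_⟩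
    rw [MonoidHom.comp_apply, hk]
    constructor
    · rintro ⟨q, hq, u, hu, huz, h⟩
      refine ⟨g * q * g⁻¹, conj_mem_core.mpr hq, g * u * g⁻¹, conj_mem_core.mpr hu, conj_comm_iff.mpr huz, ?_⟩
      have h' : g⁻¹ * (c : G) * g = q * u := h
      rw [← eq_conj g (c : G), h']; group
    · rintro ⟨q, hq, u, hu, huz, h⟩
      rw [← eq_conj g q] at hq
      rw [← eq_conj g u] at hu huz
      refine ⟨_, conj_mem_core.mp hq, _, conj_mem_core.mp hu, conj_comm_iff.mp huz, ?_⟩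
      show g⁻¹ * (c : G) * g = _
      rw [h]; group

end CfsgLib.Fi24Three
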