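import Cfsg.Agent.Lib.Fi24Three.Core
import Cfsg.Agent.Lib.SUSixSub.Main

/-!
The core modulo its centre of a group of large Fischer type is the natural six-dimensional unitary module of the
subgroup 3.U₄(3) of SU₆(2).
-/

set_option autoImplicit false
set_option linter.unusedSectionVars false

namespace CfsgLib.Fi24Three.ModuleModel

open CfsgLib.G24 CfsgLib.SUSixSub Matrix
open scoped commutatorElement

universe u

/-- The action of the field through an endomorphism with `1 + R + R² = 0`. -/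
def actK {V : Type u} [AddCommGroup V] (R : V →+ V) : K → V → V
  | .o, _ => 0
  | .i, x => x
  | .w, x => R x
  | .v, x => R (R x)

/-- The module over the field with four elements. -/
@[reducible] def moduleK {V : Type u} [AddCommGroup V] (R : V →+ V) (h2 : ∀ x : V, x + x = 0)
    (h3 : ∀ x : V, x + R x + R (R x) = 0) : Module K V :=
  have neg : ∀ x : V, -x = x := fun x => neg_eq_of_add_eq_zero_left (h2 x)
  have hadd : ∀ x : V, R (R x) = x + R x := fun x => by
    rw [← neg (R (R x))]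
    exact (eq_neg_of_add_eq_zero_left (h3 x)).symm
  have hR3 : ∀ x : V, R (R (R x)) = x := fun x => by
    rw [hadd x, map_add, hadd x, ← add_assoc, add_comm (R x) x, add_assoc, h2, add_zero]
  { smul := actK R
    one_smul := fun _ => rfl
    mul_smul := fun a b x => by
      show actK R (K.mulK a b) x = actK R a (actK R b x)
      cases a <;> cases b <;> simp [actK, K.mulK, hR3]
    smul_zero := fun a => by
      show actK R a 0 = 0
      cases a <;> simp [actK]
    smul_add := fun a x y => by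
      show actK R a (x + y) = actK R a x + actK R a y
      cases a <;> simp [actK]
    add_smul := fun a b x => by
      show actK R (K.addK a b) x = actK R a x + actK R b x
      have e1 : x + (x + R x) = R x := by rw [← add_assoc, h2, zero_add]
      have e2 : R x + (x + R x) = x := by rw [add_comm, add_assoc, h2, add_zero]
      cases a <;> cases b <;>
        simp [actK, K.addK, h2, hadd, e1, e2, add_comm (R x) x, add_comm (x + R x) x, add_comm (x + R x) (R x)]
    zero_smul := fun _ => rfl }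

section Abstract

variable {V : Type u} [AddCommGroup V] [Finite V] [Module K V]

theorem exists_basis (hcard : Nat.card V = 4096) (h : V → V → K)
    (hadd : ∀ a b c, h (a + b) c = h a c + h b c) (hsmul : ∀ (t : K) a c, h (t • a) c = t * h a c)
    (hswap : ∀ a b, h b a = h a b ^ 2) (hnd : ∀ a, (∀ b, h a b = 0) → a = 0) :
    ∃ φ : V ≃ₗ[K] (Fin 6 → K), ∀ a b, Cfsg.hermForm 6 K 2 (φ a) (φ b) = h a b := by
  classical
  haveI : Fintype V := Fintype.ofFinite V
  haveI : CharP K 2 := charP_of_card_eq_prime_pow (f := 2) (by rw [K.card_eq]; norm_num)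
  haveI : ExpChar K 2 := ExpChar.prime Nat.prime_two
  have hsq : ∀ t : K, (t ^ 2) ^ 2 = t := by decide
  have hadd2 : ∀ a b c, h a (b + c) = h a b + h a c := fun a b c => by
    rw [hswap (b + c) a, hadd, add_pow_expChar_of_commute 2 (Commute.all _ _), ← hswap b a, ← hswap c a]
  have hsmul2 : ∀ (t : K) a c, h a (t • c) = t ^ 2 * h a c := fun t a c => by
    rw [hswap (t • c) a, hsmul, mul_pow, ← hswap c a]
  have hzero : ∀ c, h 0 c = 0 := fun c => by
    have := hsmul 0 0 c
    rwa [zero_smul, zero_mul] at this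
  have hsum : ∀ (n : ℕ) (c : Fin n → K) (e : Fin n → V) (b : V),
      h (∑ i, c i • e i) b = ∑ i, c i * h (e i) b := by
    intro n c e b
    let L : V →+ K := AddMonoidHom.mk' (fun a => h a b) fun a a' => hadd a a' b
    show L (∑ i, c i • e i) = _
    rw [map_sum]
    exact Finset.sum_congr rfl fun i _ => hsmul _ _ _
  have step : ∀ k, k ≤ 6 → ∃ e : Fin k → V, ∀ i j, h (e i) (e j) = if i = j then 1 else 0 := by
    intro k
    induction k with
    | zero => intro _; exact ⟨Fin.elim0, fun i => i.elim0⟩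
    | succ k ih =>
      intro hk
      obtain ⟨e, he⟩ := ih (by omega)
      by_cases hex : ∃ u, (∀ i, h u (e i) = 0) ∧ h u u ≠ 0
      · obtain ⟨u, hu, huu⟩ := hex
        have hone : h u u = 1 := by
          have key : ∀ t : K, t = t ^ 2 → t ≠ 0 → t = 1 := by decide
          exact key _ (hswap u u) huu
        refine ⟨Fin.snoc e u, fun i j => ?_⟩
        refine Fin.lastCases ?_ (fun i' => ?_) i
        · refine Fin.lastCases ?_ (fun j' => ?_) j
          · simp [hone]
          · simp [hu j', (Fin.castSucc_lt_last j').ne']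
        · refine Fin.lastCases ?_ (fun j' => ?_) j
          · simp [hswap u (e i'), hu i', (Fin.castSucc_lt_last i').ne]
          · simp [he i' j']
      · exfalso
        push Not at hex
        have hS : ∀ u v, (∀ i, h u (e i) = 0) → (∀ i, h v (e i) = 0) → h u v = 0 := by
          intro u v hu hv
          have e1 : ∀ a b, (∀ i, h a (e i) = 0) → (∀ i, h b (e i) = 0) → h a b + h b a = 0 := by
            intro a b ha hb
            have := hex (a + b) fun i => by rw [hadd, ha, hb, add_zero]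
            rw [hadd, hadd2, hadd2, hex a ha, hex b hb, zero_add, add_zero] at this
            exact this
          have f1 := e1 u v hu hv
          have f2 := e1 (K.w • u) v (fun i => by rw [hsmul, hu, mul_zero]) hv
          rw [hswap u v] at f1
          rw [hsmul, hsmul2, hswap u v] at f2
          have key : ∀ t : K, t + t ^ 2 = 0 → K.w * t + K.w ^ 2 * t ^ 2 = 0 → t = 0 := by decide
          exact key _ f1 f2
        have hspan : ∀ u, u = ∑ i, h u (e i) • e i := by
          intro u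
          have horth : ∀ x : V, ∀ j, h (x + ∑ i, h x (e i) • e i) (e j) = 0 := by
            intro x j
            rw [hadd, hsum, Finset.sum_eq_single j (fun i _ hij => by rw [he, if_neg hij, mul_zero]) (by simp),
              he, if_pos rfl, mul_one]
            exact (show ∀ t : K, t + t = 0 by decide) _
          have hz : u + ∑ i, h u (e i) • e i = 0 := by
            refine hnd _ fun x => ?_
            set p := u + ∑ i, h u (e i) • e i with hp
            have h1 := hS _ _ (horth u) (horth x)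
            rw [← hp, hadd2] at h1
            have h2 : h p (∑ i, h x (e i) • e i) = 0 := by
              rw [hswap _ p, hsum, Finset.sum_eq_zero fun i _ => ?_, zero_pow two_ne_zero]
              rw [hswap p (e i), horth u i, zero_pow two_ne_zero, mul_zero]
            rwa [h2, add_zero] at h1
          refine (eq_neg_of_add_eq_zero_left hz).trans (neg_eq_of_add_eq_zero_left ?_)
          rw [← two_smul K, show (2 : K) = 0 from rfl, zero_smul]
        have hsurj : Function.Surjective fun c : Fin k → K => ∑ i, c i • e i := fun u => ⟨_, (hspan u).symm⟩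
        have h1 := Nat.card_le_card_of_surjective _ hsurj
        rw [hcard, Nat.card_fun, Nat.card_eq_fintype_card (α := K), K.card_eq, Nat.card_fin] at h1
        have h2 : 4 ^ k ≤ 4 ^ 5 := Nat.pow_le_pow_right (by norm_num) (by omega)
        omega
  obtain ⟨e, he⟩ := step 6 le_rfl
  let ψ : (Fin 6 → K) →ₗ[K] V :=
    { toFun := fun c => ∑ i, c i • e i
      map_add' := fun c d => by simp [add_smul, Finset.sum_add_distrib]
      map_smul' := fun t c => by simp [Finset.smul_sum, smul_smul] }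
  have hcoord : ∀ c j, h (ψ c) (e j) = c j := by
    intro c j
    show h (∑ i, c i • e i) (e j) = c j
    rw [hsum, Finset.sum_eq_single j (fun i _ hij => by rw [he, if_neg hij, mul_zero]) (by simp), he, if_pos rfl,
      mul_one]
  have hinj : Function.Injective ψ := fun c d hcd => funext fun j => by rw [← hcoord c j, hcd, hcoord]
  have hbij : Function.Bijective ψ := (Nat.bijective_iff_injective_and_card ψ).mpr ⟨hinj, by
    rw [Nat.card_fun, Nat.card_eq_fintype_card (α := K), K.card_eq, Nat.card_fin, hcard]; norm_num⟩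
  refine ⟨(LinearEquiv.ofBijective ψ hbij).symm, fun a b => ?_⟩
  obtain ⟨c, rfl⟩ := hbij.2 a
  obtain ⟨d, rfl⟩ := hbij.2 b
  rw [show (LinearEquiv.ofBijective ψ hbij).symm (ψ c) = c from (LinearEquiv.ofBijective ψ hbij).symm_apply_apply c,
    show (LinearEquiv.ofBijective ψ hbij).symm (ψ d) = d from (LinearEquiv.ofBijective ψ hbij).symm_apply_apply d]
  show ∑ i, c i * d i ^ 2 = h (∑ i, c i • e i) (ψ d)
  rw [hsum]
  exact Finset.sum_congr rfl fun i _ => by rw [hswap (ψ d) (e i), hcoord]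

end Abstract

/-- The basic facts on the core of a centralizer. -/
structure CoreData {C : Type u} [Group C] (Z Q N M : Subgroup C) (r : C) : Prop where
  cardZ : Nat.card Z = 2
  central : ∀ a ∈ Z, ∀ c : C, c * a = a * c
  cardQ : Nat.card Q = 2 ^ 13
  ZQ : Z ≤ Q
  comm : ∀ a ∈ Q, ∀ b ∈ Q, a * b * a⁻¹ * b⁻¹ ∈ Z
  sq : ∀ a ∈ Q, a * a ∈ Z
  nondeg : ∀ a ∈ Q, (∀ b ∈ Q, a * b = b * a) → a ∈ Z
  inner : ∀ c : C, (∀ q ∈ Q, c * q * c⁻¹ * q⁻¹ ∈ Z) → c ∈ Q
  QN : Q ≤ N
  NM : N ≤ M
  cardN : Nat.card N = 3 * Nat.card Q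
  rN : r ∈ N
  rQ : r ∉ Q
  r3 : r ^ 3 = 1
  fpf : ∀ q ∈ Q, r * q * r⁻¹ * q⁻¹ ∈ Z → q ∈ Z
  perfect : ∀ m ∈ M, ∃ k ∈ ⁅M, M⁆, k⁻¹ * m ∈ Q

namespace CoreData

variable {C : Type u} [Group C] [Finite C] {Z Q N M : Subgroup C} [Z.Normal] [Q.Normal] [N.Normal] [M.Normal] {r : C}
  (S : CoreData Z Q N M r)

include S

theorem gen {n : C} (hn : n ∈ N) : ∃ j : ℤ, (QuotientGroup.mk n : C ⧸ Q) = QuotientGroup.mk r ^ j := by
  haveI : Fact (Nat.Prime 3) := ⟨Nat.prime_three⟩
  have h : Nat.card ↥(N.map (QuotientGroup.mk' Q)) = 3 := by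
    have h1 := Subgroup.card_mul_index (Q.subgroupOf N)
    rw [Nat.card_congr (Subgroup.subgroupOfEquivOfLe S.QN).toEquiv, S.cardN, mul_comm 3] at h1
    rw [← MonoidHom.restrict_range, ← Subgroup.index_ker, MonoidHom.ker_restrict, QuotientGroup.ker_mk']
    exact Nat.eq_of_mul_eq_mul_left Nat.card_pos h1
  have hne : (⟨QuotientGroup.mk' Q r, r, S.rN, rfl⟩ : ↥(N.map (QuotientGroup.mk' Q))) ≠ 1 := fun e =>
    S.rQ ((QuotientGroup.eq_one_iff r).mp (congrArg Subtype.val e))
  obtain ⟨j, hj⟩ := mem_zpowers_of_prime_card h (g' := ⟨QuotientGroup.mk' Q n, n, hn, rfl⟩) hne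
  exact ⟨j, (congrArg Subtype.val hj).symm⟩

/-- The top is central modulo the core. -/
theorem central_top {m : C} (hm : m ∈ M) : m * r * m⁻¹ * r⁻¹ ∈ Q := by
  haveI : (N.map (QuotientGroup.mk' Q)).Normal :=
    Subgroup.Normal.map inferInstance _ (QuotientGroup.mk'_surjective Q)
  let f : C →* MulAut ↥(N.map (QuotientGroup.mk' Q)) := MulAut.conjNormal.comp (QuotientGroup.mk' Q)
  have hcom : ∀ a b : C, f a * f b = f b * f a := by
    intro a b
    refine MulEquiv.ext fun ⟨x, n, hn, hx⟩ => ?_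
    obtain ⟨j, hj⟩ := S.gen hn
    obtain ⟨i, hi⟩ := S.gen (Subgroup.Normal.conj_mem inferInstance r S.rN b)
    obtain ⟨k, hk⟩ := S.gen (Subgroup.Normal.conj_mem inferInstance r S.rN a)
    refine Subtype.ext ?_
    subst hx
    simp only [f, MonoidHom.comp_apply, MulAut.mul_apply, MulAut.conjNormal_apply, QuotientGroup.mk'_apply,
      QuotientGroup.mk_mul, QuotientGroup.mk_inv] at hi hk ⊢
    rw [hj]
    generalize (QuotientGroup.mk r : C ⧸ Q) = R at hi hk ⊢
    generalize (QuotientGroup.mk a : C ⧸ Q) = A at hk ⊢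
    generalize (QuotientGroup.mk b : C ⧸ Q) = B at hi ⊢
    rw [← conj_zpow, ← conj_zpow, ← conj_zpow, ← conj_zpow, hi, hk, ← conj_zpow, ← conj_zpow, hi, hk]
    simp only [← _root_.zpow_mul]
    congr 1
    ring
  obtain ⟨k, hk, hkq⟩ := S.perfect m hm
  have hker : k ∈ f.ker := by
    refine (Subgroup.commutator_le.mpr ?_ : ⁅M, M⁆ ≤ f.ker) hk
    intro a _ b _
    rw [MonoidHom.mem_ker, map_commutatorElement, commutatorElement_eq_one_iff_mul_comm]
    exact hcom a b
  have h1 := congrArg Subtype.val (DFunLike.congr_fun (MonoidHom.mem_ker.mp hker) ⟨_, r, S.rN, rfl⟩)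
  simp only [f, MonoidHom.comp_apply, MulAut.conjNormal_apply, MulAut.one_apply, QuotientGroup.mk'_apply] at h1
  rw [← QuotientGroup.eq_one_iff]
  have hkm : (QuotientGroup.mk k : C ⧸ Q) = QuotientGroup.mk m := QuotientGroup.eq.mpr hkq
  rw [QuotientGroup.mk_mul, QuotientGroup.mk_mul, QuotientGroup.mk_mul, QuotientGroup.mk_inv, QuotientGroup.mk_inv,
    ← hkm, h1, mul_inv_cancel]

end CoreData

set_option maxRecDepth 4000 in
set_option maxHeartbeats 1000000 in
/-- The model. -/
theorem exists_model {C : Type u} [Group C] [Finite C] {Z Q N M : Subgroup C} [Z.Normal] [Q.Normal] [N.Normal]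
    [M.Normal] {r : C} (S : CoreData Z Q N M r) {F : Type} [Field F] [Fintype F] (hF : Fintype.card F = 9)
    (e : M ⧸ N.subgroupOf M ≃* Cfsg.PSU 4 F 3) :
    ∃ (η : C → Fin 6 → K) (f : ↥M →* Γ),
      (∀ a ∈ Q, ∀ b ∈ Q, η a = η b ↔ a⁻¹ * b ∈ Z) ∧
      (∀ q ∈ Q, q * q = 1 → Cfsg.hermForm 6 K 2 (η q) (η q) = 0) ∧
      (∀ q ∈ Q, q ∈ Z ↔ η q = 0) ∧
      f.range = K0 ∧ f.ker = Q.subgroupOf M ∧
      (∀ (m : ↥M) (q : C), q ∈ Q → η ((m : C) * q * (m : C)⁻¹) = gm (f m) *ᵥ η q) := by
  classical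
  have hW2 : ∀ v : ↥(Q.map (QuotientGroup.mk' Z)), v * v = 1 := sec_sq S.sq
  letI := commOfSq hW2
  let mkV : ↥Q → Additive ↥(Q.map (QuotientGroup.mk' Z)) := fun q => Additive.ofMul ⟨_, (q : C), q.2, rfl⟩
  have hmk_surj : Function.Surjective mkV := fun x => by
    obtain ⟨q, hq, e⟩ := (Additive.toMul x).2
    exact ⟨⟨q, hq⟩, congrArg Additive.ofMul (Subtype.ext e)⟩
  have hmk_mul : ∀ a b : ↥Q, mkV (a * b) = mkV a + mkV b := fun a b => congrArg Additive.ofMul (Subtype.ext (map_mul _ _ _))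
  have hmk_eq : ∀ a b : ↥Q, mkV a = mkV b ↔ (a : C)⁻¹ * b ∈ Z := fun a b => by
    refine Iff.trans ⟨fun h => congrArg Subtype.val (Additive.ofMul.injective h), fun h => ?_⟩ QuotientGroup.eq
    exact congrArg Additive.ofMul (Subtype.ext h)
  have hmk_zero : ∀ a : ↥Q, mkV a = 0 ↔ (a : C) ∈ Z := fun a => by
    have h1 : mkV (1 : ↥Q) = 0 := congrArg Additive.ofMul (Subtype.ext (map_one _))
    rw [← h1, hmk_eq]
    simp
  let act : C → (Additive ↥(Q.map (QuotientGroup.mk' Z)) →+ Additive ↥(Q.map (QuotientGroup.mk' Z))) := fun c =>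
    MonoidHom.toAdditive (secAct Z Q c).toMonoidHom
  have hact : ∀ (c : C) (q : ↥Q), act c (mkV q) = mkV ⟨c * q * c⁻¹, Subgroup.Normal.conj_mem inferInstance _ q.2 c⟩ :=
    fun c q => congrArg Additive.ofMul (Subtype.ext (by simp [secAct, mkV, MulAut.conjNormal_apply]))
  have h2 : ∀ x : (Additive ↥(Q.map (QuotientGroup.mk' Z))), x + x = 0 := fun x => hW2 (Additive.toMul x)
  have hr3 : r * r * r = 1 := by rw [← S.r3]; simp [pow_succ]
  have hR3 : ∀ x : (Additive ↥(Q.map (QuotientGroup.mk' Z))), (act r) ((act r) ((act r) x)) = x := fun x => by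
    obtain ⟨q, rfl⟩ := hmk_surj x
    rw [hact, hact, hact]
    refine congrArg mkV (Subtype.ext ?_)
    show r * (r * (r * (q : C) * r⁻¹) * r⁻¹) * r⁻¹ = q
    calc r * (r * (r * (q : C) * r⁻¹) * r⁻¹) * r⁻¹ = (r * r * r) * q * (r * r * r)⁻¹ := by group
      _ = q := by rw [hr3]; group
  have hfixR : ∀ x : (Additive ↥(Q.map (QuotientGroup.mk' Z))), (act r) x = x → x = 0 := fun x hx => by
    obtain ⟨q, rfl⟩ := hmk_surj x
    rw [hact, hmk_eq] at hx
    refine (hmk_zero q).mpr (S.fpf _ q.2 ?_)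
    have h1 : ((r * (q : C) * r⁻¹)⁻¹ * q)⁻¹ ∈ Z := inv_mem hx
    have h2 := Subgroup.Normal.conj_mem (inferInstance : Z.Normal) _ h1 (q : C)
    simpa [mul_assoc] using h2
  have h3 : ∀ x : (Additive ↥(Q.map (QuotientGroup.mk' Z))), x + (act r) x + (act r) ((act r) x) = 0 := fun x => hfixR _ (by
    rw [map_add, map_add, hR3]; abel)
  letI : Module K (Additive ↥(Q.map (QuotientGroup.mk' Z))) := moduleK (act r) h2 h3
  have hw : ∀ x : (Additive ↥(Q.map (QuotientGroup.mk' Z))), (K.w : K) • x = (act r) x := fun _ => rfl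
  have hadd : ∀ x : (Additive ↥(Q.map (QuotientGroup.mk' Z))), (act r) ((act r) x) = x + (act r) x := fun x => by
    rw [← neg_eq_of_add_eq_zero_left (h2 ((act r) ((act r) x)))]
    exact (eq_neg_of_add_eq_zero_left (h3 x)).symm
  -- the form
  choose rep hrep using hmk_surj
  let B : (Additive ↥(Q.map (QuotientGroup.mk' Z))) → (Additive ↥(Q.map (QuotientGroup.mk' Z))) → K := fun a b => if (rep a : C) * rep b = rep b * rep a then 0 else 1
  have hB : ∀ a b : ↥Q, B (mkV a) (mkV b) = if (a : C) * b = b * a then 0 else 1 := by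
    intro a b
    have key : ∀ a' b' : ↥Q, mkV a' = mkV a → mkV b' = mkV b → ((a' : C) * b' = b' * a' ↔ (a : C) * b = b * a) := by
      intro a' b' ha hb
      obtain ⟨s, hs, e1⟩ : ∃ s ∈ Z, (a : C) = a' * s := ⟨_, (hmk_eq a' a).mp ha, by group⟩
      obtain ⟨t, ht, e2⟩ : ∃ t ∈ Z, (b : C) = b' * t := ⟨_, (hmk_eq b' b).mp hb, by group⟩
      have cs : ∀ c, Commute s c := fun c => (S.central s hs c).symm
      have ct : ∀ c, Commute t c := fun c => (S.central t ht c).symm
      rw [e1, e2, show (a' : C) * s * (b' * t) = (a' * b') * (s * t) by rw [mul_assoc, ← mul_assoc s, (cs b').eq]; group,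
        show (b' : C) * t * (a' * s) = (b' * a') * (s * t) by
          rw [mul_assoc, ← mul_assoc t, (ct a').eq, (cs t).eq]; group]
      exact (mul_left_inj _).symm
    show (if _ then _ else _) = _
    simp only [key (rep (mkV a)) (rep (mkV b)) (hrep _) (hrep _)]
  have hBadd : ∀ x y w : (Additive ↥(Q.map (QuotientGroup.mk' Z))), B (x + y) w = B x w + B y w := by
    intro x y w
    obtain ⟨a, rfl⟩ : ∃ a, mkV a = x := ⟨_, hrep x⟩
    obtain ⟨b, rfl⟩ : ∃ b, mkV b = y := ⟨_, hrep y⟩
    obtain ⟨c, rfl⟩ : ∃ c, mkV c = w := ⟨_, hrep w⟩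
    rw [← hmk_mul, hB, hB, hB]
    have hz : ∀ p : ↥Q, (p : C) * c * (p : C)⁻¹ * (c : C)⁻¹ ∈ Z := fun p => S.comm _ p.2 _ c.2
    obtain ⟨z0, hz01, hz0⟩ : ∃ z0, z0 ≠ 1 ∧ ∀ s ∈ Z, s = 1 ∨ s = z0 := by
      obtain ⟨z0, hz0, hne⟩ : ∃ z0 ∈ Z, z0 ≠ 1 := by
        by_contra hc
        push Not at hc
        have hcz := S.cardZ
        rw [(Subgroup.eq_bot_iff_forall _).mpr hc, Subgroup.card_bot] at hcz
        omega
      refine ⟨z0, hne, fun s hs => ?_⟩
      by_contra hcon
      push Not at hcon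
      haveI := Fintype.ofFinite Z
      have h3 : (({⟨1, one_mem _⟩, ⟨z0, hz0⟩, ⟨s, hs⟩} : Finset Z)).card ≤ 2 := by
        rw [← S.cardZ, Nat.card_eq_fintype_card]; exact Finset.card_le_univ _
      rw [Finset.card_insert_of_notMem (by simp [Ne.symm hne, Ne.symm hcon.1]),
        Finset.card_pair (by simp [Ne.symm hcon.2])] at h3
      omega
    have hiff : ∀ p : C, p * c = c * p ↔ p * c * p⁻¹ * (c : C)⁻¹ = 1 := fun p => by
      rw [mul_inv_eq_one, mul_inv_eq_iff_eq_mul]
    have hprod : ((a * b : ↥Q) : C) * c * ((a * b : ↥Q) : C)⁻¹ * (c : C)⁻¹ =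
        ((a : C) * c * (a : C)⁻¹ * (c : C)⁻¹) * ((b : C) * c * (b : C)⁻¹ * (c : C)⁻¹) := by
      have e := S.central _ (hz b) (a : C)
      rw [Subgroup.coe_mul]
      calc (a : C) * b * c * ((a : C) * b)⁻¹ * (c : C)⁻¹
          = (a : C) * ((b : C) * c * (b : C)⁻¹ * (c : C)⁻¹) * c * (a : C)⁻¹ * (c : C)⁻¹ := by group
        _ = ((b : C) * c * (b : C)⁻¹ * (c : C)⁻¹) * ((a : C) * c * (a : C)⁻¹ * (c : C)⁻¹) := by rw [e]; group
        _ = _ := (S.central _ (hz b) _).symm
    simp only [hiff]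
    rw [hprod]
    rcases hz0 _ (hz a) with e1 | e1 <;> rcases hz0 _ (hz b) with e2 | e2 <;> rw [e1, e2]
    · rw [one_mul, if_pos rfl]; rfl
    · rw [one_mul, if_pos rfl, if_neg hz01]; rfl
    · rw [mul_one, if_pos rfl, if_neg hz01]; rfl
    · have hzz : z0 * z0 = 1 := by
        have h1 := hz a
        rw [e1] at h1
        rcases hz0 _ (mul_mem h1 h1) with f | f
        · exact f
        · exact absurd (mul_eq_left.mp f) hz01
      rw [hzz, if_pos rfl, if_neg hz01]; rfl
  have hBsymm : ∀ x y, B x y = B y x := fun x y => by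
    show (if _ then _ else _) = if _ then _ else _
    simp only [eq_comm]
  have hBconj : ∀ (c : C) (x y : (Additive ↥(Q.map (QuotientGroup.mk' Z)))), B (act c x) (act c y) = B x y := by
    intro c x y
    obtain ⟨a, rfl⟩ : ∃ a, mkV a = x := ⟨_, hrep x⟩
    obtain ⟨b, rfl⟩ : ∃ b, mkV b = y := ⟨_, hrep y⟩
    rw [hact, hact, hB, hB]
    have : c * (a : C) * c⁻¹ * (c * b * c⁻¹) = c * b * c⁻¹ * (c * a * c⁻¹) ↔ (a : C) * b = b * a := by
      rw [show c * (a : C) * c⁻¹ * (c * b * c⁻¹) = c * (a * b) * c⁻¹ by group,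
        show c * (b : C) * c⁻¹ * (c * a * c⁻¹) = c * (b * a) * c⁻¹ by group]
      exact ⟨fun h => mul_left_cancel (mul_right_cancel h), fun h => by rw [h]⟩
    simp only [this]
  have hBR : ∀ x y, B ((act r) x) ((act r) y) = B x y := hBconj r
  let h : (Additive ↥(Q.map (QuotientGroup.mk' Z))) → (Additive ↥(Q.map (QuotientGroup.mk' Z))) → K := fun x y => B ((act r) x) y + B x y + K.w * B x y
  have hhadd : ∀ a b c, h (a + b) c = h a c + h b c := fun a b c => by
    show B ((act r) (a + b)) c + B (a + b) c + K.w * B (a + b) c = _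
    rw [map_add, hBadd, hBadd]
    ring
  have hBbit : ∀ x y, B x y = 0 ∨ B x y = 1 := fun x y => by
    show (if _ then _ else _) = _ ∨ (if _ then _ else _) = _
    split_ifs <;> simp
  have hhw : ∀ a c, h ((act r) a) c = K.w * h a c := fun a c => by
    show B ((act r) ((act r) a)) c + B ((act r) a) c + K.w * B ((act r) a) c = K.w * (B ((act r) a) c + B a c + K.w * B a c)
    rw [hadd, hBadd]
    rcases hBbit ((act r) a) c with e1 | e1 <;> rcases hBbit a c with e2 | e2 <;> rw [e1, e2] <;> decide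
  have hhsmul : ∀ (t : K) a c, h (t • a) c = t * h a c := by
    intro t a c
    have hv : (K.v : K) • a = (act r) ((act r) a) := rfl
    have h0 : h 0 c = 0 := by
      have := hhadd 0 0 c
      rw [add_zero] at this
      exact left_eq_add.mp this
    cases t
    · show h ((0 : K) • a) c = (0 : K) * h a c
      rw [zero_smul, zero_mul, h0]
    · show h ((1 : K) • a) c = (1 : K) * h a c
      rw [one_smul, one_mul]
    · rw [hw, hhw]
    · rw [hv, hhw, hhw, ← mul_assoc]; rfl
  have hhswap : ∀ a b, h b a = h a b ^ 2 := by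
    intro a b
    show B ((act r) b) a + B b a + K.w * B b a = (B ((act r) a) b + B a b + K.w * B a b) ^ 2
    have e1 : B ((act r) b) a = B a b + B ((act r) a) b := by
      rw [hBsymm ((act r) b) a]
      calc B a ((act r) b) = B ((act r) ((act r) a)) ((act r) ((act r) ((act r) b))) := by rw [hBR, hBR]
        _ = B a b + B ((act r) a) b := by rw [hR3, hadd, hBadd]
    rw [e1, hBsymm b a]
    rcases hBbit ((act r) a) b with e1 | e1 <;> rcases hBbit a b with e2 | e2 <;> rw [e1, e2] <;> decide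
  have hhnd : ∀ a, (∀ b, h a b = 0) → a = 0 := by
    intro a ha
    obtain ⟨p, rfl⟩ : ∃ p, mkV p = a := ⟨_, hrep a⟩
    refine (hmk_zero p).mpr (S.nondeg _ p.2 fun b hb => ?_)
    have h0 : B ((act r) (mkV p)) (mkV ⟨b, hb⟩) + B (mkV p) (mkV ⟨b, hb⟩) + K.w * B (mkV p) (mkV ⟨b, hb⟩) = 0 := ha _
    have hb0 : B (mkV p) (mkV ⟨b, hb⟩) = 0 := by
      rcases hBbit ((act r) (mkV p)) (mkV ⟨b, hb⟩) with e1 | e1 <;> rcases hBbit (mkV p) (mkV ⟨b, hb⟩) with e2 | e2 <;>
        rw [e1, e2] at h0 <;> first | exact e2 | exact absurd h0 (by decide)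
    rw [hB] at hb0
    by_contra hne
    rw [if_neg hne] at hb0
    exact one_ne_zero hb0
  have hcardV : Nat.card (Additive ↥(Q.map (QuotientGroup.mk' Z))) = 4096 := by
    have h1 := Subgroup.card_mul_index (Z.subgroupOf Q)
    rw [Nat.card_congr (Subgroup.subgroupOfEquivOfLe S.ZQ).toEquiv, S.cardQ, S.cardZ] at h1
    have h2 : Nat.card ↥(Q.map (QuotientGroup.mk' Z)) = (Z.subgroupOf Q).index := by
      rw [← MonoidHom.restrict_range, ← Subgroup.index_ker, MonoidHom.ker_restrict, QuotientGroup.ker_mk']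
    show Nat.card ↥(Q.map (QuotientGroup.mk' Z)) = 4096
    omega
  haveI : Finite (Additive ↥(Q.map (QuotientGroup.mk' Z))) := Finite.of_equiv _ Additive.ofMul
  obtain ⟨φ, hφ⟩ := exists_basis hcardV h hhadd hhsmul hhswap hhnd
  -- the representation
  have hcommR : ∀ (m : ↥M) (x : (Additive ↥(Q.map (QuotientGroup.mk' Z)))), act (m : C) ((act r) x) = (act r) (act (m : C) x) := by
    intro m x
    obtain ⟨q, rfl⟩ : ∃ q, mkV q = x := ⟨_, hrep x⟩
    rw [hact, hact, hact, hact, hmk_eq]
    set s := (m : C) * r * (m : C)⁻¹ * r⁻¹ with hs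
    have hy := Subgroup.Normal.conj_mem (inferInstance : Q.Normal) _
      (Subgroup.Normal.conj_mem (inferInstance : Q.Normal) _ q.2 (m : C)) r
    have h1 := inv_mem (S.comm s (S.central_top m.2) _ hy)
    have h2 := Subgroup.Normal.conj_mem (inferInstance : Z.Normal) _ h1 ((r * ((m : C) * q * (m : C)⁻¹) * r⁻¹)⁻¹)
    show ((m : C) * (r * q * r⁻¹) * (m : C)⁻¹)⁻¹ * (r * ((m : C) * q * (m : C)⁻¹) * r⁻¹) ∈ Z
    convert h2 using 1
    rw [hs]; group
  have hlin : ∀ (m : ↥M) (t : K) (x : (Additive ↥(Q.map (QuotientGroup.mk' Z)))), act (m : C) (t • x) = t • act (m : C) x := by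
    intro m t x
    cases t
    · show act (m : C) ((0 : K) • x) = (0 : K) • act (m : C) x
      rw [zero_smul, zero_smul, map_zero]
    · show act (m : C) ((1 : K) • x) = (1 : K) • act (m : C) x
      rw [one_smul, one_smul]
    · exact hcommR m x
    · show act (m : C) ((act r) ((act r) x)) = (act r) ((act r) (act (m : C) x))
      rw [hcommR, hcommR]
  have hhM : ∀ (m : ↥M) x y, h (act (m : C) x) (act (m : C) y) = h x y := by
    intro m x y
    show B ((act r) _) _ + B _ _ + K.w * B _ _ = B ((act r) x) y + B x y + K.w * B x y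
    rw [← hcommR, hBconj, hBconj]
  have hactmul : ∀ a b : C, ∀ x, act (a * b) x = act a (act b x) := fun a b x => by
    obtain ⟨q, rfl⟩ : ∃ q, mkV q = x := ⟨_, hrep x⟩
    rw [hact, hact, hact]
    exact congrArg mkV (Subtype.ext (by group))
  have hactone : ∀ x, act 1 x = x := fun x => by
    obtain ⟨q, rfl⟩ : ∃ q, mkV q = x := ⟨_, hrep x⟩
    rw [hact]
    exact congrArg mkV (Subtype.ext (by group))
  let ι : ↥M →* Matrix (Fin 6) (Fin 6) K :=
    { toFun := fun m => LinearMap.toMatrix'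
        (φ.toLinearMap.comp (({ toFun := act (m : C), map_add' := map_add _, map_smul' := hlin m } : (Additive ↥(Q.map (QuotientGroup.mk' Z))) →ₗ[K] (Additive ↥(Q.map (QuotientGroup.mk' Z)))).comp
          φ.symm.toLinearMap))
      map_one' := by
        refine (congrArg LinearMap.toMatrix' (LinearMap.ext fun x => ?_)).trans LinearMap.toMatrix'_id
        show φ (act ((1 : ↥M) : C) (φ.symm x)) = x
        rw [Subgroup.coe_one, hactone, LinearEquiv.apply_symm_apply]
      map_mul' := fun m n => by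
        rw [← LinearMap.toMatrix'_comp]
        refine congrArg LinearMap.toMatrix' (LinearMap.ext fun x => ?_)
        show φ (act ((m * n : ↥M) : C) (φ.symm x)) = φ (act (m : C) (φ.symm (φ (act (n : C) (φ.symm x)))))
        rw [Subgroup.coe_mul, hactmul, LinearEquiv.symm_apply_apply] }
  have hι : ∀ (m : ↥M) (x : (Additive ↥(Q.map (QuotientGroup.mk' Z)))), ι m *ᵥ φ x = φ (act (m : C) x) := by
    intro m x
    show LinearMap.toMatrix' _ *ᵥ φ x = _
    rw [← Matrix.toLin'_apply, Matrix.toLin'_toMatrix']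
    show φ (act (m : C) (φ.symm (φ x))) = _
    rw [LinearEquiv.symm_apply_apply]
  let d : ↥M →* Kˣ := MonoidHom.toHomUnits (Matrix.detMonoidHom.comp ι)
  have hιQ : ∀ m : ↥M, (m : C) ∈ Q → ι m = 1 := by
    intro m hm
    refine Matrix.ext_of_mulVec_single fun i => ?_
    obtain ⟨x, hx⟩ := φ.surjective (Pi.single i 1)
    rw [← hx, hι, one_mulVec]
    refine congrArg φ ?_
    obtain ⟨q, rfl⟩ : ∃ q, mkV q = x := ⟨_, hrep x⟩
    rw [hact]
    refine ((hmk_eq q _).mpr ?_).symm
    show (q : C)⁻¹ * ((m : C) * q * (m : C)⁻¹) ∈ Z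
    have h1 := Subgroup.Normal.conj_mem (inferInstance : Z.Normal) _ (S.comm _ hm _ q.2) (q : C)⁻¹
    convert h1 using 1
    group
  have hd : ∀ m : ↥M, (ι m).det = 1 := by
    intro m
    obtain ⟨k, hk, hkq⟩ := S.perfect m m.2
    have hk' : k ∈ (commutator ↥M).map M.subtype := by rwa [Subgroup.map_subtype_commutator]
    obtain ⟨k', hk'', hk3⟩ := hk'
    have hk4 : ((k'⁻¹ * m : ↥M) : C) ∈ Q := by
      rw [Subgroup.coe_mul, Subgroup.coe_inv, show (k' : C) = k from hk3]
      exact hkq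
    have h1 : d k' = 1 := MonoidHom.mem_ker.mp (Abelianization.commutator_subset_ker d hk'')
    have h2 : d (k'⁻¹ * m) = 1 := Units.ext (by
      rw [MonoidHom.coe_toHomUnits, MonoidHom.comp_apply, Matrix.coe_detMonoidHom, hιQ _ hk4, Matrix.det_one,
        Units.val_one])
    rw [map_mul, map_inv, h1, inv_one, one_mul] at h2
    have h3 := congrArg Units.val h2
    rw [MonoidHom.coe_toHomUnits, MonoidHom.comp_apply, Matrix.coe_detMonoidHom, Units.val_one] at h3
    exact h3
  let f1 : ↥M →* Γ :=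
    { toFun := fun m => ⟨⟨ι m, hd m⟩, fun u v => by
        obtain ⟨x, rfl⟩ := φ.surjective u
        obtain ⟨y, rfl⟩ := φ.surjective v
        show Cfsg.hermForm 6 K 2 (ι m *ᵥ φ x) (ι m *ᵥ φ y) = _
        rw [hι, hι, hφ, hφ, hhM]⟩
      map_one' := gm_inj (map_one ι)
      map_mul' := fun a b => gm_inj (map_mul ι a b) }
  have hf1 : ∀ m, gm (f1 m) = ι m := fun _ => rfl
  have hker1 : f1.ker = Q.subgroupOf M := by
    ext m
    rw [MonoidHom.mem_ker, Subgroup.mem_subgroupOf]
    refine ⟨fun hm => S.inner _ fun q hq => ?_, fun hm => gm_inj ((hf1 m).trans ((hιQ m hm).trans gm_one.symm))⟩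
    have h1 := hι m (mkV ⟨q, hq⟩)
    rw [← hf1, hm, gm_one, one_mulVec] at h1
    have h2 := φ.injective h1
    rw [hact, hmk_eq] at h2
    have h3 := Subgroup.Normal.conj_mem (inferInstance : Z.Normal) _ h2 q
    convert h3 using 1
    group
  -- the cover
  have hcover : IsCover f1.range := by
    let π : ↥M →* ↥M ⧸ N.subgroupOf M := QuotientGroup.mk' _
    haveI : IsSimpleGroup (↥M ⧸ N.subgroupOf M) := by
      haveI := CfsgLib.UnitarySimple.simple (F := F) (q := 3) (by rw [hF]; norm_num) (n := 4) (by norm_num) (by norm_num)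
      exact e.isSimpleGroup
    have hcen : (Subgroup.center ↥f1.range).comap f1.rangeRestrict = N.subgroupOf M := by
      set P := (Subgroup.center ↥f1.range).comap f1.rangeRestrict with hP
      have hNP : N.subgroupOf M ≤ P := by
        intro n hn
        rw [hP, Subgroup.mem_comap, Subgroup.mem_center_iff]
        intro y
        obtain ⟨m, rfl⟩ := f1.rangeRestrict_surjective y
        have h1 : f1 ⁅m, n⁆ = 1 := by
          rw [← MonoidHom.mem_ker, hker1, Subgroup.mem_subgroupOf]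
          obtain ⟨j, hj⟩ := S.gen (Subgroup.mem_subgroupOf.mp hn)
          have hc := (QuotientGroup.eq_one_iff _).mpr (S.central_top m.2)
          rw [QuotientGroup.mk_mul, QuotientGroup.mk_mul, QuotientGroup.mk_mul, QuotientGroup.mk_inv,
            QuotientGroup.mk_inv, mul_inv_eq_one] at hc
          rw [← QuotientGroup.eq_one_iff]
          show (QuotientGroup.mk ((m : C) * n * (m : C)⁻¹ * (n : C)⁻¹) : C ⧸ Q) = 1
          rw [QuotientGroup.mk_mul, QuotientGroup.mk_mul, QuotientGroup.mk_mul, QuotientGroup.mk_inv,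
            QuotientGroup.mk_inv, hj, ← conj_zpow, hc, mul_inv_cancel]
        rw [map_commutatorElement, commutatorElement_eq_one_iff_mul_comm] at h1
        exact Subtype.ext h1
      have hPn : P.Normal := inferInstance
      rcases (Subgroup.Normal.map hPn π (QuotientGroup.mk'_surjective _)).eq_bot_or_eq_top with h1 | h1
      · refine le_antisymm (fun x hx => ?_) hNP
        have := Subgroup.mem_bot.mp (h1 ▸ Subgroup.mem_map_of_mem π hx)
        exact (QuotientGroup.eq_one_iff x).mp this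
      · exfalso
        have hab : ∀ a b : ↥M ⧸ N.subgroupOf M, a * b = b * a := by
          intro a b
          obtain ⟨a', ha', rfl⟩ : a ∈ P.map π := h1 ▸ Subgroup.mem_top a
          obtain ⟨b', hb', rfl⟩ : b ∈ P.map π := h1 ▸ Subgroup.mem_top b
          rw [← commutatorElement_eq_one_iff_mul_comm, ← map_commutatorElement]
          refine (QuotientGroup.eq_one_iff _).mpr (Subgroup.mem_subgroupOf.mpr (S.QN ?_))
          have h3 : f1.rangeRestrict ⁅a', b'⁆ = 1 := by
            rw [map_commutatorElement, commutatorElement_eq_one_iff_mul_comm]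
            exact Subgroup.mem_center_iff.mp hb' _
          have h4 : ⁅a', b'⁆ ∈ f1.ker := congrArg Subtype.val h3
          rw [hker1] at h4
          exact h4
        letI : CommGroup (↥M ⧸ N.subgroupOf M) := { (inferInstance : Group _) with mul_comm := hab }
        have := IsSimpleGroup.prime_card (α := ↥M ⧸ N.subgroupOf M)
        rw [Nat.card_congr e.toEquiv, CfsgLib.U43Mult.psu_card hF] at this
        norm_num at this
    refine ⟨?_, ?_⟩
    · have h1 := Subgroup.card_mul_index ((Subgroup.center ↥f1.range).comap f1.rangeRestrict)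
      have h2 : ((Subgroup.center ↥f1.range).comap f1.rangeRestrict).index = (Subgroup.center ↥f1.range).index :=
        Subgroup.index_comap_of_surjective _ f1.rangeRestrict_surjective
      have h3 := Subgroup.card_mul_index (Subgroup.center ↥f1.range)
      have h4 := Subgroup.card_mul_index f1.ker
      rw [Subgroup.index_ker] at h4
      rw [h2, hcen, Nat.card_congr (Subgroup.subgroupOfEquivOfLe S.NM).toEquiv, S.cardN, ← h4, ← h3, hker1,
        Nat.card_congr (Subgroup.subgroupOfEquivOfLe (S.QN.trans S.NM)).toEquiv, ← mul_assoc, mul_comm 3] at h1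
      exact (Nat.eq_of_mul_eq_mul_left Nat.card_pos
        (Nat.eq_of_mul_eq_mul_right (Nat.pos_of_ne_zero Subgroup.index_ne_zero_of_finite) h1)).symm
    · obtain ⟨es⟩ := (CfsgLib.U43Mult.small_card hF).2.2
      have hs : Function.Surjective ((QuotientGroup.mk' (Subgroup.center ↥f1.range)).comp f1.rangeRestrict) :=
        (QuotientGroup.mk'_surjective _).comp f1.rangeRestrict_surjective
      have hk : ((QuotientGroup.mk' (Subgroup.center ↥f1.range)).comp f1.rangeRestrict).ker = N.subgroupOf M := by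
        rw [← hcen]; ext x; exact QuotientGroup.eq_one_iff _
      exact ⟨((QuotientGroup.quotientKerEquivOfSurjective _ hs).symm.trans
        (QuotientGroup.quotientMulEquivOfEq hk)).trans (e.trans es)⟩
  obtain ⟨g, i, -, hgi⟩ := classify_conj hcover
  -- the change of coordinates
  let D : Matrix (Fin 6) (Fin 6) K := Matrix.diagonal dd
  let E : Matrix (Fin 6) (Fin 6) K := Matrix.diagonal fun k => dd k ^ 2
  have hDE : D * E = 1 := by
    rw [Matrix.diagonal_mul_diagonal, ← Matrix.diagonal_one]; congr 1; funext k; exact dd_facts.1 k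
  have hED : E * D = 1 := mul_eq_one_comm.mp hDE
  have hKi : ∀ n : ℕ, ∀ x ∈ Ki n, ∃ y ∈ K0, gm x = D ^ n * gm y * E ^ n := by
    intro n
    induction n with
    | zero => intro x hx; exact ⟨x, hx, by simp⟩
    | succ n ih =>
      rintro x ⟨w, hw, rfl⟩
      obtain ⟨y, hy, e⟩ := ih w hw
      refine ⟨y, hy, ?_⟩
      rw [gm_psi, e, pow_succ' D, pow_succ E]
      simp only [Matrix.mul_assoc, D, E]
  have hmem : ∀ m : ↥M, g * f1 m * g⁻¹ ∈ Ki i := fun m => by rw [← hgi]; exact ⟨f1 m, ⟨m, rfl⟩, rfl⟩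
  choose y hy hey using fun m => hKi i _ (hmem m)
  have hpw : E ^ i * D ^ i = 1 := by
    rw [← Commute.mul_pow (show Commute E D from hED.trans hDE.symm), hED, one_pow]
  have hy' : ∀ m, gm (y m) = E ^ i * gm (g * f1 m * g⁻¹) * D ^ i := fun m => by
    rw [hey]
    calc gm (y m) = (E ^ i * D ^ i) * gm (y m) * (E ^ i * D ^ i) := by rw [hpw, one_mul, mul_one]
      _ = _ := by simp only [mul_assoc]
  let f : ↥M →* Γ := MonoidHom.mk' y fun a b => gm_inj (by
    have hp2 : D ^ i * E ^ i = 1 := mul_eq_one_comm.mp hpw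
    rw [gm_mul, hy', hy', hy', map_mul, show g * (f1 a * f1 b) * g⁻¹ = (g * f1 a * g⁻¹) * (g * f1 b * g⁻¹) by group,
      gm_mul]
    calc E ^ i * (gm (g * f1 a * g⁻¹) * gm (g * f1 b * g⁻¹)) * D ^ i
        = E ^ i * gm (g * f1 a * g⁻¹) * (D ^ i * E ^ i) * gm (g * f1 b * g⁻¹) * D ^ i := by
          rw [hp2, mul_one]; simp only [mul_assoc]
      _ = _ := by simp only [mul_assoc])
  have hfker : f.ker = Q.subgroupOf M := by
    rw [← hker1]
    ext m
    rw [MonoidHom.mem_ker, MonoidHom.mem_ker]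
    show y m = 1 ↔ _
    refine ⟨fun h1 => ?_, fun h1 => gm_inj (by rw [hy', h1]; simp [gm_one, hpw])⟩
    have h2 : g * f1 m * g⁻¹ = 1 := gm_inj (by
      rw [hey, h1, gm_one, mul_one, mul_eq_one_comm.mp hpw])
    exact conj_eq_one_iff.mp h2
  have hrange : f.range = K0 := by
    refine Subgroup.eq_of_le_of_card_ge (by rintro _ ⟨m, rfl⟩; exact hy m) ?_
    have h1 := Subgroup.card_mul_index f.ker
    have h2 := Subgroup.card_mul_index f1.ker
    rw [Subgroup.index_ker] at h1 h2
    rw [hfker, ← hker1, ← h2] at h1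
    rw [card_K0, Nat.eq_of_mul_eq_mul_left Nat.card_pos h1, hcover.card]
  let η : C → Fin 6 → K := fun c => if hc : c ∈ Q then E ^ i *ᵥ (gm g *ᵥ φ (mkV ⟨c, hc⟩)) else 0
  have hη : ∀ c (hc : c ∈ Q), η c = E ^ i *ᵥ (gm g *ᵥ φ (mkV ⟨c, hc⟩)) := fun c hc => dif_pos hc
  have hinjη : ∀ u v : Fin 6 → K, E ^ i *ᵥ (gm g *ᵥ u) = E ^ i *ᵥ (gm g *ᵥ v) → u = v := by
    intro u v e1
    have e2 := congrArg (fun w => gm g⁻¹ *ᵥ (D ^ i *ᵥ w)) e1
    simp only [Matrix.mulVec_mulVec] at e2
    rw [← mul_assoc (D ^ i), mul_eq_one_comm.mp hpw, one_mul, ← gm_mul, inv_mul_cancel, gm_one,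
      Matrix.one_mulVec, Matrix.one_mulVec] at e2
    exact e2
  have hzero : ∀ q, q ∈ Q → (q ∈ Z ↔ η q = 0) := by
    intro q hq
    rw [hη q hq]
    refine ⟨fun hz => ?_, fun h0 => ?_⟩
    · rw [(hmk_zero ⟨q, hq⟩).mpr hz, map_zero, Matrix.mulVec_zero, Matrix.mulVec_zero]
    · refine (hmk_zero ⟨q, hq⟩).mp (φ.injective ?_)
      rw [map_zero]
      exact hinjη _ _ (by rw [h0, Matrix.mulVec_zero, Matrix.mulVec_zero])
  refine ⟨η, f, fun a ha b hb => ?_, fun q hq hqq => ?_, hzero, hrange, hfker, fun m q hq => ?_⟩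
  · rw [hη a ha, hη b hb]
    refine ⟨fun e1 => (hmk_eq ⟨a, ha⟩ ⟨b, hb⟩).mp (φ.injective (hinjη _ _ e1)), fun hab => ?_⟩
    rw [(hmk_eq ⟨a, ha⟩ ⟨b, hb⟩).mpr hab]
  · rw [hη q hq]
    have hEp : ∀ n : ℕ, ∀ u v, Cfsg.hermForm 6 K 2 (E ^ n *ᵥ u) (E ^ n *ᵥ v) = Cfsg.hermForm 6 K 2 u v := by
      intro n
      induction n with
      | zero => intro u v; rw [pow_zero, Matrix.one_mulVec, Matrix.one_mulVec]
      | succ n ih =>
        intro u v
        rw [pow_succ, ← Matrix.mulVec_mulVec, ← Matrix.mulVec_mulVec, ih]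
        refine Finset.sum_congr rfl fun k _ => ?_
        rw [Matrix.mulVec_diagonal, Matrix.mulVec_diagonal]
        have h1 : dd k * dd k ^ 2 = 1 := dd_facts.1 k
        calc dd k ^ 2 * u k * (dd k ^ 2 * v k) ^ 2 = (dd k * dd k ^ 2) ^ 2 * (u k * v k ^ 2) := by ring
          _ = _ := by rw [h1, one_pow, one_mul]
    rw [hEp, preserves (unitary g), hφ]
    -- an involution is singular
    show B ((act r) (mkV ⟨q, hq⟩)) (mkV ⟨q, hq⟩) + B (mkV ⟨q, hq⟩) (mkV ⟨q, hq⟩) + K.w * B (mkV ⟨q, hq⟩) (mkV ⟨q, hq⟩) = 0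
    have hqq0 : B (mkV ⟨q, hq⟩) (mkV ⟨q, hq⟩) = 0 := by rw [hB]; simp
    suffices hcom : B ((act r) (mkV ⟨q, hq⟩)) (mkV ⟨q, hq⟩) = 0 by
      rw [hcom, hqq0, mul_zero, add_zero, add_zero]
    rw [hact, hB]
    refine if_pos ?_
    show r * q * r⁻¹ * q = q * (r * q * r⁻¹)
    set a := r * q * r⁻¹ with ha
    set b := r * a * r⁻¹ with hb
    have hamem : a ∈ Q := Subgroup.Normal.conj_mem inferInstance q hq r
    have hbmem : b ∈ Q := Subgroup.Normal.conj_mem inferInstance a hamem r
    have hrel := h3 (mkV ⟨q, hq⟩)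
    rw [hact, hact, ← hmk_mul, ← hmk_mul, hmk_zero] at hrel
    have hz : q * a * b ∈ Z := hrel
    have haa : a * a = 1 := by
      rw [ha, show r * q * r⁻¹ * (r * q * r⁻¹) = r * (q * q) * r⁻¹ by group, hqq]; group
    have hbb : b * b = 1 := by
      rw [hb, show r * a * r⁻¹ * (r * a * r⁻¹) = r * (a * a) * r⁻¹ by group, haa]; group
    have hzz : (q * a * b) * (q * a * b) = 1 := by
      haveI := Fintype.ofFinite Z
      have h1 := pow_card_eq_one' (x := (⟨_, hz⟩ : Z))
      rw [S.cardZ, pow_two] at h1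
      exact congrArg Subtype.val h1
    have hqa : (q * a) * (q * a) = 1 := by
      have hc := S.central _ hz b
      calc (q * a) * (q * a) = ((q * a * b) * b⁻¹) * ((q * a * b) * b⁻¹) := by group
        _ = ((q * a * b) * (q * a * b)) * (b * b)⁻¹ := by
          rw [show b⁻¹ = b from inv_eq_of_mul_eq_one_right hbb, show (q * a * b * b) * (q * a * b * b) =
            q * a * b * (b * (q * a * b)) * b by group, hc]
          rw [show (b * b)⁻¹ = b * b by rw [hbb, inv_one]]
          group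
        _ = 1 := by rw [hzz, hbb, inv_one, one_mul]
    rw [← inv_eq_of_mul_eq_one_right hqa, _root_.mul_inv_rev, inv_eq_of_mul_eq_one_right haa,
      inv_eq_of_mul_eq_one_right hqq]
  · have hcm := Subgroup.Normal.conj_mem (inferInstance : Q.Normal) q hq (m : C)
    rw [hη _ hcm, hη q hq, show f m = y m from rfl, hy']
    simp only [Matrix.mulVec_mulVec]
    rw [show mkV ⟨(m : C) * q * (m : C)⁻¹, hcm⟩ = act (m : C) (mkV ⟨q, hq⟩) from (hact _ ⟨q, hq⟩).symm, ← hι,
      ← hf1, Matrix.mulVec_mulVec]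
    congr 1
    rw [gm_mul, gm_mul, show gm g⁻¹ = gm g⁻¹ from rfl]
    calc E ^ i * gm g * gm (f1 m) = E ^ i * gm g * gm (f1 m) * (gm g⁻¹ * gm g) := by
          rw [← gm_mul, inv_mul_cancel, gm_one, mul_one]
      _ = E ^ i * gm g * gm (f1 m) * gm g⁻¹ * ((D ^ i * E ^ i) * gm g) := by
          rw [mul_eq_one_comm.mp hpw, one_mul]; simp only [mul_assoc]
      _ = _ := by simp only [mul_assoc]

end CfsgLib.Fi24Three.ModuleModel
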