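import Cfsg.Agent.Lib.Fi24Three.LocalChecks

/-!
The subgroup 3.U₄(3) of SU₆(2) has two orbits on non-zero isotropic vectors; a stabiliser of the first has no
non-trivial normal two-subgroup and one of the second is an extension of a group of order sixteen by A₆.
-/

set_option autoImplicit false
set_option maxRecDepth 30000
set_option linter.unusedSectionVars false

namespace CfsgLib.Fi24Three.Orbit

open CfsgLib.G24 CfsgLib.SUSixSub Equiv Subgroup Matrix

attribute [local irreducible] orbCodes orbPar orbPos maskA eBGens eBEls pAGens pAEls eBWords pAWords eBGenWords pAGenWords sAWord sA gensA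

/-- The vector of a number. -/
def vec (n : ℕ) : Fin 6 → K := rowV (rowN n)

/-- The code of a vector. -/
def enc (v : Fin 6 → K) : ℕ := encR (mk v)

/-- The stabiliser of a vector in the subgroup. -/
noncomputable def stab (v : Fin 6 → K) : Subgroup Γ where
  carrier := {g | g ∈ K0 ∧ gm g *ᵥ v = v}
  one_mem' := ⟨one_mem _, by rw [gm_one, one_mulVec]⟩
  mul_mem' := fun {a b} ha hb => ⟨mul_mem ha.1 hb.1, by rw [gm_mul, ← mulVec_mulVec, hb.2, ha.2]⟩
  inv_mem' := fun {a} ha => ⟨inv_mem ha.1, by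
    conv_lhs => rw [← ha.2]
    rw [mulVec_mulVec, ← gm_mul, inv_mul_cancel, gm_one, one_mulVec]⟩

theorem mem_stab {v : Fin 6 → K} {g : Γ} : g ∈ stab v ↔ g ∈ K0 ∧ gm g *ᵥ v = v := Iff.rfl

theorem vec_enc_surj : Function.Surjective fun n : Fin 4096 => vec n.val := by
  have hinj : Function.Injective fun n : Fin 4096 => vec n.val := by
    intro a b h
    have hmk : ∀ n : ℕ, mk (rowV (rowN n)) = rowN n := fun n => rfl
    have ha := Nat.eq_of_beq_eq_true (List.all_eq_true.mp enc_ok a.val (List.mem_range.mpr a.2))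
    have hb := Nat.eq_of_beq_eq_true (List.all_eq_true.mp enc_ok b.val (List.mem_range.mpr b.2))
    have : encR (mk (vec a.val)) = encR (mk (vec b.val)) := congrArg (fun v => encR (mk v)) h
    simp only [vec, hmk, ha, hb] at this
    exact Fin.ext this
  refine ((Fintype.bijective_iff_injective_and_card _).mpr ⟨hinj, ?_⟩).2
  rw [Fintype.card_fun, Fintype.card_fin, Fintype.card_fin, K.card_eq]
  rfl

theorem enc_vec {n : ℕ} (hn : n < 4096) : enc (vec n) = n := by
  have := Nat.eq_of_beq_eq_true (List.all_eq_true.mp enc_ok n (List.mem_range.mpr hn))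
  exact this

theorem vec_enc (v : Fin 6 → K) : vec (enc v) = v ∧ enc v < 4096 := by
  obtain ⟨n, rfl⟩ := vec_enc_surj v
  rw [enc_vec n.2]
  exact ⟨rfl, n.2⟩

theorem isoB_iff (u : R6) : isoB u = true ↔ Cfsg.hermForm 6 K 2 (rowV u) (rowV u) = 0 := by
  have hb : ∀ a : K, beqK a .o = true ↔ a = 0 := by decide
  rw [isoB, hb, dot_eq]
  simp only [dotProduct, Cfsg.hermForm, cjK_eq]

/-- A non-zero isotropic vector is an entry of the list. -/
theorem exists_entry {v : Fin 6 → K} (h0 : v ≠ 0) (hv : Cfsg.hermForm 6 K 2 v v = 0) :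
    ∃ k, k < 2079 ∧ vec (codeAt k) = v := by
  obtain ⟨e, hlt⟩ := vec_enc v
  have h := List.all_eq_true.mp cover_ok (enc v) (List.mem_range.mpr hlt)
  simp only [Bool.or_eq_true, Bool.and_eq_true, Bool.not_eq_true', Nat.blt_eq] at h
  rcases h with (h | h) | ⟨h1, h2⟩
  · exfalso
    apply h0
    rw [← e, Nat.eq_of_beq_eq_true h]
    funext i
    fin_cases i <;> rfl
  · exfalso
    rw [← Bool.not_eq_true, isoB_iff] at h
    exact h (by rw [show rowV (rowN (enc v)) = v from e]; exact hv)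
  · exact ⟨_, h1, by rw [Nat.eq_of_beq_eq_true h2, e]⟩

theorem genK (j : Fin 2) : elN (gensA.getD j.val 0) ∈ K0 := gensA_mem j

theorem gm_genK (j : Fin 2) : gm (elN (gensA.getD j.val 0)) = mat6 (ofN (gensA.getD j.val 0)) :=
  gm_elN (okA_j j)

/-- Each entry is reached from the root of its class. -/
theorem reach : ∀ k, k < 2079 → ∃ g ∈ K0, gm g *ᵥ vec (if k < 378 then vA else vB) = vec (codeAt k) := by
  intro k
  induction k using Nat.strong_induction_on with
  | _ k ih =>
    intro hk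
    have h := List.all_eq_true.mp tree_ok k (List.mem_range.mpr hk)
    have hs := List.all_eq_true.mp split_ok k (List.mem_range.mpr hk)
    simp only [Bool.and_eq_true, Nat.blt_eq, beq_iff_eq] at hs
    simp only [Bool.or_eq_true, Bool.and_eq_true, Nat.blt_eq] at h
    rcases h with (h | h) | ⟨hp, hm⟩
    · obtain rfl := Nat.eq_of_beq_eq_true h
      exact ⟨1, one_mem _, by rw [gm_one, one_mulVec, if_pos (by norm_num), roots_ok.1]⟩
    · obtain rfl := Nat.eq_of_beq_eq_true h
      exact ⟨1, one_mem _, by rw [gm_one, one_mulVec, if_neg (by norm_num), roots_ok.2.1]⟩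
    · obtain ⟨g, hg, e⟩ := ih _ hp hs.1.2
      have hclass : (k < 378) ↔ (parAt k < 378) := by
        have := hs.2
        rw [← Nat.blt_eq, ← Nat.blt_eq, this]
      have hj : genAt k < 2 := Nat.mod_lt _ (by norm_num)
      refine ⟨elN (gensA.getD (genAt k) 0) * g, mul_mem (genK ⟨_, hj⟩) hg, ?_⟩
      rw [gm_mul, ← mulVec_mulVec, show (if k < 378 then vA else vB) = if parAt k < 378 then vA else vB by
        simp only [hclass], e, gm_genK ⟨_, hj⟩]
      show _ *ᵥ rowV (rowN _) = _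
      rw [← mulV_eq]
      exact of_beqR hm

/-- Two orbits. -/
theorem orbit_cases {v : Fin 6 → K} (h0 : v ≠ 0) (hv : Cfsg.hermForm 6 K 2 v v = 0) :
    (∃ g ∈ K0, gm g *ᵥ vec vA = v) ∨ ∃ g ∈ K0, gm g *ᵥ vec vB = v := by
  obtain ⟨k, hk, rfl⟩ := exists_entry h0 hv
  obtain ⟨g, hg, e⟩ := reach k hk
  by_cases h : k < 378
  · rw [if_pos h] at e; exact Or.inl ⟨g, hg, e⟩
  · rw [if_neg h] at e; exact Or.inr ⟨g, hg, e⟩

theorem inv_class (j : Fin 2) {k : ℕ} (hk : k < 2079) :
    inA (enc (gm (elN (gensA.getD j.val 0)) *ᵥ vec (codeAt k))) = inA (codeAt k) := by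
  have h := List.all_eq_true.mp (List.all_eq_true.mp inv_ok j.val (List.mem_range.mpr j.2)) k (List.mem_range.mpr hk)
  rw [beq_iff_eq] at h
  rw [gm_genK, ← h]
  show inA (encR (mk (_ *ᵥ rowV (rowN _)))) = _
  rw [← mulV_eq]
  rfl

theorem gm_iso {g : Γ} {v : Fin 6 → K} (h0 : v ≠ 0) (hv : Cfsg.hermForm 6 K 2 v v = 0) :
    gm g *ᵥ v ≠ 0 ∧ Cfsg.hermForm 6 K 2 (gm g *ᵥ v) (gm g *ᵥ v) = 0 := by
  refine ⟨fun h => h0 ?_, by rw [preserves (unitary g)]; exact hv⟩
  calc v = (gm g⁻¹ * gm g) *ᵥ v := by rw [← gm_mul, inv_mul_cancel, gm_one, one_mulVec]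
    _ = 0 := by rw [← mulVec_mulVec, h, mulVec_zero]

/-- The class is invariant. -/
theorem class_inv {g : Γ} (hg : g ∈ K0) : ∀ v : Fin 6 → K, v ≠ 0 → Cfsg.hermForm 6 K 2 v v = 0 →
    inA (enc (gm g *ᵥ v)) = inA (enc v) := by
  induction hg using Subgroup.closure_induction with
  | mem t ht =>
    obtain ⟨j, rfl⟩ := ht
    intro v h0 hv
    obtain ⟨k, hk, rfl⟩ := exists_entry h0 hv
    have hs := List.all_eq_true.mp split_ok k (List.mem_range.mpr hk)
    simp only [Bool.and_eq_true, Nat.blt_eq] at hs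
    rw [inv_class j hk, enc_vec hs.1.1.1.1]
  | one => intro v _ _; rw [gm_one, one_mulVec]
  | mul a b _ _ iha ihb =>
    intro v h0 hv
    rw [gm_mul, ← mulVec_mulVec, iha _ (gm_iso h0 hv).1 (gm_iso h0 hv).2, ihb v h0 hv]
  | inv a _ iha =>
    intro v h0 hv
    have h := iha (gm a⁻¹ *ᵥ v) (gm_iso h0 hv).1 (gm_iso h0 hv).2
    rw [mulVec_mulVec, ← gm_mul, mul_inv_cancel, gm_one, one_mulVec] at h
    exact h.symm

theorem vA_iso : vec vA ≠ 0 ∧ Cfsg.hermForm 6 K 2 (vec vA) (vec vA) = 0 := by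
  refine ⟨fun h => ?_, (isoB_iff _).mp (by decide +kernel)⟩
  have := congrFun h 0
  revert this
  decide +kernel

theorem vB_iso : vec vB ≠ 0 ∧ Cfsg.hermForm 6 K 2 (vec vB) (vec vB) = 0 := by
  refine ⟨fun h => ?_, (isoB_iff _).mp (by decide +kernel)⟩
  have := congrFun h 0
  revert this
  decide +kernel

/-- The two classes are different. -/
theorem not_fused {g : Γ} (hg : g ∈ K0) : gm g *ᵥ vec vA ≠ vec vB := by
  intro h
  have := class_inv hg _ vA_iso.1 vA_iso.2
  rw [h, enc_vec (by decide), enc_vec (by decide), roots_ok.2.2.1, roots_ok.2.2.2] at this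
  exact Bool.noConfusion this

/-- Orbit times stabiliser for either root. -/
theorem card_stab (b : Bool) :
    Nat.card (stab (vec (if b then vA else vB))) * (if b then 378 else 1701) = 9797760 := by
  classical
  set r := if b then vA else vB with hr
  have hr0 : vec r ≠ 0 ∧ Cfsg.hermForm 6 K 2 (vec r) (vec r) = 0 := by
    cases b
    exacts [vB_iso, vA_iso]
  have hrA : inA r = b := by
    cases b
    exacts [roots_ok.2.2.2, roots_ok.2.2.1]
  have hr4 : r < 4096 := by cases b <;> decide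
  let I := {k : Fin 2079 // decide (k.val < 378) = b}
  have hex : ∀ k : I, ∃ g : K0, gm (g : Γ) *ᵥ vec r = vec (codeAt k.1.val) := fun k => by
    obtain ⟨g, hg, e⟩ := reach k.1.val k.1.2
    refine ⟨⟨g, hg⟩, ?_⟩
    rw [← e, hr, show (if k.1.val < 378 then vA else vB) = (if b then vA else vB) by
      have hb := k.2; cases b <;> simp_all]
  choose gk hgk using hex
  let f : I → ↥K0 ⧸ (stab (vec r)).subgroupOf K0 := fun k => QuotientGroup.mk (gk k)
  have hf : Function.Bijective f := by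
    refine ⟨fun k l e => ?_, fun q => ?_⟩
    · have h1 := mem_stab.mp (mem_subgroupOf.mp (QuotientGroup.eq.mp e))
      have h2 : vec (codeAt k.1.val) = vec (codeAt l.1.val) := by
        have h3 := congrArg (fun w => gm ((gk k : K0) : Γ) *ᵥ w) h1.2
        simp only [Subgroup.coe_mul, InvMemClass.coe_inv, mulVec_mulVec, ← gm_mul, mul_inv_cancel_left] at h3
        rw [hgk, hgk] at h3
        exact h3.symm
      have hs : ∀ k : I, codeAt k.1.val < 4096 ∧ posAt (codeAt k.1.val) = k.1.val := fun k => by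
        have hs := List.all_eq_true.mp split_ok k.1.val (List.mem_range.mpr k.1.2)
        simp only [Bool.and_eq_true, Nat.blt_eq] at hs
        exact ⟨hs.1.1.1.1, Nat.eq_of_beq_eq_true hs.1.1.1.2⟩
      have h4 := congrArg enc h2
      rw [enc_vec (hs k).1, enc_vec (hs l).1] at h4
      exact Subtype.ext (Fin.ext (by rw [← (hs k).2, ← (hs l).2, h4]))
    · obtain ⟨g, rfl⟩ := QuotientGroup.mk_surjective q
      obtain ⟨hv0, hv⟩ := gm_iso (g := (g : Γ)) hr0.1 hr0.2
      obtain ⟨k, hk, ek⟩ := exists_entry hv0 hv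
      have hb : decide (k < 378) = b := by
        have hc := class_inv g.2 _ hr0.1 hr0.2
        rw [← ek, enc_vec hr4, hrA] at hc
        have hs := List.all_eq_true.mp split_ok k (List.mem_range.mpr hk)
        simp only [Bool.and_eq_true, Nat.blt_eq, beq_iff_eq] at hs
        rw [enc_vec hs.1.1.1.1, hs.1.1.2] at hc
        rw [← hc]
        rw [Bool.eq_iff_iff, decide_eq_true_eq, Nat.blt_eq]
      refine ⟨⟨⟨k, hk⟩, hb⟩, QuotientGroup.eq.mpr (mem_subgroupOf.mpr (mem_stab.mpr ⟨SetLike.coe_mem _, ?_⟩))⟩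
      rw [Subgroup.coe_mul, InvMemClass.coe_inv, gm_mul, ← mulVec_mulVec, ← ek, ← hgk ⟨⟨k, hk⟩, hb⟩,
        mulVec_mulVec, ← gm_mul, inv_mul_cancel, gm_one, one_mulVec]
  have h1 := ((stab (vec r)).subgroupOf K0).card_mul_index
  rw [Nat.card_congr (subgroupOfEquivOfLe (fun g hg => (mem_stab.mp hg).1)).toEquiv, card_K0] at h1
  rw [← h1]
  congr 1
  rw [Subgroup.index, ← Nat.card_congr (Equiv.ofBijective f hf), Nat.card_eq_fintype_card]
  cases b <;> decide +kernel

theorem card_stab_A : Nat.card (stab (vec vA)) = 25920 := by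
  have := card_stab true
  simp only [if_true] at this
  omega

theorem card_stab_B : Nat.card (stab (vec vB)) = 5760 := by
  have := card_stab false
  simp only [Bool.false_eq_true, if_false] at this
  omega

/-- A word gives an element. -/
theorem exists_of_wordOK {H : Subgroup Γ} {L : List ℕ} (hL : ∀ a ∈ L, ∃ g ∈ H, gm g = mat6 (ofN a)) {n : ℕ}
    {w : List (ℕ × ℕ)} (hw : wordOK L w n = true) : ∃ g ∈ H, gm g = mat6 (ofN n) := by
  have key : ∀ (w : List (ℕ × ℕ)) (p : ℕ), chainOK L p w = true → (∃ g ∈ H, gm g = mat6 (ofN p)) →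
      ∃ g ∈ H, gm g = mat6 (ofN (lastV p w)) := by
    intro w
    induction w with
    | nil => exact fun p _ hp => hp
    | cons s w ih =>
      obtain ⟨j, q⟩ := s
      intro p hc hp
      simp only [chainOK, Bool.and_eq_true, Nat.blt_eq] at hc
      obtain ⟨⟨hj, hm⟩, hc⟩ := hc
      obtain ⟨g, hg, e⟩ := hp
      obtain ⟨a, ha, e'⟩ := hL _ (List.getElem_mem hj)
      refine ih q hc ⟨a * g, mul_mem ha hg, ?_⟩
      rw [← of_beqM hm, mat6_mul, gm_mul, e, e', List.getD_eq_getElem _ _ hj]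
  simp only [wordOK, Bool.and_eq_true] at hw
  obtain ⟨g, hg, e⟩ := key w oneN hw.1 ⟨1, one_mem H, by rw [mat6_oneN, gm_one]⟩
  rw [Nat.eq_of_beq_eq_true hw.2] at e
  exact ⟨g, hg, e⟩

theorem exists_getD {L : List ℕ} {a : ℕ} (ha : a ∈ L) : ∃ i, i < L.length ∧ L.getD i 0 = a := by
  obtain ⟨i, hi, e⟩ := List.getElem_of_mem ha
  exact ⟨i, hi, by rw [List.getD_eq_getElem _ _ hi, e]⟩

/-- The subgroup generated by a list of codes. -/
noncomputable def genGroup (L : List ℕ) : Subgroup Γ := closure {g | ∃ n ∈ L, gm g = mat6 (ofN n)}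

/-- A list closed under the generators and containing the identity lists the group. -/
theorem mem_list {gens els : List ℕ} (h1 : oneN ∈ els)
    (hc : (gens.all fun a => els.all fun b => els.contains (encM (mat6 (mulM (ofN a) (ofN b)))) &&
      beqM (mulM (ofN a) (ofN b)) (ofN (encM (mat6 (mulM (ofN a) (ofN b)))))) = true)
    {g : Γ} (hg : g ∈ genGroup gens) : ∃ n ∈ els, gm g = mat6 (ofN n) := by
  let T : Set Γ := {a | ∀ x : Γ, (∃ n ∈ els, gm x = mat6 (ofN n)) → ∃ n ∈ els, gm (a * x) = mat6 (ofN n)}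
  have hT : g ∈ T := by
    have h1T : (1 : Γ) ∈ T := fun x hn => by rw [one_mul]; exact hn
    have hmT : ∀ a b, a ∈ T → b ∈ T → a * b ∈ T := fun a b ha hb x hn => by
      rw [mul_assoc]
      exact ha _ (hb x hn)
    let S : Subgroup Γ :=
      { carrier := T
        one_mem' := h1T
        mul_mem' := fun {a b} => hmT a b
        inv_mem' := fun {a} ha => inv_mem_of_mul h1T hmT ha }
    refine (Subgroup.closure_le S).mpr ?_ hg
    rintro a ⟨n, hn, ea⟩ x ⟨m, hm, ex⟩
    have hmem := List.all_eq_true.mp (List.all_eq_true.mp hc n hn) m hm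
    rw [Bool.and_eq_true, List.contains_iff_mem] at hmem
    exact ⟨_, hmem.1, (gm_mul a x).trans (by rw [ea, ex, ← mat6_mul]; exact of_beqM hmem.2)⟩
  have h := hT 1 ⟨oneN, h1, by rw [gm_one, mat6_oneN]⟩
  rwa [mul_one] at h

theorem code_inj {els : List ℕ} (hcode : (els.all fun n => Nat.beq (encM (mat6 (ofN n))) n) = true)
    {g : Γ} {a b : ℕ} (ha : a ∈ els) (hb : b ∈ els) (ea : gm g = mat6 (ofN a)) (eb : gm g = mat6 (ofN b)) : a = b := by
  rw [← Nat.eq_of_beq_eq_true (List.all_eq_true.mp hcode _ ha), ← Nat.eq_of_beq_eq_true (List.all_eq_true.mp hcode _ hb),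
    ← ea, eb]

theorem card_genGroup {gens els : List ℕ} {words : List (List (ℕ × ℕ))} (h1 : oneN ∈ els)
    (hcode : (els.all fun n => Nat.beq (encM (mat6 (ofN n))) n) = true) (hn : els.Nodup)
    (hc : (gens.all fun a => els.all fun b => els.contains (encM (mat6 (mulM (ofN a) (ofN b)))) &&
      beqM (mulM (ofN a) (ofN b)) (ofN (encM (mat6 (mulM (ofN a) (ofN b)))))) = true)
    (hgen : ∀ a ∈ gens, ∃ g ∈ genGroup gens, gm g = mat6 (ofN a))
    (hw : ((List.range els.length).all fun i => wordOK gens (words.getD i []) (els.getD i 0)) = true) :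
    Nat.card (genGroup gens) = els.length := by
  classical
  have hex : ∀ n : {n // n ∈ els}, ∃ g ∈ genGroup gens, gm g = mat6 (ofN n.1) := fun n => by
    obtain ⟨i, hi, e⟩ := exists_getD n.2
    rw [← e]
    exact exists_of_wordOK hgen (List.all_eq_true.mp hw i (List.mem_range.mpr hi))
  choose el hel hel' using hex
  have hb : Function.Bijective fun n : {n // n ∈ els} => (⟨el n, hel n⟩ : genGroup gens) := by
    refine ⟨fun a b h => Subtype.ext (code_inj hcode a.2 b.2 (hel' a)
      (by rw [show el a = el b from congrArg Subtype.val h]; exact hel' b)), fun g => ?_⟩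
    obtain ⟨n, hm, en⟩ := mem_list h1 hc g.2
    refine ⟨⟨_, hm⟩, Subtype.ext (gm_inj ?_)⟩
    show gm (el ⟨_, hm⟩) = gm (g : Γ)
    rw [hel', en]
  rw [← Nat.card_congr (Equiv.ofBijective _ hb), Nat.card_congr (List.Nodup.getEquiv els hn).symm, Nat.card_fin]

theorem genK_all : ∀ a ∈ gensA, ∃ g ∈ K0, gm g = mat6 (ofN a) := by
  intro a ha
  obtain ⟨i, hi, rfl⟩ := exists_getD ha
  exact ⟨_, genK ⟨i, okA.2 ▸ hi⟩, gm_genK ⟨i, okA.2 ▸ hi⟩⟩

theorem gen_stab {n v : ℕ} (h : ∃ g ∈ K0, gm g = mat6 (ofN n))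
    (hf : beqR (mulV (ofN n) (rowN v)) (rowN v) = true) {g : Γ} (hg : gm g = mat6 (ofN n)) : g ∈ stab (vec v) := by
  obtain ⟨g', hg', e⟩ := h
  refine mem_stab.mpr ⟨gm_inj (e.trans hg.symm) ▸ hg', ?_⟩
  rw [hg]
  show _ *ᵥ rowV (rowN v) = rowV (rowN v)
  rw [← mulV_eq]
  exact of_beqR hf

theorem eBgen_mem {a : ℕ} (ha : a ∈ eBGens) : ∃ g ∈ K0, gm g = mat6 (ofN a) := by
  obtain ⟨i, hi, rfl⟩ := exists_getD ha
  exact exists_of_wordOK genK_all (List.all_eq_true.mp genWords_ok.1 i (List.mem_range.mpr (genWords_ok.2.2.2.1 ▸ hi)))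

theorem pAgen_mem {a : ℕ} (ha : a ∈ pAGens) : ∃ g ∈ K0, gm g = mat6 (ofN a) := by
  obtain ⟨i, hi, rfl⟩ := exists_getD ha
  exact exists_of_wordOK genK_all (List.all_eq_true.mp genWords_ok.2.1 i (List.mem_range.mpr (genWords_ok.2.2.2.2 ▸ hi)))

/-- The elementary group of order sixteen. -/
noncomputable def E0 : Subgroup Γ := genGroup eBGens

/-- The two-subgroup of order sixty-four. -/
noncomputable def PA : Subgroup Γ := genGroup pAGens

theorem codesB : (eBEls.all fun n => Nat.beq (encM (mat6 (ofN n))) n) = true := by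
  refine List.all_eq_true.mpr fun n hn => List.all_eq_true.mp codes_ok n (List.mem_append_left _ hn)

theorem codesA : (pAEls.all fun n => Nat.beq (encM (mat6 (ofN n))) n) = true := by
  refine List.all_eq_true.mpr fun n hn => List.all_eq_true.mp codes_ok n (List.mem_append_right _ hn)

theorem oneB : oneN ∈ eBEls := List.mem_of_mem_head? (by rw [elWordsB_ok.2.2.2]; rfl)

theorem oneA : oneN ∈ pAEls := List.mem_of_mem_head? (by rw [elWordsA_ok.2.2.2]; rfl)

theorem card_E0 : Nat.card E0 = 16 :=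
  (card_genGroup oneB codesB elWordsB_ok.2.2.1 eB_closed.1
    (fun a ha => by obtain ⟨g, -, e⟩ := eBgen_mem ha; exact ⟨g, subset_closure ⟨a, ha, e⟩, e⟩)
    (by rw [elWordsB_ok.2.1]; exact elWordsB_ok.1)).trans elWordsB_ok.2.1

theorem card_PA : Nat.card PA = 64 :=
  (card_genGroup oneA codesA elWordsA_ok.2.2.1 pA_closed
    (fun a ha => by obtain ⟨g, -, e⟩ := pAgen_mem ha; exact ⟨g, subset_closure ⟨a, ha, e⟩, e⟩)
    (by rw [elWordsA_ok.2.1]; exact elWordsA_ok.1)).trans elWordsA_ok.2.1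

theorem E0_le : E0 ≤ stab (vec vB) := (closure_le _).mpr fun _ ⟨n, hn, e⟩ =>
  gen_stab (eBgen_mem hn) (List.all_eq_true.mp fix_ok.1 _ hn) e

theorem PA_le : PA ≤ stab (vec vA) := (closure_le _).mpr fun _ ⟨n, hn, e⟩ =>
  gen_stab (pAgen_mem hn) (List.all_eq_true.mp fix_ok.2 _ (List.mem_append_left _ hn)) e

theorem exists_sA : ∃ g ∈ stab (vec vA), gm g = mat6 (ofN sA) := by
  obtain ⟨g, hg, e⟩ := exists_of_wordOK genK_all genWords_ok.2.2.1
  exact ⟨g, gen_stab ⟨g, hg, e⟩ (List.all_eq_true.mp fix_ok.2 _ (List.mem_append_right _ (List.mem_singleton.mpr rfl))) e, e⟩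

/-- No normal two-subgroup in the stabiliser of the first root. -/
theorem stab_A_core (R : Subgroup Γ) (hR : R ≤ stab (vec vA))
    (hn : ∀ s ∈ stab (vec vA), ∀ r ∈ R, s * r * s⁻¹ ∈ R) (h2 : IsPGroup 2 R) : R = ⊥ := by
  haveI : Fact (Nat.Prime 2) := ⟨Nat.prime_two⟩
  set S := stab (vec vA)
  have hfac : (Nat.card S).factorization 2 = 6 := by
    rw [card_stab_A, show (25920 : ℕ) = 2 ^ 6 * 405 by norm_num, Nat.factorization_mul (by norm_num) (by norm_num),
      Finsupp.add_apply, Nat.Prime.factorization_pow Nat.prime_two, Finsupp.single_eq_same,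
      Nat.factorization_eq_zero_of_not_dvd (by norm_num)]
  let P : Sylow 2 S := Sylow.ofCard (PA.subgroupOf S)
    (by rw [Nat.card_congr (subgroupOfEquivOfLe PA_le).toEquiv, card_PA, hfac]; norm_num)
  obtain ⟨T, hT⟩ := (h2.comap_of_injective S.subtype S.subtype_injective).exists_le_sylow
  obtain ⟨a, ha⟩ := MulAction.exists_smul_eq S T P
  have hRP : R ≤ PA := by
    intro r hr
    have h1 : (⟨(a : Γ)⁻¹ * r * a, mul_mem (mul_mem (inv_mem a.2) (hR hr)) a.2⟩ : S) ∈ (T : Subgroup S) :=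
      hT (show (a : Γ)⁻¹ * r * a ∈ R by simpa using hn _ (inv_mem a.2) r hr)
    have h3 := Subgroup.mem_map_of_mem (MulAut.conj a).toMonoidHom h1
    have h4 : (T : Subgroup S).map (MulAut.conj a).toMonoidHom = PA.subgroupOf S :=
      (congrArg (fun X : Sylow 2 S => (X : Subgroup S)) ha)
    rw [h4, mem_subgroupOf] at h3
    simpa [mul_assoc] using h3
  rw [eq_bot_iff]
  intro r hr
  obtain ⟨s, hs, es⟩ := exists_sA
  obtain ⟨n, hm1, er⟩ := mem_list oneA pA_closed (hRP hr)
  obtain ⟨c, hm2, ec⟩ := mem_list oneA pA_closed (hRP (hn s hs r hr))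
  rw [Subgroup.mem_bot]
  by_contra hne
  have hd : n ∈ pAEls.drop 1 := by
    obtain ⟨t, ht⟩ : ∃ t, pAEls = oneN :: t := by
      have h := elWordsA_ok.2.2.2
      generalize pAEls = L at h
      match L with
      | [] => simp at h
      | x :: t => exact ⟨t, by simp only [List.head?_cons, Option.some.injEq] at h; rw [h]⟩
    rw [ht] at hm1 ⊢
    rcases List.mem_cons.mp hm1 with h' | h'
    · exfalso
      exact hne (gm_inj (by rw [er, h', mat6_oneN, gm_one]))
    · exact h'
  have hh := List.all_eq_true.mp pA_trivial _ hd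
  rw [Bool.not_eq_true'] at hh
  have e : gm (s * r * s⁻¹) = mat6 (mulM (mulM (ofN sA) (ofN n)) (tr (cjM (ofN sA)))) := by
    rw [gm_mul, gm_mul, mat6_inv es, es, er, mat6_mul, mat6_mul]
  rw [← e, ec, Nat.eq_of_beq_eq_true (List.all_eq_true.mp codesA _ hm2), ← Bool.not_eq_true, List.contains_iff_mem] at hh
  exact hh hm2

theorem dB_ne : ∀ i, dB i ≠ 0 := by decide +kernel

theorem dB_cube : ∀ i, dB i * (dB i) ^ 2 = 1 := fun i => cube_one _ (dB_ne i)

theorem dB_prod (p : Perm (Fin 6)) : ∏ i, dB i * dB (p.symm i) ^ 2 = 1 := by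
  rw [Finset.prod_mul_distrib, Equiv.prod_comp p.symm (fun i => dB i ^ 2), ← Finset.prod_mul_distrib]
  simp [dB_cube]

/-- The permutation elements fixing the second root. -/
noncomputable def permB : Perm (Fin 6) →* Γ :=
  MonoidHom.mk' (fun p => (exists_mono (dB_prod p) p).choose) fun p q => gm_inj (by
    rw [gm_mul, (exists_mono (dB_prod (p * q)) (p * q)).choose_spec, (exists_mono (dB_prod p) p).choose_spec,
      (exists_mono (dB_prod q) q).choose_spec, monoF_mul]
    congr 1
    funext i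
    have h := dB_cube (p.symm i)
    show dB i * dB (q.symm (p.symm i)) ^ 2 = dB i * dB (p.symm i) ^ 2 * (dB (p.symm i) * dB (q.symm (p.symm i)) ^ 2)
    calc dB i * dB (q.symm (p.symm i)) ^ 2 = dB i * (dB (p.symm i) * dB (p.symm i) ^ 2) * dB (q.symm (p.symm i)) ^ 2 := by
          rw [h, mul_one]
      _ = _ := by ring)

theorem gm_permB (p : Perm (Fin 6)) : gm (permB p) = monoF (fun i => dB i * dB (p.symm i) ^ 2) p :=
  (exists_mono (dB_prod p) p).choose_spec

theorem gm_permB_eq (p : Perm (Fin 6)) : gm (permB p) = mat6 (mB p) := by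
  rw [gm_permB]
  ext i k
  rw [mB, mat6_ofF, mulK_eq, cjK_eq]
  simp only [monoF]
  by_cases h : i = p k
  · rw [if_pos h, if_pos h, h, Equiv.symm_apply_apply]
  · rw [if_neg h, if_neg h]; rfl

theorem permB_injective : Function.Injective permB := fun p q e => by
  have h := congrArg gm e
  rw [gm_permB, gm_permB] at h
  exact (monoF_inj (fun i => mul_ne_zero (dB_ne i) (pow_ne_zero _ (dB_ne _))) h).2

theorem three_pow {p : Perm (Fin 6)} (hp : p.IsThreeCycle) : p ^ 3 = 1 := by
  rw [← hp.orderOf, pow_orderOf_eq_one]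

theorem permB_stab {p : Perm (Fin 6)} (hp : p ∈ alternatingGroup (Fin 6)) :
    permB p ∈ stab (vec vB) ∧ ∀ e ∈ E0, permB p * e * (permB p)⁻¹ ∈ E0 := by
  have key : ∀ q : Perm (Fin 6), q ^ 3 = 1 → permB q ∈ stab (vec vB) ∧ ∀ e ∈ E0, permB q * e * (permB q)⁻¹ ∈ E0 := by
    intro q h3
    refine ⟨mem_stab.mpr ⟨cube_mem half_K0 (⟨_, q, Subgroup.mem_top _, gm_permB q⟩ : permB q ∈ monoSub ⊤)
      (by rw [← map_pow, h3, map_one]), ?_⟩, ?_⟩
    · funext i
      rw [gm_permB]
      simp only [Matrix.mulVec, dotProduct, monoF]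
      rw [Finset.sum_eq_single (q.symm i)]
      · rw [if_pos (by simp)]
        show dB i * dB (q.symm i) ^ 2 * dB (q.symm i) = dB i
        rw [mul_assoc, mul_comm (_ ^ 2), dB_cube, mul_one]
      · intro k _ hk
        rw [if_neg (fun h => hk (by rw [h, Equiv.symm_apply_apply])), zero_mul]
      · simp
    · intro x hx
      induction hx using Subgroup.closure_induction with
      | mem t ht =>
        obtain ⟨a, ha, ea⟩ := ht
        have hc := List.all_eq_true.mp (mB_ok q h3) a ha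
        rw [Bool.and_eq_true, List.contains_iff_mem] at hc
        obtain ⟨i, hi, ei⟩ := exists_getD hc.1
        obtain ⟨g, hg, eg⟩ := exists_of_wordOK (H := E0)
          (fun b hb => by obtain ⟨g, -, eg⟩ := eBgen_mem hb; exact ⟨g, subset_closure ⟨b, hb, eg⟩, eg⟩)
          (List.all_eq_true.mp elWordsB_ok.1 i (List.mem_range.mpr (elWordsB_ok.2.1 ▸ hi)))
        rw [ei] at eg
        convert hg using 1
        refine gm_inj ?_
        rw [eg, ← of_beqM hc.2, gm_mul, gm_mul, ← map_inv, gm_permB_eq, gm_permB_eq, ea, mat6_mul, mat6_mul]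
      | one => simp [one_mem]
      | mul a b _ _ iha ihb =>
        rw [show permB q * (a * b) * (permB q)⁻¹ = (permB q * a * (permB q)⁻¹) * (permB q * b * (permB q)⁻¹) by group]
        exact mul_mem iha ihb
      | inv a _ iha =>
        rw [show permB q * a⁻¹ * (permB q)⁻¹ = (permB q * a * (permB q)⁻¹)⁻¹ by group]
        exact inv_mem iha
  have hle : alternatingGroup (Fin 6) ≤ (stab (vec vB) ⊓ Subgroup.normalizer (E0 : Set Γ)).comap permB := by
    rw [← Equiv.Perm.closure_three_cycles_eq_alternating, Subgroup.closure_le]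
    intro q hq
    have h3 := three_pow hq
    obtain ⟨h1, h2⟩ := key q h3
    refine ⟨h1, Subgroup.mem_normalizer_iff.mpr fun e => ⟨h2 e, fun he => ?_⟩⟩
    have := (key q⁻¹ (by rw [inv_pow, h3, inv_one])).2 _ he
    rw [map_inv] at this
    simpa [mul_assoc] using this
  obtain ⟨h1, h2⟩ := hle hp
  exact ⟨h1, fun e he => (Subgroup.mem_normalizer_iff.mp h2 e).mp he⟩

/-- The stabiliser of the second root: an extension of the elementary group of order sixteen by A₆, which
contains every normal two-subgroup in its elementary part. -/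
theorem stab_B_struct :
    (∀ a ∈ E0, a * a = 1) ∧ (∀ s ∈ stab (vec vB), ∀ e ∈ E0, s * e * s⁻¹ ∈ E0) ∧
    ∃ φ : ↥(stab (vec vB)) →* ↥(alternatingGroup (Fin 6)), Function.Surjective φ ∧ φ.ker = E0.subgroupOf (stab (vec vB)) := by
  classical
  set S := stab (vec vB)
  have hsq : ∀ a ∈ E0, a * a = 1 := by
    intro a ha
    obtain ⟨n, hm, en⟩ := mem_list oneB eB_closed.1 ha
    refine gm_inj ?_
    rw [gm_mul, en, ← mat6_mul, of_beqM (List.all_eq_true.mp eB_closed.2 _ hm), mat6_one, gm_one]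
  let A := (alternatingGroup (Fin 6)).map permB
  have hAS : A ≤ S := by rintro _ ⟨p, hp, rfl⟩; exact (permB_stab hp).1
  have hAN : A ≤ Subgroup.normalizer (E0 : Set Γ) := by
    rintro _ ⟨p, hp, rfl⟩
    refine Subgroup.mem_normalizer_iff.mpr fun e => ⟨(permB_stab hp).2 e, fun he => ?_⟩
    have := (permB_stab (inv_mem hp)).2 _ he
    rw [map_inv] at this
    simpa [mul_assoc] using this
  have hA6 : Nat.card ↥(alternatingGroup (Fin 6)) = 360 := by
    rw [nat_card_alternatingGroup, Nat.card_fin]; rfl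
  haveI hsimp : IsSimpleGroup ↥(alternatingGroup (Fin 6)) :=
    alternatingGroup.isSimpleGroup (by rw [Nat.card_fin]; norm_num)
  have hinf : ∀ p ∈ alternatingGroup (Fin 6), permB p ∈ E0 → p = 1 := by
    let f : ↥(alternatingGroup (Fin 6)) →* Γ := permB.comp (alternatingGroup (Fin 6)).subtype
    have hn : (E0.comap f).Normal := ⟨fun x hx g => by
      show permB (((g * x * g⁻¹ : ↥(alternatingGroup (Fin 6))) : Perm (Fin 6))) ∈ E0
      rw [Subgroup.coe_mul, Subgroup.coe_mul, InvMemClass.coe_inv, map_mul, map_mul, map_inv]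
      exact (permB_stab g.2).2 _ hx⟩
    intro p hp hpE
    rcases hn.eq_bot_or_eq_top with h | h
    · have hmem : (⟨p, hp⟩ : ↥(alternatingGroup (Fin 6))) ∈ E0.comap f := hpE
      rw [h, Subgroup.mem_bot] at hmem
      exact congrArg Subtype.val hmem
    · exfalso
      have hle : A ≤ E0 := by
        rintro _ ⟨q, hq, rfl⟩
        exact (h ▸ Subgroup.mem_top (⟨q, hq⟩ : ↥(alternatingGroup (Fin 6))) : _ ∈ E0.comap f)
      have := Subgroup.card_le_of_le hle
      rw [Subgroup.card_map_of_injective permB_injective, hA6, card_E0] at this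
      omega
  -- the product fills the stabiliser
  have hbij : Function.Bijective fun x : ↥E0 × ↥(alternatingGroup (Fin 6)) =>
      (⟨(x.1 : Γ) * permB x.2, mul_mem (E0_le x.1.2) (permB_stab x.2.2).1⟩ : ↥S) := by
    refine (Nat.bijective_iff_injective_and_card _).mpr ⟨fun x y e => ?_, ?_⟩
    · have e' : (x.1 : Γ) * permB x.2 = (y.1 : Γ) * permB y.2 := congrArg Subtype.val e
      have h1 : permB ((x.2 : Perm (Fin 6)) * (y.2 : Perm (Fin 6))⁻¹) = (x.1 : Γ)⁻¹ * y.1 := by
        rw [map_mul, map_inv, mul_inv_eq_iff_eq_mul, mul_assoc, ← e', inv_mul_cancel_left]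
      have h2 := hinf _ (mul_mem x.2.2 (inv_mem y.2.2)) (h1 ▸ mul_mem (inv_mem x.1.2) y.1.2)
      have h3 : x.2 = y.2 := Subtype.ext (mul_inv_eq_one.mp h2)
      rw [h3] at e'
      exact Prod.ext (Subtype.ext (mul_right_cancel e')) h3
    · rw [Nat.card_prod, card_E0, hA6, card_stab_B]
  have hnorm : ∀ s ∈ S, ∀ e ∈ E0, s * e * s⁻¹ ∈ E0 := by
    intro s hs e he
    obtain ⟨⟨x, p⟩, hx⟩ := hbij.2 ⟨s, hs⟩
    have hs' : s = (x : Γ) * permB p := (congrArg Subtype.val hx).symm
    have := mul_mem (mul_mem x.2 ((permB_stab p.2).2 e he)) (inv_mem x.2)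
    rw [hs']
    simpa [mul_assoc] using this
  haveI : (E0.subgroupOf S).Normal := ⟨fun e he s => hnorm s s.2 e he⟩
  let g : ↥(alternatingGroup (Fin 6)) →* ↥S ⧸ E0.subgroupOf S :=
    (QuotientGroup.mk' _).comp
      ((permB.comp (alternatingGroup (Fin 6)).subtype).codRestrict S fun p => (permB_stab p.2).1)
  have hg : Function.Bijective g := by
    refine ⟨(injective_iff_map_eq_one _).mpr fun p hp => Subtype.ext (hinf _ p.2 ?_), fun q => ?_⟩
    · exact Subgroup.mem_subgroupOf.mp ((QuotientGroup.eq_one_iff _).mp hp)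
    · obtain ⟨s, rfl⟩ := QuotientGroup.mk'_surjective _ q
      obtain ⟨⟨x, p⟩, rfl⟩ := hbij.2 s
      refine ⟨p, QuotientGroup.eq.mpr (Subgroup.mem_subgroupOf.mpr ?_)⟩
      have := (permB_stab (inv_mem p.2)).2 _ x.2
      rw [map_inv, inv_inv] at this
      show (permB p)⁻¹ * ((x : Γ) * permB p) ∈ E0
      rwa [← mul_assoc]
  refine ⟨hsq, hnorm, (MulEquiv.ofBijective g hg).symm.toMonoidHom.comp (QuotientGroup.mk' _),
    (MulEquiv.ofBijective g hg).symm.surjective.comp (QuotientGroup.mk'_surjective _), ?_⟩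
  ext s
  rw [MonoidHom.mem_ker, MonoidHom.comp_apply]
  exact (MulEquiv.map_eq_one_iff _).trans (QuotientGroup.eq_one_iff s)

end CfsgLib.Fi24Three.Orbit
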