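import Cfsg.Agent.Lib.Fi24Three.Invert
import Cfsg.Agent.Lib.Fi24Three.ModuleModel
import Cfsg.Agent.Lib.Fi24Three.Orbits

/-!
The pair of two cores in a group of large Fischer type: the second conjugate lies in the larger orbit of
isotropic vectors, and its stabiliser is an extension of the elementary group of order thirty-two by A₆.
-/

set_option autoImplicit false
set_option linter.unusedSectionVars false

namespace CfsgLib.Fi24Three

open CfsgLargeExtra CfsgLib.SUSixSub Matrix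

universe u

variable {G : Type u} [Group G] [Finite G] {z : G}

/-- All the data of the setting, from the hypothesis. -/
theorem exists_data {Q : Subgroup (Subgroup.centralizer ({z} : Set G))} [Q.Normal]
    (hF : Cfsg.IsOfLargeFischerTypeAt z Q) :
    ∃ (N M : Subgroup (Subgroup.centralizer ({z} : Set G))) (_ : N.Normal) (_ : M.Normal) (K : Type) (_ : Field K)
      (_ : Fintype K) (r : ↥(Subgroup.centralizer ({z} : Set G))) (_ : (Subgroup.zpowers
        (⟨z, Subgroup.mem_centralizer_singleton_iff.mpr rfl⟩ : ↥(Subgroup.centralizer ({z} : Set G)))).Normal),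
      Fintype.card K = 9 ∧ Nonempty (M ⧸ N.subgroupOf M ≃* Cfsg.PSU 4 K 3) ∧ M.index = 2 ∧
      Cfsg.IsExtraspecialCentralizerSetting z Q 6 ∧ ES (Q.map (Subgroup.centralizer ({z} : Set G)).subtype) z ∧
      ModuleModel.CoreData (Subgroup.zpowers
        (⟨z, Subgroup.mem_centralizer_singleton_iff.mpr rfl⟩ : ↥(Subgroup.centralizer ({z} : Set G)))) Q N M r := by
  classical
  obtain ⟨hset, N, M, hNn, hMn, hQN, hNM, hN, ⟨K, iF, iT, hK, ⟨e⟩⟩, hM⟩ := hF
  haveI := hNn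
  haveI := hMn
  obtain ⟨hfpf, hperf⟩ := core_facts hset hQN hNM hN hK e
  obtain ⟨hz, hFit, hE, hcard, hnwc⟩ := id hset
  obtain ⟨a₀, b₀, hab₀⟩ : ∃ a b : ↥Q, a * b ≠ b * a := by
    by_contra hall
    push Not at hall
    have htop : Subgroup.center ↥Q = ⊤ :=
      (Subgroup.eq_top_iff' _).mpr fun a => Subgroup.mem_center_iff.mpr fun c => hall c a
    have h4 := hE.2
    rw [htop, Subgroup.card_top, hcard] at h4
    norm_num at h4
  have hEG : Cfsg.IsExtraspecial 2 ↥(Q.map (Subgroup.centralizer ({z} : Set G)).subtype) := by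
    obtain ⟨w, hw⟩ := CfsgLib.ExtraTwo.ofExtraspecial hE
    let e' := Q.equivMapOfInjective (Subgroup.centralizer ({z} : Set G)).subtype
      (Subgroup.centralizer ({z} : Set G)).subtype_injective
    have hB : CfsgLib.ExtraTwo.Ext2 ↥(Q.map (Subgroup.centralizer ({z} : Set G)).subtype) (e' w) := by
      refine ⟨fun h => hw.ne (e'.map_eq_one_iff.mp h), fun b => ?_, fun b => ?_⟩
      · obtain ⟨a, rfl⟩ := e'.surjective b
        rw [e'.map_eq_one_iff, e'.injective.eq_iff, ← hw.center_iff, Subgroup.mem_center_iff, Subgroup.mem_center_iff]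
        refine ⟨fun h c => e'.injective (by rw [map_mul, map_mul]; exact h (e' c)), fun h d => ?_⟩
        obtain ⟨c, rfl⟩ := e'.surjective d
        rw [← map_mul, ← map_mul, h c]
      · obtain ⟨a, rfl⟩ := e'.surjective b
        rw [← map_mul, e'.map_eq_one_iff, e'.injective.eq_iff]
        exact hw.sq a
    exact CfsgLargeExtra.isExtraspecial_of_ext2 hB (a := e' a₀) (b := e' b₀)
      fun h => hab₀ (e'.injective (by rw [map_mul, map_mul]; exact h))
  obtain ⟨hes, -⟩ := ES.of_fitting z hz (C := Subgroup.centralizer ({z} : Set G)) rfl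
    (Q.map (Subgroup.centralizer ({z} : Set G)).subtype) (by rw [hFit]) hEG
  set zC : ↥(Subgroup.centralizer ({z} : Set G)) := ⟨z, Subgroup.mem_centralizer_singleton_iff.mpr rfl⟩ with hzC
  have hzcent : zC ∈ Subgroup.center ↥(Subgroup.centralizer ({z} : Set G)) :=
    Subgroup.mem_center_iff.mpr fun c => Subtype.ext (Subgroup.mem_centralizer_singleton_iff.mp c.2)
  have hcen : ∀ a ∈ Subgroup.zpowers zC, ∀ c, c * a = a * c := fun a ha c =>
    Subgroup.mem_center_iff.mp (Subgroup.zpowers_le.mpr hzcent ha) c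
  haveI hZn : (Subgroup.zpowers zC).Normal := ⟨fun a ha c => by rw [hcen a ha c, mul_inv_cancel_right]; exact ha⟩
  have memZ : ∀ {c : ↥(Subgroup.centralizer ({z} : Set G))}, c ∈ Subgroup.zpowers zC ↔
      (c : G) ∈ Subgroup.zpowers z := fun {c} => by
    constructor
    · rintro ⟨k, rfl⟩; exact ⟨k, rfl⟩
    · rintro ⟨k, hk⟩; exact ⟨k, Subtype.ext hk⟩
  have memQ : ∀ {a : ↥(Subgroup.centralizer ({z} : Set G))}, a ∈ Q →
      (a : G) ∈ Q.map (Subgroup.centralizer ({z} : Set G)).subtype := fun {a} ha => ⟨a, ha, rfl⟩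
  -- an element of order three of the top
  obtain ⟨r, hr⟩ := exists_prime_orderOf_dvd_card' (G := ↥N) (hp := ⟨Nat.prime_three⟩) 3 ⟨_, hN⟩
  have hr3 : (r : ↥(Subgroup.centralizer ({z} : Set G))) ^ 3 = 1 := by
    rw [← hr, ← Subgroup.coe_pow, pow_orderOf_eq_one]; rfl
  have hrQ : (r : ↥(Subgroup.centralizer ({z} : Set G))) ∉ Q := fun hm => by
    obtain ⟨k, hk⟩ := (IsPGroup.of_card hcard : IsPGroup 2 ↥Q) ⟨(r : ↥(Subgroup.centralizer ({z} : Set G))), hm⟩
    have h1 : orderOf (r : ↥(Subgroup.centralizer ({z} : Set G))) ∣ 2 ^ k :=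
      orderOf_dvd_of_pow_eq_one (congrArg Subtype.val hk)
    rw [Subgroup.orderOf_coe, hr] at h1
    have := Nat.le_of_dvd (by norm_num) (Nat.prime_three.dvd_of_dvd_pow h1)
    omega
  refine ⟨N, M, hNn, hMn, K, iF, iT, r, hZn, hK, ⟨e⟩, hM, hset, hes,
    ⟨?_, hcen, hcard, ?_, ?_, ?_, ?_, ?_, hQN, hNM, hN, r.2, hrQ, hr3, ?_, hperf⟩⟩
  · rw [Nat.card_zpowers, ← Subgroup.orderOf_coe]; exact hz
  · refine Subgroup.zpowers_le.mpr ?_
    obtain ⟨d, hd, e'⟩ := hes.mem
    exact (Subtype.ext (show (d : G) = z from e') : d = zC) ▸ hd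
  · intro a ha b hb
    rw [memZ]
    show (a : G) * b * (a : G)⁻¹ * (b : G)⁻¹ ∈ _
    rcases hes.conj_cases (memQ ha) (memQ hb) with f | f <;> rw [f]
    · rw [mul_inv_cancel]; exact one_mem _
    · rw [hes.comm (b : G) (memQ hb), mul_inv_cancel_right]; exact Subgroup.mem_zpowers z
  · intro a ha
    rw [memZ]
    show (a : G) * a ∈ _
    rcases hes.sq (a : G) (memQ ha) with f | f <;> rw [f]
    exacts [one_mem _, Subgroup.mem_zpowers z]
  · intro a ha hall
    rw [memZ]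
    rcases hes.cen (a : G) (by
      rintro _ ⟨b, hb, rfl⟩
      exact congrArg Subtype.val (hall b hb)) with f | f <;> rw [f]
    exacts [one_mem _, Subgroup.mem_zpowers z]
  · exact fun c h => mem_of_trivial hes fun q hq => memZ.mp (h q hq)
  · exact fun q hq h => memZ.mpr (hfpf _ r.2 hrQ q hq (memZ.mp h))

/-- The second conjugate is in the larger orbit, with the structure of its stabiliser. -/
theorem pair_core {Q N M : Subgroup (Subgroup.centralizer ({z} : Set G))} [Q.Normal] [N.Normal] [M.Normal]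
    {Z : Subgroup ↥(Subgroup.centralizer ({z} : Set G))} [Z.Normal]
    (hZ : Z = Subgroup.zpowers (⟨z, Subgroup.mem_centralizer_singleton_iff.mpr rfl⟩ :
      ↥(Subgroup.centralizer ({z} : Set G))))
    {r : ↥(Subgroup.centralizer ({z} : Set G))} (hes : ES (Q.map (Subgroup.centralizer ({z} : Set G)).subtype) z)
    (D : ModuleModel.CoreData Z Q N M r) (hM : M.index = 2)
    (η : ↥(Subgroup.centralizer ({z} : Set G)) → Fin 6 → G24.K) (f : ↥M →* Γ)
    (hη : ∀ a ∈ Q, ∀ b ∈ Q, η a = η b ↔ a⁻¹ * b ∈ Z)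
    (hsing : ∀ q ∈ Q, q * q = 1 → Cfsg.hermForm 6 G24.K 2 (η q) (η q) = 0)
    (hzero : ∀ q ∈ Q, q ∈ Z ↔ η q = 0) (hrange : f.range = K0) (hker : f.ker = Q.subgroupOf M)
    (hequiv : ∀ (m : ↥M) (q : ↥(Subgroup.centralizer ({z} : Set G))), q ∈ Q →
      η ((m : ↥(Subgroup.centralizer ({z} : Set G))) * q * (m : ↥(Subgroup.centralizer ({z} : Set G)))⁻¹) = gm (f m) *ᵥ η q)
    (g : G) (hxQ : g * z * g⁻¹ ∈ Q.map (Subgroup.centralizer ({z} : Set G)).subtype) (hxz : g * z * g⁻¹ ≠ z)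
    (X E : Subgroup ((Subgroup.centralizer ({z} : Set G)) ⧸ Q))
    (hX : X = ((Subgroup.centralizer ({z} : Set G) ⊓ Subgroup.centralizer ({g * z * g⁻¹} : Set G)).subgroupOf
      (Subgroup.centralizer ({z} : Set G))).map (QuotientGroup.mk' Q))
    (hE : E = ((((Q.map (Subgroup.centralizer ({z} : Set G)).subtype)).map (MulAut.conj g).toMonoidHom ⊓
      Subgroup.centralizer ({z} : Set G)).subgroupOf (Subgroup.centralizer ({z} : Set G))).map (QuotientGroup.mk' Q)) :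
    (∃ k ∈ K0, ∀ x : ↥(Subgroup.centralizer ({z} : Set G)), (x : G) = g * z * g⁻¹ →
      gm k *ᵥ Orbit.vec Orbit.vB = η x) ∧
    Cfsg.IsElementaryAbelian 2 ((Q.map (Subgroup.centralizer ({z} : Set G)).subtype) ⊓
      ((Q.map (Subgroup.centralizer ({z} : Set G)).subtype)).map (MulAut.conj g).toMonoidHom) ∧
    Nat.card ↥((Q.map (Subgroup.centralizer ({z} : Set G)).subtype) ⊓
      ((Q.map (Subgroup.centralizer ({z} : Set G)).subtype)).map (MulAut.conj g).toMonoidHom) = 2 ^ 7 ∧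
    E ≤ X ∧ (∀ x ∈ X, ∀ y ∈ E, x * y * x⁻¹ ∈ E) ∧ Cfsg.IsElementaryAbelian 2 E ∧ Nat.card E = 32 ∧
    ∃ _ : (E.subgroupOf X).Normal, Nonempty (↥X ⧸ E.subgroupOf X ≃* alternatingGroup (Fin 6)) := by
  classical
  set QG := Q.map (Subgroup.centralizer ({z} : Set G)).subtype with hQG
  set x := g * z * g⁻¹ with hxdef
  set Q' := QG.map (MulAut.conj g).toMonoidHom with hQ'
  have h' : ES Q' x := hes.cj g
  have hcardQG : Nat.card QG = 2 ^ 13 := by
    rw [hQG, Subgroup.card_map_of_injective (Subgroup.centralizer ({z} : Set G)).subtype_injective, D.cardQ]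
  have hcard' : Nat.card Q' = 2 ^ 13 :=
    (Subgroup.card_map_of_injective (MulAut.conj g).injective).trans hcardQG
  have hzQ' : z ∈ Q' := hes.symm_mem hxQ fun _ => hes.exists_pair (by rw [hcardQG]; norm_num) hxQ h'.zz
  have memC : ∀ {c : G}, c ∈ Subgroup.centralizer ({z} : Set G) ↔ c * z = z * c := fun {c} =>
    Subgroup.mem_centralizer_singleton_iff
  have memQG : ∀ {c : ↥(Subgroup.centralizer ({z} : Set G))}, (c : G) ∈ QG ↔ c ∈ Q := fun {c} =>
    ⟨fun ⟨d, hd, e⟩ => Subtype.ext (show (d : G) = c from e) ▸ hd, fun h => ⟨c, h, rfl⟩⟩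
  have hQC : QG ≤ Subgroup.centralizer ({z} : Set G) := fun q hq => memC.mpr (hes.comm q hq)
  have hxC : x ∈ Subgroup.centralizer ({z} : Set G) := hQC hxQ
  set xC : ↥(Subgroup.centralizer ({z} : Set G)) := ⟨x, hxC⟩ with hxCdef
  have hxCQ : xC ∈ Q := memQG.mp hxQ
  have hxx : xC * xC = 1 := Subtype.ext h'.zz
  have memZ : ∀ {c : ↥(Subgroup.centralizer ({z} : Set G))}, c ∈ Z → (c : G) = 1 ∨ (c : G) = z := by
    intro c hc
    rw [hZ] at hc
    obtain ⟨k, rfl⟩ := hc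
    rcases Int.even_or_odd k with ⟨j, rfl⟩ | ⟨j, rfl⟩
    · left
      show z ^ (j + j) = 1
      rw [← two_mul, _root_.zpow_mul, zpow_two, hes.zz, _root_.one_zpow]
    · right
      show z ^ (2 * j + 1) = z
      rw [_root_.zpow_add, _root_.zpow_mul, zpow_two, hes.zz, _root_.one_zpow, one_mul, zpow_one]
  -- the joint core
  set J := QG ⊓ Q' with hJ
  have hJcomm : ∀ a ∈ J, ∀ b ∈ J, a * b = b * a := by
    intro a ha b hb
    rcases h'.conj_cases ha.2 hb.2 with f1 | f1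
    · exact mul_inv_eq_iff_eq_mul.mp f1
    · exfalso
      rcases hes.conj_cases ha.1 hb.1 with f2 | f2 <;> rw [f1] at f2
      · exact h'.ne (mul_eq_left.mp f2)
      · exact hxz (mul_left_cancel f2)
  have hJsq : ∀ a ∈ J, a ^ 2 = 1 := by
    intro a ha
    rw [pow_two]
    rcases h'.sq a ha.2 with f1 | f1
    · exact f1
    · rcases hes.sq a ha.1 with f2 | f2 <;> rw [f1] at f2
      · exact absurd f2 h'.ne
      · exact absurd f2 hxz
  have hJcard : Nat.card J ≤ 2 ^ 7 := by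
    set J' := J.subgroupOf QG
    have h1 := hes.toExt.card_mul_card_centralizer (A := J') (show (⟨z, hes.mem⟩ : QG) ∈ J' from ⟨hes.mem, hzQ'⟩)
    have hle : J' ≤ Subgroup.centralizer (J' : Set QG) := fun d hd => Subgroup.mem_centralizer_iff.mpr fun e he =>
      Subtype.ext (hJcomm e he d hd)
    have h2 := Subgroup.card_le_of_le hle
    have h3 : Nat.card J' = Nat.card J := Nat.card_congr (Subgroup.subgroupOfEquivOfLe inf_le_left).toEquiv
    rw [h3] at h1 h2
    have h4 : Nat.card ↥QG * 2 = 2 ^ 14 := by rw [hcardQG]; norm_num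
    nlinarith
  -- the group `U`
  set U := Q' ⊓ Subgroup.centralizer ({z} : Set G) with hUdef
  have hUcard : Nat.card U = 2 ^ 12 := by
    have hzsub : (⟨x, h'.mem⟩ : ↥Q') ∈ Subgroup.closure ({⟨x, h'.mem⟩, ⟨z, hzQ'⟩} : Set ↥Q') :=
      Subgroup.subset_closure (by simp)
    let f0 : ↥Q' → Bool := fun q => decide ((q : G) * z = z * q)
    obtain ⟨q₀, hq₀, hne⟩ : ∃ q₀ ∈ Q', q₀ * z ≠ z * q₀ := by
      by_contra hall
      push Not at hall
      rcases h'.cen z fun q hq => (hall q hq).symm with f1 | f1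
      exacts [hes.ne f1, hxz f1.symm]
    have hU : U.subgroupOf Q' = (Subgroup.centralizer ({z} : Set G)).subgroupOf Q' := by
      rw [hUdef, inf_comm, Subgroup.inf_subgroupOf_right]
    have hidx : (U.subgroupOf Q').index = 2 := by
      rw [Subgroup.index_eq_two_iff]
      refine ⟨⟨q₀, hq₀⟩, fun b => ?_⟩
      rw [hU, Subgroup.mem_subgroupOf, Subgroup.mem_subgroupOf, memC, memC, Subgroup.coe_mul]
      by_cases hb : (b : G) * z = z * b
      · refine Or.inr ⟨hb, fun h1 => hne ?_⟩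
        have h2 : (show Commute ((b : G) * q₀) z from h1) = (show Commute ((b : G) * q₀) z from h1) := rfl
        have := (show Commute (b : G) z from hb).inv_left.mul_left (show Commute ((b : G) * q₀) z from h1)
        rw [inv_mul_cancel_left] at this
        exact this
      · exact Or.inl ⟨comm_mul_of_not h' b.2 hq₀ hzQ' hb hne, hb⟩
    have h1 := Subgroup.card_mul_index (U.subgroupOf Q')
    rw [hidx, Nat.card_congr (Subgroup.subgroupOfEquivOfLe (inf_le_left : U ≤ Q')).toEquiv, hcard', ← hUdef] at h1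
    omega
  have hJU : J = QG ⊓ U := by
    rw [hJ, hUdef, ← inf_assoc, inf_eq_left.mpr (inf_le_left.trans hQC)]
  -- the two images
  set UC := U.subgroupOf (Subgroup.centralizer ({z} : Set G)) with hUC
  have memE : ∀ e, e ∈ E ↔ ∃ u : ↥(Subgroup.centralizer ({z} : Set G)), (u : G) ∈ Q' ∧ QuotientGroup.mk' Q u = e := by
    intro e
    rw [hE]
    exact ⟨fun ⟨u, hu, he⟩ => ⟨u, hu.1, he⟩, fun ⟨u, hu, he⟩ => ⟨u, ⟨hu, u.2⟩, he⟩⟩
  have memX : ∀ e, e ∈ X ↔ ∃ c : ↥(Subgroup.centralizer ({z} : Set G)), (c : G) * x = x * c ∧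
      QuotientGroup.mk' Q c = e := by
    intro e
    rw [hX]
    exact ⟨fun ⟨c, hc, he⟩ => ⟨c, Subgroup.mem_centralizer_singleton_iff.mp hc.2, he⟩,
      fun ⟨c, hc, he⟩ => ⟨c, ⟨c.2, Subgroup.mem_centralizer_singleton_iff.mpr hc⟩, he⟩⟩
  have hEX : E ≤ X := fun e he => by
    obtain ⟨u, hu, rfl⟩ := (memE e).mp he
    exact (memX _).mpr ⟨u, h'.comm _ hu, rfl⟩
  have hnorm : ∀ a ∈ X, ∀ y ∈ E, a * y * a⁻¹ ∈ E := by
    intro a ha y hy
    obtain ⟨c, hc, rfl⟩ := (memX a).mp ha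
    obtain ⟨u, hu, rfl⟩ := (memE y).mp hy
    rw [← map_inv, ← map_mul, ← map_mul]
    exact (memE _).mpr ⟨c * u * c⁻¹, h'.nor _ hc _ hu, rfl⟩
  have hEsq : ∀ e ∈ E, e * e = 1 := by
    intro e he
    obtain ⟨u, hu, rfl⟩ := (memE e).mp he
    rw [← map_mul]
    refine (QuotientGroup.eq_one_iff _).mpr (memQG.mp ?_)
    rw [Subgroup.coe_mul]
    rcases h'.sq _ hu with f1 | f1 <;> rw [f1]
    exacts [one_mem _, hxQ]
  have hEel : Cfsg.IsElementaryAbelian 2 E := by
    refine ⟨⟨⟨fun a b => Subtype.ext ?_⟩⟩, fun e he => by rw [pow_two]; exact hEsq e he⟩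
    have h1 := inv_eq_of_mul_eq_one_right (hEsq _ (mul_mem a.2 b.2))
    rw [_root_.mul_inv_rev, inv_eq_of_mul_eq_one_right (hEsq _ a.2), inv_eq_of_mul_eq_one_right (hEsq _ b.2)] at h1
    exact h1.symm
  have hE32 : Nat.card E * Nat.card J = 2 ^ 12 := by
    rw [← hUcard]
    have hEmap : E = UC.map (QuotientGroup.mk' Q) := hE
    have h1 := Subgroup.card_mul_index (Q.subgroupOf UC)
    have h2 : Nat.card E = (Q.subgroupOf UC).index := by
      rw [hEmap, ← MonoidHom.restrict_range, ← Subgroup.index_ker, MonoidHom.ker_restrict, QuotientGroup.ker_mk']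
    have h3 : Nat.card (Q.subgroupOf UC) = Nat.card J := by
      refine Nat.card_congr
        { toFun := fun q => ⟨((q.1.1 : ↥(Subgroup.centralizer ({z} : Set G))) : G),
            hJU ▸ ⟨memQG.mpr q.2, q.1.2⟩⟩
          invFun := fun q => ⟨⟨⟨(q : G), hQC q.2.1⟩, (hJU ▸ q.2 : (q : G) ∈ QG ⊓ U).2⟩, memQG.mp q.2.1⟩
          left_inv := fun _ => rfl
          right_inv := fun _ => rfl }
    have h4 : Nat.card UC = Nat.card U := Nat.card_congr (Subgroup.subgroupOfEquivOfLe inf_le_right).toEquiv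
    rw [h2, ← h3, mul_comm, h1, h4]
  -- the representation of `M/Q`
  set MQ := M.map (QuotientGroup.mk' Q) with hMQ
  let π : ↥M →* ↥MQ := (QuotientGroup.mk' Q).subgroupMap M
  have hπ : Function.Surjective π := (QuotientGroup.mk' Q).subgroupMap_surjective M
  have hπker : π.ker = Q.subgroupOf M := by
    ext m
    rw [MonoidHom.mem_ker, Subgroup.mem_subgroupOf, ← QuotientGroup.eq_one_iff]
    exact ⟨fun h => congrArg Subtype.val h, fun h => Subtype.ext h⟩
  let θ : ↥MQ →* Γ := π.liftOfSurjective hπ ⟨f, by rw [hπker, hker]⟩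
  have hθ : ∀ m : ↥M, θ (π m) = f m := fun m => MonoidHom.liftOfRightInverse_comp_apply _ _ _ _ m
  have hθinj : Function.Injective θ := (injective_iff_map_eq_one _).mpr fun a ha => by
    obtain ⟨m, rfl⟩ := hπ a
    rw [hθ, ← MonoidHom.mem_ker, hker, ← hπker, MonoidHom.mem_ker] at ha
    exact ha
  set v := η xC with hv
  have hv0 : v ≠ 0 := fun h0 => by
    rcases memZ ((hzero _ hxCQ).mpr h0) with f1 | f1
    exacts [h'.ne f1, hxz f1]
  have hviso : Cfsg.hermForm 6 G24.K 2 v v = 0 := hsing _ hxCQ hxx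
  obtain ⟨q₀, hq₀, hq₀x⟩ : ∃ q₀ : ↥(Subgroup.centralizer ({z} : Set G)), q₀ ∈ Q ∧
      (q₀ : G) * x * (q₀ : G)⁻¹ = x * z := by
    by_contra hall
    push Not at hall
    rcases hes.cen x (fun q hq => by
      obtain ⟨q', hq', rfl⟩ := id hq
      exact (mul_inv_eq_iff_eq_mul.mp ((hes.conj_cases hq hxQ).resolve_right (hall q' hq'))).symm) with f1 | f1
    exacts [h'.ne f1, hxz f1]
  have hfix : ∀ m : ↥M, (π m : (Subgroup.centralizer ({z} : Set G)) ⧸ Q) ∈ X ↔ gm (f m) *ᵥ v = v := by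
    intro m
    rw [hv, ← hequiv m xC hxCQ, hη _ (Subgroup.Normal.conj_mem inferInstance _ hxCQ _) _ hxCQ]
    constructor
    · intro hm
      obtain ⟨c, hc, e⟩ := (memX _).mp hm
      have hq : c⁻¹ * (m : ↥(Subgroup.centralizer ({z} : Set G))) ∈ Q := QuotientGroup.eq.mp e
      set q := c⁻¹ * (m : ↥(Subgroup.centralizer ({z} : Set G))) with hqdef
      have hm' : (m : ↥(Subgroup.centralizer ({z} : Set G))) = c * q := by rw [hqdef, mul_inv_cancel_left]
      rw [hm']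
      have hcx : c * xC * c⁻¹ = xC := Subtype.ext (mul_inv_eq_iff_eq_mul.mpr hc)
      have h1 := D.comm q hq xC hxCQ
      have h2 := inv_mem h1
      have h3 := Subgroup.Normal.conj_mem (inferInstance : Z.Normal) _ h2 (c * xC⁻¹)
      convert h3 using 1
      calc (c * q * xC * (c * q)⁻¹)⁻¹ * xC = c * (q * xC * q⁻¹)⁻¹ * (c⁻¹ * xC * c) * c⁻¹ := by group
        _ = c * (q * xC * q⁻¹)⁻¹ * xC * c⁻¹ := by
          rw [show c⁻¹ * xC * c = c⁻¹ * (c * xC * c⁻¹) * c by rw [hcx]]; group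
        _ = _ := by
          have hxinv : xC⁻¹ = xC := inv_eq_of_mul_eq_one_right hxx
          have hzc := D.central _ h2 xC
          calc c * (q * xC * q⁻¹)⁻¹ * xC * c⁻¹ = c * ((q * xC * q⁻¹)⁻¹ * xC) * c⁻¹ := by group
            _ = c * xC⁻¹ * (q * xC * q⁻¹ * xC⁻¹)⁻¹ * (c * xC⁻¹)⁻¹ := by
              rw [show c * xC⁻¹ * (q * xC * q⁻¹ * xC⁻¹)⁻¹ * (c * xC⁻¹)⁻¹ =
                c * (xC⁻¹ * (xC * (q * xC * q⁻¹)⁻¹) * xC) * c⁻¹ by group, inv_mul_cancel_left]
    · intro hm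
      have hm2 := inv_mem hm
      rw [_root_.mul_inv_rev, inv_inv] at hm2
      rcases memZ hm2 with f1 | f1
      · refine (memX _).mpr ⟨m, ?_, rfl⟩
        refine mul_inv_eq_iff_eq_mul.mp ?_
        have f2 : x⁻¹ * ((m : ↥(Subgroup.centralizer ({z} : Set G))) * x *
            ((m : ↥(Subgroup.centralizer ({z} : Set G))) : G)⁻¹) = 1 := f1
        exact (inv_mul_eq_one.mp f2).symm
      · refine (memX _).mpr ⟨q₀ * m, ?_, ?_⟩
        · refine mul_inv_eq_iff_eq_mul.mp ?_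
          have f2 : x⁻¹ * ((m : ↥(Subgroup.centralizer ({z} : Set G))) * x *
              ((m : ↥(Subgroup.centralizer ({z} : Set G))) : G)⁻¹) = z := f1
          rw [inv_mul_eq_iff_eq_mul] at f2
          rw [Subgroup.coe_mul, show (q₀ : G) * (m : ↥(Subgroup.centralizer ({z} : Set G))) * x *
              ((q₀ : G) * (m : ↥(Subgroup.centralizer ({z} : Set G))))⁻¹ =
              (q₀ : G) * ((m : ↥(Subgroup.centralizer ({z} : Set G))) * x *
              ((m : ↥(Subgroup.centralizer ({z} : Set G))) : G)⁻¹) * (q₀ : G)⁻¹ by group, f2,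
            show (q₀ : G) * (x * z) * (q₀ : G)⁻¹ = ((q₀ : G) * x * (q₀ : G)⁻¹) * ((q₀ : G) * z * (q₀ : G)⁻¹) by group,
            hq₀x, mul_inv_eq_iff_eq_mul.mpr (hes.comm _ (memQG.mpr hq₀)), mul_assoc, hes.zz, mul_one]
        · rw [map_mul, show QuotientGroup.mk' Q q₀ = 1 from (QuotientGroup.eq_one_iff _).mpr hq₀, one_mul]; rfl
  set P := X.subgroupOf MQ with hP
  have hPstab : P.map θ = Orbit.stab v := by
    ext t
    constructor
    · rintro ⟨a, ha, rfl⟩
      obtain ⟨m, rfl⟩ := hπ a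
      rw [hθ]
      exact Orbit.mem_stab.mpr ⟨hrange ▸ ⟨m, rfl⟩, (hfix m).mp ha⟩
    · intro ht
      obtain ⟨h1, h2⟩ := Orbit.mem_stab.mp ht
      obtain ⟨m, rfl⟩ : t ∈ f.range := hrange.symm ▸ h1
      exact ⟨π m, (hfix m).mpr h2, hθ m⟩
  -- the normal two-subgroup
  set R := (E.subgroupOf MQ).map θ with hR
  have hRle : R ≤ Orbit.stab v := hPstab ▸ Subgroup.map_mono (fun a ha => hEX ha)
  have hRn : ∀ s ∈ Orbit.stab v, ∀ a ∈ R, s * a * s⁻¹ ∈ R := by
    rw [← hPstab]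
    rintro _ ⟨s, hs, rfl⟩ _ ⟨a, ha, rfl⟩
    exact ⟨s * a * s⁻¹, hnorm _ hs _ ha, by simp⟩
  have hR2 : ∀ a ∈ R, a * a = 1 := by
    rintro _ ⟨a, ha, rfl⟩
    rw [← map_mul, show a * a = 1 from Subtype.ext (hEsq _ ha), map_one]
  haveI hMQn : MQ.Normal := Subgroup.Normal.map inferInstance _ (QuotientGroup.mk'_surjective Q)
  have hMQ2 : MQ.index = 2 := by
    rw [hMQ, Subgroup.index_map_eq _ (QuotientGroup.mk'_surjective Q) (by
      rw [QuotientGroup.ker_mk']; exact D.QN.trans D.NM), hM]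
  have hEcard : Nat.card E ≤ 2 * Nat.card R ∧ (Nat.card E = Nat.card R → E ≤ MQ) := by
    have hRcard : Nat.card R = Nat.card (E.subgroupOf MQ) := Subgroup.card_map_of_injective hθinj
    have h1 := Subgroup.card_mul_index (MQ.subgroupOf E)
    have h2 : Nat.card (MQ.subgroupOf E) = Nat.card (E.subgroupOf MQ) := Nat.card_congr
      ⟨fun a => ⟨⟨a.1.1, a.2⟩, a.1.2⟩, fun a => ⟨⟨a.1.1, a.2⟩, a.1.2⟩, fun _ => rfl, fun _ => rfl⟩
    have h3 : (MQ.subgroupOf E).index ∣ 2 := hMQ2 ▸ Subgroup.relIndex_dvd_index_of_normal MQ E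
    rw [h2, ← hRcard] at h1
    refine ⟨?_, fun h4 => ?_⟩
    · rw [← h1, mul_comm]
      exact Nat.mul_le_mul_right _ (Nat.le_of_dvd (by norm_num) h3)
    · intro e he
      have h5 : (MQ.subgroupOf E).index = 1 := by
        rw [h4] at h1
        exact Nat.eq_of_mul_eq_mul_left Nat.card_pos (h1.trans (mul_one _).symm)
      have := Subgroup.index_eq_one.mp h5
      exact Subgroup.subgroupOf_eq_top.mp this he
  have hR16 : 16 ≤ Nat.card R := by nlinarith [hEcard.1]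
  have hR2p : IsPGroup 2 ↥R := fun a => ⟨1, Subtype.ext (by simp [pow_two, hR2 _ a.2])⟩
  -- conjugating to a root
  have hconj : ∀ k ∈ K0, ∀ w, gm k *ᵥ w = v →
      (∀ s ∈ Orbit.stab w, k * s * k⁻¹ ∈ Orbit.stab v) ∧ (∀ s ∈ Orbit.stab v, k⁻¹ * s * k ∈ Orbit.stab w) := by
    intro k hk w e
    have e' : gm k⁻¹ *ᵥ v = w := by rw [← e, mulVec_mulVec, ← gm_mul, inv_mul_cancel, gm_one, one_mulVec]
    refine ⟨fun s hs => ?_, fun s hs => ?_⟩ <;> obtain ⟨h1, h2⟩ := Orbit.mem_stab.mp hs <;>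
      refine Orbit.mem_stab.mpr ⟨?_, ?_⟩
    · exact mul_mem (mul_mem hk h1) (inv_mem hk)
    · rw [gm_mul, gm_mul, ← mulVec_mulVec, ← mulVec_mulVec, e', h2, e]
    · exact mul_mem (mul_mem (inv_mem hk) h1) hk
    · rw [gm_mul, gm_mul, ← mulVec_mulVec, ← mulVec_mulVec, e, h2, e']
  obtain ⟨k, hk, ek⟩ : ∃ k ∈ K0, gm k *ᵥ Orbit.vec Orbit.vB = v := by
    rcases Orbit.orbit_cases hv0 hviso with ⟨k, hk, e⟩ | h1
    swap
    · exact h1
    exfalso
    obtain ⟨hc1, hc2⟩ := hconj k hk _ e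
    have hbot : R.map (MulAut.conj k⁻¹).toMonoidHom = ⊥ := by
      refine Orbit.stab_A_core _ ?_ ?_ (hR2p.map _)
      · rintro _ ⟨a, ha, rfl⟩
        simpa using hc2 a (hRle ha)
      · rintro s hs _ ⟨a, ha, rfl⟩
        refine ⟨(k * s * k⁻¹) * a * (k * s * k⁻¹)⁻¹, hRn _ (hc1 s hs) a ha, ?_⟩
        simp [mul_assoc]
    rw [Subgroup.map_eq_bot_iff_of_injective _ (MulAut.conj k⁻¹).injective] at hbot
    rw [hbot, Subgroup.card_bot] at hR16
    norm_num at hR16
  obtain ⟨hc1, hc2⟩ := hconj k hk _ ek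
  obtain ⟨hE0sq, hE0n, φ, hφ, hφker⟩ := Orbit.stab_B_struct
  -- the map of the stabiliser onto the alternating group
  let ψ : ↥P →* ↥(Orbit.stab (Orbit.vec Orbit.vB)) := MonoidHom.codRestrict
    (((MulAut.conj k⁻¹).toMonoidHom.comp θ).comp P.subtype) (Orbit.stab (Orbit.vec Orbit.vB)) fun a => by
      simpa using hc2 _ (hPstab ▸ Subgroup.mem_map_of_mem θ a.2)
  have hψ : Function.Surjective ψ := fun s => by
    obtain ⟨a, ha, e⟩ : k * (s : Γ) * k⁻¹ ∈ P.map θ := hPstab.symm ▸ hc1 _ s.2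
    exact ⟨⟨a, ha⟩, Subtype.ext (by simp [ψ, e, mul_assoc])⟩
  set R0 := (E.subgroupOf MQ).subgroupOf P with hR0
  haveI hR0n : R0.Normal := ⟨fun a ha s => hnorm _ s.2 _ ha⟩
  have himg : (R0.map ψ).map φ = ⊥ := by
    haveI : IsSimpleGroup ↥(alternatingGroup (Fin 6)) :=
      alternatingGroup.isSimpleGroup (by rw [Nat.card_fin]; norm_num)
    refine ((Subgroup.Normal.map (Subgroup.Normal.map hR0n ψ hψ) φ hφ).eq_bot_or_eq_top).resolve_right fun h1 => ?_
    have h2 : ∀ a : ↥(alternatingGroup (Fin 6)), a * a = 1 := by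
      intro a
      obtain ⟨_, ⟨b, hb, rfl⟩, rfl⟩ : a ∈ (R0.map ψ).map φ := h1 ▸ Subgroup.mem_top a
      have hb2 : b * b = 1 := Subtype.ext (Subtype.ext (hEsq _ hb))
      rw [← map_mul, ← map_mul, hb2, map_one, map_one]
    obtain ⟨a, ha⟩ := exists_prime_orderOf_dvd_card' (G := ↥(alternatingGroup (Fin 6))) (hp := ⟨Nat.prime_three⟩) 3
      (by rw [nat_card_alternatingGroup, Nat.card_fin]; decide)
    have h3 := orderOf_dvd_of_pow_eq_one ((pow_two a).trans (h2 a))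
    rw [ha] at h3
    norm_num at h3
  have hR0le : R0 ≤ (φ.comp ψ).ker := fun a ha =>
    MonoidHom.mem_ker.mpr (Subgroup.mem_bot.mp (himg ▸ Subgroup.mem_map_of_mem φ (Subgroup.mem_map_of_mem ψ ha)))
  have hψinj : Function.Injective ψ := fun a b e => by
    have h1 : k⁻¹ * θ (a : ↥MQ) * k⁻¹⁻¹ = k⁻¹ * θ (b : ↥MQ) * k⁻¹⁻¹ := congrArg Subtype.val e
    exact Subtype.ext (hθinj (mul_left_cancel (mul_right_cancel h1)))
  have hkerψ : Nat.card (φ.comp ψ).ker = 16 := by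
    have h1 : Nat.card ((φ.comp ψ).ker.map ψ) = 16 := by
      rw [← MonoidHom.comap_ker, Subgroup.map_comap_eq_self_of_surjective hψ, hφker,
        Nat.card_congr (Subgroup.subgroupOfEquivOfLe Orbit.E0_le).toEquiv, Orbit.card_E0]
    rwa [Subgroup.card_map_of_injective hψinj] at h1
  have hR0card : Nat.card R0 = Nat.card R := by
    rw [hR, Subgroup.card_map_of_injective hθinj]
    exact Nat.card_congr (Subgroup.subgroupOfEquivOfLe (H := E.subgroupOf MQ) (K := P) fun a ha => hEX ha).toEquiv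
  have hR0eq : R0 = (φ.comp ψ).ker := Subgroup.eq_of_le_of_card_ge hR0le (by rw [hkerψ, hR0card]; exact hR16)
  have hRcard : Nat.card R = 16 := by rw [← hR0card, hR0eq, hkerψ]
  have hE32' : Nat.card E = 32 := by
    have h1 : 32 ≤ Nat.card E := by nlinarith
    have := hEcard.1
    omega
  have hJ7 : Nat.card J = 2 ^ 7 := by
    rw [hE32'] at hE32
    omega
  obtain ⟨e₀, he₀, he₀M⟩ : ∃ e₀ ∈ E, e₀ ∉ MQ := by
    by_contra hall
    push Not at hall
    have h1 : Nat.card (E.subgroupOf MQ) = 32 := by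
      rw [Nat.card_congr (Subgroup.subgroupOfEquivOfLe hall).toEquiv, hE32']
    rw [hR, Subgroup.card_map_of_injective hθinj, h1] at hRcard
    norm_num at hRcard
  haveI hEn : (E.subgroupOf X).Normal := ⟨fun a ha s => hnorm _ s.2 _ ha⟩
  let j : ↥P →* ↥X ⧸ E.subgroupOf X := (QuotientGroup.mk' _).comp
    { toFun := fun a => ⟨((a : ↥MQ) : (Subgroup.centralizer ({z} : Set G)) ⧸ Q), a.2⟩
      map_one' := rfl
      map_mul' := fun _ _ => rfl }
  have hj : Function.Surjective j := by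
    intro y
    obtain ⟨a, rfl⟩ := QuotientGroup.mk'_surjective _ y
    by_cases ha : (a : (Subgroup.centralizer ({z} : Set G)) ⧸ Q) ∈ MQ
    · exact ⟨⟨⟨a, ha⟩, a.2⟩, rfl⟩
    · have hae : (a : (Subgroup.centralizer ({z} : Set G)) ⧸ Q) * e₀ ∈ MQ :=
        (Subgroup.mul_mem_iff_of_index_two hMQ2).mpr ⟨fun h1 => absurd h1 ha, fun h1 => absurd h1 he₀M⟩
      refine ⟨⟨⟨_, hae⟩, mul_mem a.2 (hEX he₀)⟩, QuotientGroup.eq.mpr (Subgroup.mem_subgroupOf.mpr ?_)⟩
      show ((a : (Subgroup.centralizer ({z} : Set G)) ⧸ Q) * e₀)⁻¹ * a ∈ E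
      rw [_root_.mul_inv_rev, inv_mul_cancel_right]
      exact inv_mem he₀
  have hjker : j.ker = R0 := by
    ext a
    exact (QuotientGroup.eq_one_iff _).trans Iff.rfl
  refine ⟨⟨k, hk, fun y hy => ?_⟩, ⟨⟨⟨fun a b => Subtype.ext (hJcomm _ a.2 _ b.2)⟩⟩, hJsq⟩, hJ7, hEX, hnorm, hEel,
    hE32', hEn, ⟨(QuotientGroup.quotientKerEquivOfSurjective j hj).symm.trans
      ((QuotientGroup.quotientMulEquivOfEq (hjker.trans hR0eq)).trans
        (QuotientGroup.quotientKerEquivOfSurjective (φ.comp ψ) (hφ.comp hψ)))⟩⟩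
  rw [show y = xC from Subtype.ext hy]
  exact ek

/-- The pair fact. -/
theorem pair_fact {Q : Subgroup (Subgroup.centralizer ({z} : Set G))} [Q.Normal]
    (hF : Cfsg.IsOfLargeFischerTypeAt z Q) (s : G)
    (hsQ : ∃ hsc : s ∈ Subgroup.centralizer ({z} : Set G),
      (⟨s, hsc⟩ : Subgroup.centralizer ({z} : Set G)) ∈ Q)
    (hs1 : s ≠ z) (g : G) (hg : g * z * g⁻¹ = s)
    (X E : Subgroup ((Subgroup.centralizer ({z} : Set G)) ⧸ Q))
    (hX : X = ((Subgroup.centralizer ({z} : Set G) ⊓ Subgroup.centralizer ({s} : Set G)).subgroupOf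
      (Subgroup.centralizer ({z} : Set G))).map (QuotientGroup.mk' Q))
    (hE : E = ((((Q.map (Subgroup.centralizer ({z} : Set G)).subtype)).map (MulAut.conj g).toMonoidHom ⊓
      Subgroup.centralizer ({z} : Set G)).subgroupOf (Subgroup.centralizer ({z} : Set G))).map (QuotientGroup.mk' Q)) :
    Cfsg.IsElementaryAbelian 2 ((Q.map (Subgroup.centralizer ({z} : Set G)).subtype) ⊓
      ((Q.map (Subgroup.centralizer ({z} : Set G)).subtype)).map (MulAut.conj g).toMonoidHom) ∧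
    Nat.card ↥((Q.map (Subgroup.centralizer ({z} : Set G)).subtype) ⊓
      ((Q.map (Subgroup.centralizer ({z} : Set G)).subtype)).map (MulAut.conj g).toMonoidHom) = 2 ^ 7 ∧
    E ≤ X ∧ (∀ x ∈ X, ∀ y ∈ E, x * y * x⁻¹ ∈ E) ∧ Cfsg.IsElementaryAbelian 2 E ∧ Nat.card E = 32 ∧
    ∃ _ : (E.subgroupOf X).Normal, Nonempty (↥X ⧸ E.subgroupOf X ≃* alternatingGroup (Fin 6)) := by
  obtain ⟨N, M, hNn, hMn, K, iF, iT, r, hZn, hK, ⟨e⟩, hM, -, hes, D⟩ := exists_data hF
  obtain ⟨η, f, hη, hsing, hzero, hrange, hker, hequiv⟩ := ModuleModel.exists_model D hK e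
  obtain ⟨hc, hq⟩ := hsQ
  subst hg
  exact (pair_core rfl hes D hM η f hη hsing hzero hrange hker hequiv g ⟨_, hq, rfl⟩ hs1 X E hX hE).2

end CfsgLib.Fi24Three
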