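import Cfsg.Agent.Lib.Fi24Three.Adapter
import Cfsg.Agent.Lib.Fi24Three.PairFact

/-!
The facts on a group of large Fischer type assembled from the hypothesis.
-/

set_option autoImplicit false
set_option linter.unusedSectionVars false

namespace CfsgLib.Fi24Three

universe u

variable {G : Type u} [Group G] [Finite G] {z : G}

/-- The facts used by the local statements. -/
theorem facts_of {Q N M : Subgroup (Subgroup.centralizer ({z} : Set G))} [Q.Normal] [N.Normal] [M.Normal]
    (hF : Cfsg.IsOfLargeFischerTypeAt z Q) (hQN : Q ≤ N) (hNM : N ≤ M) (hN : Nat.card N = 3 * Nat.card Q)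
    {K : Type} [Field K] [Fintype K] (hK : Fintype.card K = 9) (e : M ⧸ N.subgroupOf M ≃* Cfsg.PSU 4 K 3) :
    Facts z Q N M := by
  obtain ⟨N', M', hN', hM', K', iF, iT, r', hZ', hK', he', hM2', hset, hes, D⟩ := exists_data hF
  obtain ⟨hfpf, hperf⟩ := core_facts hset hQN hNM hN hK e
  have hcard : Nat.card ↥(Q.map (Subgroup.centralizer ({z} : Set G)).subtype) = 2 ^ 13 := by
    rw [Subgroup.card_map_of_injective (Subgroup.centralizer ({z} : Set G)).subtype_injective, hset.2.2.2.1]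
  have hnwc : ∃ g : G, g * z * g⁻¹ ∈ Q.map (Subgroup.centralizer ({z} : Set G)).subtype ∧ g * z * g⁻¹ ≠ z := by
    obtain ⟨g, ⟨hq, hm⟩, hne⟩ := hset.2.2.2.2
    exact ⟨g, ⟨_, hm, rfl⟩, hne⟩
  exact ⟨hfpf, hperf, invert_fact rfl rfl hes hcard hnwc hQN hN hfpf,
    fun s hsQ _ hs1 g hg X E hX hE => pair_fact hF s hsQ hs1 g hg X E hX hE⟩

end CfsgLib.Fi24Three
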