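import Cfsg.Agent.Lib.Fi24Three.Normalizer
import Cfsg.Agent.Lib.SLCard

/-!
An element of order seven in the normalizer of the eight-group, normalized by the element of order three.
-/

set_option autoImplicit false
set_option linter.unusedSectionVars false

namespace CfsgLib.Fi24Three

open CfsgLargeExtra
open scoped Pointwise

universe u

variable {G : Type u} [Group G] [Finite G]

/-- A permutation of order dividing a prime `p` on a set of size prime to `p` has a fixed point. -/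
theorem exists_fixed {β : Type*} [Finite β] (e : Equiv.Perm β) (p : ℕ) (hp : p.Prime) (he : e ^ p = 1)
    (hβ : ¬ p ∣ Nat.card β) : ∃ b, e b = b := by
  have : Fact p.Prime := ⟨hp⟩
  have hP : IsPGroup p ↥(Subgroup.zpowers e) := by
    intro g
    obtain ⟨g, n, rfl⟩ := g
    refine ⟨1, Subtype.ext ?_⟩
    simp only [pow_one, SubmonoidClass.coe_pow, OneMemClass.coe_one]
    rw [← zpow_natCast (e ^ n) p, ← zpow_mul, mul_comm, zpow_mul, zpow_natCast, he, one_zpow]
  obtain ⟨b, hb⟩ := hP.nonempty_fixed_point_of_prime_not_dvd_card β hβ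
  exact ⟨b, hb ⟨e, Subgroup.mem_zpowers e⟩⟩

theorem card_SL32 : Nat.card (Matrix.SpecialLinearGroup (Fin 3) (ZMod 2)) = 168 := by
  have : Fact (Nat.Prime 2) := ⟨Nat.prime_two⟩
  have h := CfsgLib.SLCard.card_units_mul_card_SL (F := ZMod 2) (n := 3) (by norm_num)
  rw [Matrix.card_GL_field, ZMod.card] at h
  simpa [Fin.prod_univ_three] using h

/-- A coset of a subgroup of two-power order fixed by an element of odd prime order has a fixed element. -/
theorem coset_fixed {H X : Subgroup G} (hX : ∃ k, Nat.card X = 2 ^ k) {s : G} {p : ℕ} (hp : p.Prime) (hp2 : p ≠ 2)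
    (hs : s ^ p = 1) (hXH : ∀ a ∈ X, s * a * s⁻¹ ∈ X) (hXle : X ≤ H)
    {c : G} (hc : c ∈ H) (hmove : c⁻¹ * (s * c * s⁻¹) ∈ X) : ∃ d ∈ H, c⁻¹ * d ∈ X ∧ s * d * s⁻¹ = d := by
  let C : Set G := {d | c⁻¹ * d ∈ X}
  have hCH : ∀ d ∈ C, d ∈ H := fun d hd => by simpa using mul_mem hc (hXle hd)
  have hpres : ∀ d ∈ C, s * d * s⁻¹ ∈ C := fun d hd => by
    have := mul_mem hmove (hXH _ hd)
    show c⁻¹ * (s * d * s⁻¹) ∈ X
    simpa [mul_assoc] using this
  let f : C → C := fun d => ⟨_, hpres d d.2⟩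
  have hinj : Function.Injective f := fun a b h =>
    Subtype.ext (mul_left_cancel (mul_right_cancel (congrArg Subtype.val h)))
  let e : Equiv.Perm C := Equiv.ofBijective f (Finite.injective_iff_bijective.mp hinj)
  have hpow : ∀ (n : ℕ) (d : C), (((e ^ n) d : C) : G) = s ^ n * d * (s ^ n)⁻¹ := by
    intro n
    induction n with
    | zero => intro d; simp
    | succ n ih =>
      intro d
      rw [pow_succ', Equiv.Perm.mul_apply]
      show s * (((e ^ n) d : C) : G) * s⁻¹ = _
      rw [ih]; group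
  have hcard : Nat.card C = Nat.card X :=
    Nat.card_congr ⟨fun d => ⟨c⁻¹ * d, d.2⟩, fun a => ⟨c * a, show c⁻¹ * (c * a) ∈ X by simp⟩,
      fun d => Subtype.ext (by simp), fun a => Subtype.ext (by simp)⟩
  obtain ⟨d, hd⟩ := exists_fixed e p hp (Equiv.ext fun d => Subtype.ext (by rw [hpow, hs]; simp)) (by
    rw [hcard]
    obtain ⟨k, hk⟩ := hX
    rw [hk]
    exact fun h => hp2 ((Nat.prime_dvd_prime_iff_eq hp Nat.prime_two).mp (hp.dvd_of_dvd_pow h)))
  exact ⟨d, hCH d d.2, d.2, congrArg Subtype.val hd⟩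

/-- The properties of the element of order seven. -/
structure Sev (z ρ x φ : G) : Prop where
  ord : φ ^ 7 = 1
  norm : φ ∈ Subgroup.normalizer (vee z ρ x : Set G)
  rel : ρ * φ * ρ⁻¹ = φ ^ 2 ∨ ρ * φ * ρ⁻¹ = φ ^ 4
  moves : ∀ v ∈ vee z ρ x, φ * v * φ⁻¹ = v → v = 1
  triv : ∀ c ∈ cv z ρ x, φ * c * φ⁻¹ * c⁻¹ ∈ rr z ρ x

namespace Setup

variable {z : G} {M : Subgroup G} {ρ : G} (S : Setup z M ρ) {x : G} (T : Tri z ρ x)
include S T

theorem rho_triv {c : G} (hc : c ∈ cv z ρ x) : ρ * c * ρ⁻¹ * c⁻¹ ∈ rr z ρ x := by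
  refine Subgroup.mem_sup_left (mem_qv.mpr ⟨?_, mul_mem (S.cv_conj T (S.rho_norm T) hc) (inv_mem hc)⟩)
  have := inv_mem (S.central c (S.cv_le_M T hc))
  simpa [mul_assoc] using this

/-- The fixed involutions of the element of order three in the eight-group. -/
theorem rot_fixed {v : G} (hv : v ∈ vee z ρ x) (h : ρ * v * ρ⁻¹ = v) : v = 1 ∨ v = z :=
  S.fpf v (S.vee_le_Q T hv) (Or.inl h)

theorem exists_seven : ∃ φ : G, Sev z ρ x φ := by
  classical
  have : Fact (Nat.Prime 7) := ⟨by norm_num⟩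
  obtain ⟨Ψ, hΨ, hker, hfst⟩ := S.exists_hom T
  let N := Subgroup.normalizer (vee z ρ x : Set G)
  let L : Subgroup ↥N := ((MonoidHom.snd (MulAut ↥(vee z ρ x)) A6).comp Ψ).ker
  have hcent : ∀ n : ↥N, (∀ c ∈ cv z ρ x, (n : G) * c * (n : G)⁻¹ * c⁻¹ ∈ rr z ρ x) → n ∈ L := by
    intro n hn
    rw [MonoidHom.mem_ker]
    show (Ψ n).2 = 1
    rw [← Subgroup.mem_bot, ← center_A6, Subgroup.mem_center_iff]
    intro a
    obtain ⟨m, hm⟩ := hΨ (1, a)
    have hmc : (m : G) ∈ cv z ρ x := mem_cv.mpr fun v hv => by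
      rw [← conj_eq_iff, ← hfst m ⟨v, hv⟩, hm]; rfl
    have h1 : n * m * n⁻¹ * m⁻¹ ∈ Ψ.ker := by rw [hker]; exact hn m hmc
    rw [MonoidHom.mem_ker, map_mul, map_mul, map_mul, map_inv, map_inv, hm, mul_inv_eq_one] at h1
    have h2 := congrArg Prod.snd h1
    exact (mul_inv_eq_iff_eq_mul.mp h2).symm
  let r : ↥N := ⟨ρ, S.rho_norm T⟩
  have hr : r ∈ L := hcent r fun c hc => S.rho_triv T hc
  have hcardV : Nat.card (MulAut ↥(vee z ρ x)) = 168 := by
    obtain ⟨e⟩ := exists_autSL (V := ↥(vee z ρ x)) (fun a => Subtype.ext (S.vee_sq T a.2)) (S.card_vee T)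
    rw [Nat.card_congr e.toEquiv, card_SL32]
  have hcardL : Nat.card L = 168 * 2 ^ 15 := by
    have h1 : Nat.card ↥N = 360 * Nat.card L := by
      rw [Subgroup.card_eq_card_quotient_mul_card_subgroup L,
        Nat.card_congr (QuotientGroup.quotientKerEquivOfSurjective _ (Prod.snd_surjective.comp hΨ)).toEquiv, card_A6]
    have h2 : Nat.card ↥N = 168 * 360 * 2 ^ 15 := by
      rw [Subgroup.card_eq_card_quotient_mul_card_subgroup Ψ.ker,
        Nat.card_congr (QuotientGroup.quotientKerEquivOfSurjective _ hΨ).toEquiv, Nat.card_prod, hcardV, card_A6,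
        hker, Nat.card_congr (Subgroup.subgroupOfEquivOfLe (S.rr_le_norm T)).toEquiv, S.card_rr T]
    omega
  -- the number of Sylow subgroups is not a multiple of three
  let P : Sylow 7 L := default
  have hP7 : Nat.card P = 7 := by
    rw [P.card_eq_multiplicity, hcardL]
    rw [Nat.factorization_mul (by norm_num) (by norm_num), Finsupp.add_apply, Nat.Prime.factorization_pow Nat.prime_two]
    simp only [Finsupp.single_apply, if_neg (by norm_num : ¬ (2 : ℕ) = 7), add_zero]
    rw [show (168 : ℕ) = 7 * 24 by norm_num, Nat.factorization_mul (by norm_num) (by norm_num), Finsupp.add_apply,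
      Nat.Prime.factorization_self (by norm_num), Nat.factorization_eq_zero_of_not_dvd (by norm_num)]
    rfl
  have hn3 : ¬ 3 ∣ Nat.card (Sylow 7 L) := by
    rintro ⟨k, hk⟩
    have hd := P.card_dvd_index
    have hidx := (P : Subgroup L).card_mul_index
    rw [show Nat.card ↥(P : Subgroup L) = 7 from hP7, hcardL] at hidx
    rw [show (P : Subgroup L).index = 3 * 2 ^ 18 by omega, hk] at hd
    have hd' : k ∣ 2 ^ 18 := Nat.dvd_of_mul_dvd_mul_left (by norm_num) hd
    obtain ⟨j, hj, rfl⟩ := (Nat.dvd_prime_pow Nat.prime_two).mp hd'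
    have hm := card_sylow_modEq_one 7 L
    rw [hk] at hm
    interval_cases j <;> simp [Nat.ModEq] at hm
  -- the element of order three fixes one of them
  let s : L := ⟨r, hr⟩
  have hs3 : s ^ 3 = 1 := by
    refine Subtype.ext (Subtype.ext ?_)
    show ρ ^ 3 = 1
    rw [← S.rho_ord, pow_orderOf_eq_one]
  let e : Equiv.Perm (Sylow 7 L) := MulAction.toPerm s
  obtain ⟨P, hP⟩ := exists_fixed e 3 Nat.prime_three (by
    show (MulAction.toPermHom L (Sylow 7 L) s) ^ 3 = 1
    rw [← map_pow, hs3, map_one]) hn3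
  have hP7' : Nat.card P = 7 := by
    exact (Nat.card_congr (Sylow.equiv P _).toEquiv).trans hP7
  obtain ⟨g, hg⟩ := (isCyclic_of_prime_card hP7').exists_generator
  have hgord : orderOf g = 7 := (orderOf_eq_card_of_forall_mem_zpowers hg).trans hP7'
  have hnorm : s * (g : L) * s⁻¹ ∈ (P : Subgroup L) := by
    have h1 : s • (g : L) = s • (g : L) := rfl
    have h2 : MulAut.conj s (g : L) ∈ ((MulAut.conj s) • (P : Subgroup L)) := Subgroup.smul_mem_pointwise_smul _ _ _ g.2
    have h3 : (MulAut.conj s) • (P : Subgroup L) = (P : Subgroup L) := congrArg (fun Q : Sylow 7 L => (Q : Subgroup L)) hP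
    rw [h3] at h2
    simpa using h2
  obtain ⟨n, hn⟩ := (mem_powers_iff_mem_zpowers (x := g)).mpr (hg ⟨_, hnorm⟩)
  set φ : G := (((g : L) : ↥N) : G) with hφ
  have hord : orderOf φ = 7 := by rw [hφ, Subgroup.orderOf_coe, Subgroup.orderOf_coe, Subgroup.orderOf_coe, hgord]
  have hrel : ρ * φ * ρ⁻¹ = φ ^ n := by
    have := congrArg (fun q : P => (((q : L) : ↥N) : G)) hn
    simpa [s, r, φ] using this.symm
  have hmoves : ∀ v ∈ vee z ρ x, φ * v * φ⁻¹ = v → v = 1 := by
    intro v hv hfix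
    by_contra hv1
    have hφN : φ ∈ N := ((g : L) : ↥N).2
    have hαv : ∀ a : ↥(vee z ρ x), φ * (a : G) * φ⁻¹ = a := by
      have hone : (Ψ ((g : L) : ↥N)).1 ⟨v, hv⟩ = ⟨v, hv⟩ := Subtype.ext ((hfst _ _).trans hfix)
      set α := (Ψ ((g : L) : ↥N)).1 with hα
      have hα7 : α ^ 7 = 1 := by
        rw [hα]
        have : ((g : L) : ↥N) ^ 7 = 1 := by
          have := congrArg (fun q : P => ((q : L) : ↥N)) (show g ^ 7 = 1 from orderOf_dvd_iff_pow_eq_one.mp hgord.dvd)
          simpa using this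
        rw [← Prod.pow_fst, ← map_pow, this, map_one]; rfl
      let e' : Equiv.Perm ↥(vee z ρ x) := MulEquiv.toEquiv α
      have he' : ∀ (k : ℕ) (a : ↥(vee z ρ x)), (e' ^ k) a = (α ^ k) a := by
        intro k
        induction k with
        | zero => intro a; rfl
        | succ k ih => intro a; rw [pow_succ, pow_succ, Equiv.Perm.mul_apply, MulAut.mul_apply, ih]; rfl
      intro a
      by_contra ha
      have hea : e' a ≠ a := fun h => ha ((hfst _ a).symm.trans (congrArg Subtype.val h))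
      -- the moved points form orbits of length seven, but at most six points move
      have hmov : Nat.card ↥(vee z ρ x) ≡ Nat.card {b // e' b = b} [MOD 7] := by
        have hP' : IsPGroup 7 ↥(Subgroup.zpowers e') := by
          intro t
          obtain ⟨t, k, rfl⟩ := t
          refine ⟨1, Subtype.ext ?_⟩
          have h7 : e' ^ 7 = 1 := Equiv.ext fun b => by rw [he', hα7]; rfl
          simp only [pow_one, SubmonoidClass.coe_pow, OneMemClass.coe_one]
          rw [← zpow_natCast (e' ^ k) 7, ← zpow_mul, mul_comm, zpow_mul, zpow_natCast, h7, one_zpow]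
        have hiff : ∀ b, b ∈ MulAction.fixedPoints (Subgroup.zpowers e') ↥(vee z ρ x) ↔ e' b = b := fun b => by
          refine ⟨fun h => h ⟨e', Subgroup.mem_zpowers e'⟩, fun h t => ?_⟩
          obtain ⟨t, ht⟩ := t
          have : Subgroup.zpowers e' ≤ MulAction.stabilizer (Equiv.Perm ↥(vee z ρ x)) b := by
            rw [Subgroup.zpowers_le]; exact h
          exact this ht
        exact (hP'.card_modEq_card_fixedPoints _).trans (Nat.card_congr (Equiv.subtypeEquivRight hiff) ▸ Nat.ModEq.refl _)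
      rw [S.card_vee T] at hmov
      have hlt : Nat.card {b // e' b = b} < 8 := by
        rw [← S.card_vee T]
        exact Finite.card_subtype_lt hea
      have hge : 2 ≤ Nat.card {b // e' b = b} := by
        have : Nontrivial {b // e' b = b} := ⟨⟨⟨⟨v, hv⟩, hone⟩, ⟨1, map_one α⟩, fun h =>
          hv1 (congrArg Subtype.val (congrArg Subtype.val h))⟩⟩
        exact Finite.one_lt_card
      unfold Nat.ModEq at hmov
      omega
    have hkerφ : ((g : L) : ↥N) ∈ Ψ.ker := by
      rw [MonoidHom.mem_ker]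
      exact Prod.ext (MulEquiv.ext fun a => Subtype.ext ((hfst _ a).trans (hαv a))) (g : L).2
    rw [hker, Subgroup.mem_subgroupOf] at hkerφ
    obtain ⟨k, hk⟩ := (S.isPGroup_rr T) ⟨φ, hkerφ⟩
    have := orderOf_dvd_of_pow_eq_one (congrArg Subtype.val hk : φ ^ 2 ^ k = 1)
    rw [hord] at this
    have := Nat.le_of_dvd (by norm_num) (Nat.Prime.dvd_of_dvd_pow (by norm_num : Nat.Prime 7) this)
    omega
  have h7 : φ ^ 7 = 1 := by rw [← hord, pow_orderOf_eq_one]
  refine ⟨φ, h7, ((g : L) : ↥N).2, ?_, hmoves, fun c hc => ?_⟩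
  · have hmod : ρ * φ * ρ⁻¹ = φ ^ (n % 7) := by rw [hrel, ← pow_mod_orderOf, hord]
    have hm : n % 7 < 7 := Nat.mod_lt _ (by norm_num)
    set m := n % 7 with hm'
    have hit : ∀ (k : ℕ), ρ ^ k * φ * (ρ ^ k)⁻¹ = φ ^ (m ^ k) := by
      intro k
      induction k with
      | zero => simp
      | succ k ih =>
        calc ρ ^ (k + 1) * φ * (ρ ^ (k + 1))⁻¹ = ρ * (ρ ^ k * φ * (ρ ^ k)⁻¹) * ρ⁻¹ := by rw [pow_succ']; group
          _ = (ρ * φ * ρ⁻¹) ^ (m ^ k) := by rw [ih, conj_pow]
          _ = φ ^ (m ^ (k + 1)) := by rw [hmod, ← pow_mul, pow_succ']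
    have h3 := hit 3
    rw [show ρ ^ 3 = 1 by rw [← S.rho_ord, pow_orderOf_eq_one], one_mul, inv_one, mul_one] at h3
    have h3' : m ^ 3 % 7 = 1 := by
      have h := h3.symm
      rw [← pow_one φ, ← pow_mul, one_mul, pow_inj_mod, hord] at h
      simpa using h
    interval_cases m <;> simp at h3' hmod
    · -- a centralized element of order seven would fix `z`
      exfalso
      have hc : Commute φ ρ := (conj_eq_iff.mp hmod).symm
      have hzv : φ * z * φ⁻¹ ∈ vee z ρ x := (Subgroup.mem_normalizer_iff.mp ((g : L) : ↥N).2 _).mp z_mem_vee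
      rcases S.rot_fixed T hzv (by
          rw [show ρ * (φ * z * φ⁻¹) * ρ⁻¹ = (ρ * φ) * z * (ρ * φ)⁻¹ by group, hc.symm.eq,
            show φ * ρ * z * (φ * ρ)⁻¹ = φ * (ρ * z * ρ⁻¹) * φ⁻¹ by group]
          exact congrArg (fun t => φ * t * φ⁻¹) S.rot_z) with e | e
      · exact S.es.ne (conj_eq_one_iff.mp e)
      · exact S.es.ne (hmoves z z_mem_vee e)
    · exact Or.inl hmod
    · exact Or.inr hmod
  · -- trivial on the alternating part
    let cc : ↥N := ⟨c, S.cv_le_norm T hc⟩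
    have h1 : ((g : L) : ↥N) * cc * ((g : L) : ↥N)⁻¹ * cc⁻¹ ∈ Ψ.ker := by
      rw [MonoidHom.mem_ker, map_mul, map_mul, map_mul, map_inv, map_inv]
      have hc1 : (Ψ cc).1 = 1 := MulEquiv.ext fun a => Subtype.ext ((hfst _ a).trans (conj_eq_iff.mpr (mem_cv.mp hc a a.2)))
      have hg2 : (Ψ ((g : L) : ↥N)).2 = 1 := (g : L).2
      refine Prod.ext ?_ ?_ <;> simp [hc1, hg2]
    rw [hker] at h1
    exact h1

end Setup

end CfsgLib.Fi24Three
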