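import Cfsg.Agent.Lib.Fi24Three.Vee

/-!
The centralizer of the eight-group and the subgroup `R` of order `2^15` generated by its intersections with the
cores of the involutions of the eight-group.
-/

set_option autoImplicit false
set_option linter.unusedSectionVars false

namespace CfsgLib.Fi24Three

open CfsgLargeExtra

universe u

variable {G : Type u} [Group G] [Finite G]

/-- The centralizer of the eight-group. -/
def cv (z ρ x : G) : Subgroup G := Subgroup.centralizer (vee z ρ x : Set G)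

/-- The centralizer of the eight-group inside a core. -/
def qv (z ρ x v : G) : Subgroup G := coreCent v ⊓ cv z ρ x

/-- The subgroup of order `2^15`. -/
def rr (z ρ x : G) : Subgroup G := qv z ρ x z ⊔ qv z ρ x x

theorem mem_cv {z ρ x c : G} : c ∈ cv z ρ x ↔ ∀ a ∈ vee z ρ x, c * a = a * c := mem_cent_set

theorem mem_cv_gen {z ρ x c : G} (h1 : c * z = z * c) (h2 : c * x = x * c) (h3 : c * rot ρ x = rot ρ x * c) :
    c ∈ cv z ρ x := by
  refine mem_cv.mpr fun a ha => ?_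
  induction ha using Subgroup.closure_induction with
  | mem a ha => rcases ha with rfl | rfl | rfl <;> assumption
  | one => simp
  | mul a b _ _ iha ihb => exact Commute.mul_right iha ihb
  | inv a _ iha => exact Commute.inv_right iha

theorem mem_qv {z ρ x v c : G} : c ∈ qv z ρ x v ↔ c ∈ coreCent v ∧ c ∈ cv z ρ x := Subgroup.mem_inf

theorem eq_of_mul_comm {a b : G} (h : a * b * a⁻¹ * b⁻¹ = 1) : a * b = b * a := by
  rw [← conj_eq_iff]
  exact mul_inv_eq_one.mp h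

namespace Setup

variable {z : G} {M : Subgroup G} {ρ : G} (S : Setup z M ρ) {x : G} (T : Tri z ρ x)
include S T

theorem cv_z {c : G} (hc : c ∈ cv z ρ x) : c * z = z * c := mem_cv.mp hc z z_mem_vee

theorem cv_x {c : G} (hc : c ∈ cv z ρ x) : c * x = x * c := mem_cv.mp hc x x_mem_vee

theorem cv_le_M {c : G} (hc : c ∈ cv z ρ x) : c ∈ M := by
  by_contra hcM
  have hy : c * rot ρ x * c⁻¹ = rot ρ x := conj_eq_iff.mpr (mem_cv.mp hc _ y_mem_vee)
  rcases (S.rot_cases T.pair.mem (S.cv_z T hc) (S.cv_x T hc)).2 hcM with e | e <;>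
    rw [hy, S.xy_eq T] at e
  · exact S.ne_one T.pair.cj (right_eq_mul.mp e)
  · rw [mul_assoc, S.es.comm _ (S.y_mem T), ← mul_assoc] at e
    exact T.pair.ne ((eq_inv_of_mul_eq_one_left (right_eq_mul.mp e)).trans (inv_eq_of_mul_eq_one_right S.zz))

theorem vee_le_cv : vee z ρ x ≤ cv z ρ x := fun _ ha => mem_cv.mpr fun _ hb => S.vee_comm T ha hb

theorem cv_conj {g c : G} (hg : g ∈ Subgroup.normalizer (vee z ρ x : Set G)) (hc : c ∈ cv z ρ x) :
    g * c * g⁻¹ ∈ cv z ρ x := by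
  refine mem_cv.mpr fun a ha => ?_
  have h' : g⁻¹ * a * g ∈ vee z ρ x := by
    have := (Subgroup.mem_normalizer_iff.mp (inv_mem hg) a).mp ha
    simpa using this
  have := mem_cv.mp hc _ h'
  calc g * c * g⁻¹ * a = g * (c * (g⁻¹ * a * g)) * g⁻¹ := by group
    _ = a * (g * c * g⁻¹) := by rw [this]; group

theorem qv_conj {g v c : G} (hg : g ∈ Subgroup.normalizer (vee z ρ x : Set G)) (hc : c ∈ qv z ρ x v) :
    g * c * g⁻¹ ∈ qv z ρ x (g * v * g⁻¹) :=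
  ⟨conj_mem_core.mpr hc.1, S.cv_conj T hg hc.2⟩

theorem core_norm {v q : G} (hv : v ∈ vee z ρ x) (h1 : v ≠ 1) (hq : q ∈ coreCent v) :
    q ∈ Subgroup.normalizer (vee z ρ x : Set G) :=
  (S.singular T).core_normalizes hv h1 hq

theorem rho_norm : ρ ∈ Subgroup.normalizer (vee z ρ x : Set G) := by
  refine Subgroup.mem_normalizer_iff.mpr fun a => ⟨S.rot_vee T, fun h => ?_⟩
  have := S.rot_vee' T h
  simpa [mul_assoc] using this

theorem x_ne : x ≠ 1 := S.ne_one T.pair.cj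

theorem card_qv {v : G} (hv : v ∈ vee z ρ x) (h1 : v ≠ 1) : Nat.card (qv z ρ x v) = 2 ^ 11 := by
  obtain ⟨hc, hle⟩ := S.vee_point T hv h1
  have h := S.card_cent hc hle hv
  rw [S.card_vee T] at h
  show Nat.card ↥(coreCent v ⊓ Subgroup.centralizer (vee z ρ x : Set G)) = 2 ^ 11
  omega

theorem qv_inf {u v : G} (hu : u ∈ vee z ρ x) (hu1 : u ≠ 1) (hv : v ∈ vee z ρ x) (hv1 : v ≠ 1) (hne : v ≠ u) :
    qv z ρ x u ⊓ qv z ρ x v = coreCent u ⊓ coreCent v := by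
  obtain ⟨hcu, hleu⟩ := S.vee_point T hu hu1
  obtain ⟨hcv, hlev⟩ := S.vee_point T hv hv1
  refine le_antisymm (fun a ha => ⟨ha.1.1, ha.2.1⟩) fun a ha => ?_
  have : a ∈ cv z ρ x := mem_cv.mpr fun b hb => S.inter_comm hcu hcv hne ha.1 ha.2 (hleu hb) (hlev hb)
  exact ⟨⟨ha.1, this⟩, ha.2, this⟩

theorem qv_norm {u v : G} (hv : v ∈ vee z ρ x) (hv1 : v ≠ 1) :
    qv z ρ x u ≤ Subgroup.normalizer (qv z ρ x v : Set G) :=
  le_norm fun _ ha _ hb =>
    mem_qv.mpr ⟨(S.esx (S.vee_point T hv hv1).1).nor _ (mem_cv.mp ha.2 v hv) _ hb.1, mul_mem (mul_mem ha.2 hb.2) (inv_mem ha.2)⟩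

theorem card_pair {u v : G} (hu : u ∈ vee z ρ x) (hu1 : u ≠ 1) (hv : v ∈ vee z ρ x) (hv1 : v ≠ 1) (hne : v ≠ u) :
    Nat.card ↥(qv z ρ x u ⊔ qv z ρ x v) = 2 ^ 15 := by
  have h := CfsgLib.CentrallyLarge.card_sup_mul_card_inf (S.qv_norm T (u := v) hu hu1)
  rw [S.qv_inf T hu hu1 hv hv1 hne, S.inter' (S.vee_point T hu hu1).1 (S.vee_point T hv hv1).1
    ((S.vee_point T hu hu1).2 hv) hne, S.card_qv T hu hu1, S.card_qv T hv hv1] at h
  omega

theorem card_rr : Nat.card (rr z ρ x) = 2 ^ 15 :=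
  S.card_pair T z_mem_vee S.es.ne x_mem_vee (S.x_ne T) T.pair.ne

theorem rr_le_cv : rr z ρ x ≤ cv z ρ x := sup_le inf_le_right inf_le_right

theorem rot_qv_x {c : G} (hc : c ∈ qv z ρ x x) : rot ρ c ∈ rr z ρ x := by
  have h1 : rot ρ c * c⁻¹ ∈ qv z ρ x z := by
    refine mem_qv.mpr ⟨?_, mul_mem (S.cv_conj T (S.rho_norm T) hc.2) (inv_mem hc.2)⟩
    have := inv_mem (S.central c (S.cv_le_M T hc.2))
    simpa [rot, mul_assoc] using this
  have := Subgroup.mul_mem_sup h1 hc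
  rwa [inv_mul_cancel_right] at this

theorem rot_rr {c : G} (hc : c ∈ rr z ρ x) : rot ρ c ∈ rr z ρ x := by
  obtain ⟨a, ha, b, hb, rfl⟩ := mem_sup (S.qv_norm T (u := z) x_mem_vee (S.x_ne T)) hc
  rw [S.rot_mul]
  refine mul_mem (Subgroup.mem_sup_left ?_) (S.rot_qv_x T hb)
  have := S.qv_conj T (S.rho_norm T) ha
  rwa [show ρ * z * ρ⁻¹ = z from S.rot_z] at this

theorem rot_inv_rr {c : G} (hc : c ∈ rr z ρ x) : ρ⁻¹ * c * ρ ∈ rr z ρ x := by
  have h := S.rot_rr T (S.rot_rr T hc)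
  have e : ρ⁻¹ = ρ * ρ := inv_eq_of_mul_eq_one_right (by rw [← mul_assoc, S.rho_cube])
  rw [show ρ⁻¹ * c * ρ = ρ⁻¹ * c * ρ⁻¹⁻¹ by rw [inv_inv], e, mul_inv_rev]
  simpa [rot, mul_assoc] using h

theorem qv_rot_le {b : G} (h : qv z ρ x b ≤ rr z ρ x) : qv z ρ x (rot ρ b) ≤ rr z ρ x := fun c hc => by
  have h1 : ρ⁻¹ * c * ρ ∈ qv z ρ x b := by
    have := S.qv_conj T (inv_mem (S.rho_norm T)) hc
    rw [inv_inv, show ρ⁻¹ * rot ρ b * ρ = b by simp [rot, mul_assoc]] at this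
    exact this
  have := S.rot_rr T (h h1)
  simpa [rot, mul_assoc] using this

theorem qv_le_rr {v : G} (hv : v ∈ vee z ρ x) (h1 : v ≠ 1) : qv z ρ x v ≤ rr z ρ x := by
  have hx' : qv z ρ x x ≤ rr z ρ x := le_sup_right
  rcases S.vee_cases T hv h1 with rfl | ⟨b, hb, e⟩
  · exact le_sup_left
  have hb' : qv z ρ x b ≤ rr z ρ x ∧ b ∈ vee z ρ x ∧ b ≠ z ∧ b ≠ 1 := by
    have hne : ∀ c, c ≠ z → rot ρ c ≠ z := fun c hc e =>
      hc (mul_left_cancel (mul_right_cancel (e.trans S.rot_z.symm)))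
    have hne1 : ∀ c, c ≠ 1 → rot ρ c ≠ 1 := fun c hc e => hc (conj_eq_one_iff.mp e)
    rcases hb with rfl | rfl | rfl
    exacts [⟨hx', x_mem_vee, T.pair.ne, S.x_ne T⟩,
      ⟨S.qv_rot_le T hx', y_mem_vee, hne _ T.pair.ne, hne1 _ (S.x_ne T)⟩,
      ⟨S.qv_rot_le T (S.qv_rot_le T hx'), S.rot_vee T y_mem_vee, hne _ (hne _ T.pair.ne), hne1 _ (hne1 _ (S.x_ne T))⟩]
  rcases e with rfl | rfl
  · exact hb'.1
  -- conjugation by an element of the core of `z`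
  obtain ⟨q, hq, -, hqb⟩ := S.es.swap (S.vee_le_Q T hb'.2.1) hb'.2.2.1 hb'.2.2.2
  have hqN := S.core_norm T z_mem_vee S.es.ne hq
  intro c hc
  have h1 : q⁻¹ * c * q ∈ qv z ρ x b := by
    have := S.qv_conj T (inv_mem hqN) hc
    rwa [inv_inv, show q⁻¹ * (b * z) * q = b by rw [← hqb]; group] at this
  have h3 : q * (q⁻¹ * c * q) * q⁻¹ * (q⁻¹ * c * q)⁻¹ ∈ qv z ρ x z := by
    refine mem_qv.mpr ⟨?_, mul_mem (S.cv_conj T hqN h1.2) (inv_mem h1.2)⟩
    rw [show q * (q⁻¹ * c * q) * q⁻¹ * (q⁻¹ * c * q)⁻¹ = q * ((q⁻¹ * c * q) * q⁻¹ * (q⁻¹ * c * q)⁻¹) by group]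
    exact mul_mem hq (S.nor (S.cv_z T h1.2) (inv_mem hq))
  have := mul_mem (Subgroup.mem_sup_left (T := qv z ρ x x) h3 : _ ∈ rr z ρ x) (hb'.1 h1)
  rwa [inv_mul_cancel_right, show q * (q⁻¹ * c * q) * q⁻¹ = c by group] at this

theorem rr_eq {u v : G} (hu : u ∈ vee z ρ x) (hu1 : u ≠ 1) (hv : v ∈ vee z ρ x) (hv1 : v ≠ 1) (hne : v ≠ u) :
    rr z ρ x = qv z ρ x u ⊔ qv z ρ x v :=
  (Subgroup.eq_of_le_of_card_ge (sup_le (S.qv_le_rr T hu hu1) (S.qv_le_rr T hv hv1))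
    (le_of_eq ((S.card_rr T).trans (S.card_pair T hu hu1 hv hv1 hne).symm))).symm

theorem rr_conj {g c : G} (hg : g ∈ Subgroup.normalizer (vee z ρ x : Set G)) (hc : c ∈ rr z ρ x) :
    g * c * g⁻¹ ∈ rr z ρ x := by
  have hgv : ∀ v ∈ vee z ρ x, v ≠ 1 → g * v * g⁻¹ ∈ vee z ρ x ∧ g * v * g⁻¹ ≠ 1 := fun v hv h1 =>
    ⟨(Subgroup.mem_normalizer_iff.mp hg v).mp hv, fun e => h1 (conj_eq_one_iff.mp e)⟩
  obtain ⟨a, ha, b, hb, rfl⟩ := mem_sup (S.qv_norm T (u := z) x_mem_vee (S.x_ne T)) hc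
  rw [show g * (a * b) * g⁻¹ = (g * a * g⁻¹) * (g * b * g⁻¹) by group]
  obtain ⟨hz', hz1⟩ := hgv z z_mem_vee S.es.ne
  obtain ⟨hx', hx1⟩ := hgv x x_mem_vee (S.x_ne T)
  exact mul_mem (S.qv_le_rr T hz' hz1 (S.qv_conj T hg ha)) (S.qv_le_rr T hx' hx1 (S.qv_conj T hg hb))

theorem vee_le_rr : vee z ρ x ≤ rr z ρ x :=
  fun _ ha => Subgroup.mem_sup_left ⟨S.vee_le_Q T ha, S.vee_le_cv T ha⟩

/-- The intersection of three cores. -/
theorem inter_three {a : G} (ha : a ∈ coreCent z) (hax : a ∈ coreCent x) (hay : a ∈ coreCent (rot ρ x)) :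
    a ∈ vee z ρ x := by
  obtain ⟨b, hb, hbM⟩ := S.exists_outside T.pair
  obtain ⟨hbx, hbz⟩ := mem_U.mp hb
  set w := ρ⁻¹ * a * ρ with hw
  have haw : rot ρ w = a := by simp [w, rot, mul_assoc]
  have hwQ : w ∈ coreCent z := by
    have := S.nor (comm_inv S.rho_z) ha
    rwa [inv_inv] at this
  have hwx : w ∈ coreCent x := by
    rw [← haw] at hay
    exact conj_mem_core.mp hay
  set u := rot ρ (rot ρ w) with hu
  have hu' : u = ρ⁻¹ * w * ρ := by
    have := congrArg (fun t => ρ⁻¹ * t * ρ) (S.rot3 w)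
    simpa [u, rot, mul_assoc] using this
  have hxs : ∀ d, d ∈ coreCent x → b * d * b⁻¹ = d ∨ b * d * b⁻¹ = d * x := fun d hd =>
    (S.esx T.pair.cj).conj_cases hbx hd
  -- `a` agrees with `u` modulo the eight-group
  have hV : a * u⁻¹ ∈ vee z ρ x := by
    have hk := S.invert b hbz hbM
    set k := b * ρ * b⁻¹ * ρ with hkdef
    have e1 : b * a * b⁻¹ = k * (ρ⁻¹ * (b * w * b⁻¹) * ρ) * k⁻¹ := by
      rw [← haw]; simp [k, rot, mul_assoc]
    have huQ : u ∈ coreCent z := S.rot_mem (S.rot_mem hwQ)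
    have hxV : ρ⁻¹ * x * ρ ∈ vee z ρ x := S.rot_vee' T x_mem_vee
    obtain ⟨t, ht, e2⟩ : ∃ t ∈ vee z ρ x, ρ⁻¹ * (b * w * b⁻¹) * ρ = u * t := by
      rcases hxs w hwx with e | e <;> rw [e]
      · exact ⟨1, one_mem _, by rw [mul_one, hu']⟩
      · exact ⟨_, hxV, by rw [hu']; group⟩
    obtain ⟨t', ht', e3⟩ : ∃ t' ∈ vee z ρ x, b * a * b⁻¹ = u * t' := by
      rw [e1, e2]
      rcases S.es.conj_cases hk (mul_mem huQ (S.vee_le_Q T ht)) with e | e <;> rw [e]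
      · exact ⟨t, ht, rfl⟩
      · exact ⟨t * z, mul_mem ht z_mem_vee, mul_assoc u t z⟩
    obtain ⟨t'', ht'', e4⟩ : ∃ t'' ∈ vee z ρ x, b * a * b⁻¹ = a * t'' := by
      rcases hxs a hax with e | e <;> rw [e]
      · exact ⟨1, one_mem _, (mul_one a).symm⟩
      · exact ⟨x, x_mem_vee, rfl⟩
    have e5 : a * t'' = u * t' := e4.symm.trans e3
    -- the intersection is commutative
    have e6 : a * u⁻¹ = u * (t' * t''⁻¹) * u⁻¹ := by
      rw [← mul_assoc, ← e5, mul_inv_cancel_right]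
    rw [e6]
    exact (Subgroup.mem_normalizer_iff.mp (S.core_norm T z_mem_vee S.es.ne huQ) _).mp (mul_mem ht' (inv_mem ht''))
  -- the product over the orbit is central
  have hN : w * a * u ∈ vee z ρ x := by
    set P := w * a * u with hP
    have hPQ : P ∈ coreCent z := mul_mem (mul_mem hwQ ha) (S.rot_mem (S.rot_mem hwQ))
    have hrot : rot ρ P = w⁻¹ * P * w⁻¹⁻¹ := by
      rw [hP, ← haw, hu, S.rot_mul, S.rot_mul, S.rot3, inv_inv]; simp only [rot]; group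
    rcases S.fpf P hPQ (by
        rcases S.es.conj_cases (inv_mem hwQ) hPQ with f | f
        · exact Or.inl (hrot.trans f)
        · exact Or.inr (hrot.trans f)) with e | e <;> rw [e]
    exacts [one_mem _, z_mem_vee]
  have hcomm : a * w = w * a := S.inter_comm S.cj_self T.pair.cj T.pair.ne ha hax hwQ hwx
  have haa : a * a = 1 := S.inter_sq S.cj_self T.pair.cj T.pair.ne ha hax
  have h1 : (w * a * u) * (a * u⁻¹) ∈ vee z ρ x := mul_mem hN hV
  have huQ : u ∈ coreCent z := S.rot_mem (S.rot_mem hwQ)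
  obtain ⟨e, he, heq⟩ : ∃ e ∈ vee z ρ x, u * a * u⁻¹ = a * e := by
    rcases S.es.conj_cases huQ ha with e | e <;> rw [e]
    exacts [⟨1, one_mem _, (mul_one a).symm⟩, ⟨z, z_mem_vee, rfl⟩]
  rw [show w * a * u * (a * u⁻¹) = w * a * (u * a * u⁻¹) by group, heq, ← mul_assoc, mul_assoc w, haa, mul_one] at h1
  have hwV : w ∈ vee z ρ x := by
    have := mul_mem h1 (inv_mem he)
    rwa [mul_inv_cancel_right] at this
  rw [← haw]
  exact S.rot_vee T hwV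

theorem x_ne_y : rot ρ x ≠ x := (S.rot_ne T.pair).1

theorem comm_mem {a c : G} (ha : a ∈ qv z ρ x z) (hc : c ∈ qv z ρ x x) : a * c * a⁻¹ * c⁻¹ ∈ vee z ρ x := by
  have h1 : a * c * a⁻¹ * c⁻¹ ∈ coreCent z := by
    rw [show a * c * a⁻¹ * c⁻¹ = a * (c * a⁻¹ * c⁻¹) by group]
    exact mul_mem ha.1 (S.nor (S.cv_z T hc.2) (inv_mem ha.1))
  have h2 : a * c * a⁻¹ * c⁻¹ ∈ coreCent x :=
    mul_mem ((S.esx T.pair.cj).nor a (S.cv_x T ha.2) c hc.1) (inv_mem hc.1)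
  refine S.inter_three T h1 h2 ?_
  have hy := y_mem_vee (z := z) (ρ := ρ) (x := x)
  have hy1 : rot ρ x ≠ 1 := S.ne_one (S.y_cj T)
  have hcR : c ∈ qv z ρ x z ⊔ qv z ρ x (rot ρ x) := by
    rw [← S.rr_eq T z_mem_vee S.es.ne hy hy1 (S.rot_ne T.pair).2.2]
    exact Subgroup.mem_sup_right hc
  obtain ⟨a1, ha1, c2, hc2, rfl⟩ := mem_sup (S.qv_norm T (u := z) hy hy1) hcR
  have hyy := S.esx (S.y_cj T)
  have hzy : z ∈ coreCent (rot ρ x) := (S.vee_point T hy hy1).2 z_mem_vee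
  rw [show a * (a1 * c2) * a⁻¹ * (a1 * c2)⁻¹ = (a * a1 * a⁻¹ * a1⁻¹) * (a1 * (a * c2 * a⁻¹ * c2⁻¹) * a1⁻¹) by group]
  refine mul_mem ?_ (hyy.nor a1 (mem_cv.mp ha1.2 _ hy) _ (mul_mem (hyy.nor a (mem_cv.mp ha.2 _ hy) c2 hc2.1)
    (inv_mem hc2.1)))
  rcases S.es.conj_cases ha.1 ha1.1 with e | e <;> rw [e]
  · rw [mul_inv_cancel]; exact one_mem _
  · rw [S.es.comm a1 ha1.1, mul_inv_cancel_right]; exact hzy

theorem qv_self_comm {v a b : G} (hv : v ∈ vee z ρ x) (h1 : v ≠ 1) (ha : a ∈ qv z ρ x v) (hb : b ∈ qv z ρ x v) :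
    a * b * a⁻¹ * b⁻¹ ∈ vee z ρ x :=
  (S.singular T).comm_mem hv h1 ha.1 hb.1

/-- Elements of `R` commute modulo the eight-group. -/
theorem rr_comm {a c : G} (ha : a ∈ rr z ρ x) (hc : c ∈ rr z ρ x) : a * c * a⁻¹ * c⁻¹ ∈ vee z ρ x := by
  have hcen : ∀ t ∈ vee z ρ x, ∀ s ∈ cv z ρ x, s * t * s⁻¹ = t := fun t ht s hs =>
    conj_eq_iff.mpr (mem_cv.mp hs t ht)
  have hR := S.rr_le_cv T
  have step : ∀ a, a ∈ cv z ρ x → (∀ c ∈ qv z ρ x z, a * c * a⁻¹ * c⁻¹ ∈ vee z ρ x) →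
      (∀ c ∈ qv z ρ x x, a * c * a⁻¹ * c⁻¹ ∈ vee z ρ x) → ∀ c ∈ rr z ρ x, a * c * a⁻¹ * c⁻¹ ∈ vee z ρ x := by
    intro a _ h1 h2 c hc
    obtain ⟨p, hp, q, hq, rfl⟩ := mem_sup (S.qv_norm T (u := z) x_mem_vee (S.x_ne T)) hc
    rw [show a * (p * q) * a⁻¹ * (p * q)⁻¹ = (a * p * a⁻¹ * p⁻¹) * (p * (a * q * a⁻¹ * q⁻¹) * p⁻¹) by group,
      hcen _ (h2 q hq) p hp.2]
    exact mul_mem (h1 p hp) (h2 q hq)
  have swap : ∀ a c : G, a * c * a⁻¹ * c⁻¹ ∈ vee z ρ x → c * a * c⁻¹ * a⁻¹ ∈ vee z ρ x := fun a c h => by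
    have := inv_mem h; simpa [mul_assoc] using this
  have hz : ∀ a ∈ qv z ρ x z, ∀ c ∈ rr z ρ x, a * c * a⁻¹ * c⁻¹ ∈ vee z ρ x := fun a ha =>
    step a ha.2 (fun c hc => S.qv_self_comm T z_mem_vee S.es.ne ha hc) fun c hc => S.comm_mem T ha hc
  have hx : ∀ a ∈ qv z ρ x x, ∀ c ∈ rr z ρ x, a * c * a⁻¹ * c⁻¹ ∈ vee z ρ x := fun a ha =>
    step a ha.2 (fun c hc => swap _ _ (S.comm_mem T hc ha))
      fun c hc => S.qv_self_comm T x_mem_vee (S.x_ne T) ha hc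
  exact step a (hR ha) (fun c hc' => swap _ _ (hz c hc' a ha)) (fun c hc' => swap _ _ (hx c hc' a ha)) c hc

theorem rr_sq {a : G} (ha : a ∈ rr z ρ x) : a * a ∈ vee z ρ x := by
  obtain ⟨p, hp, q, hq, rfl⟩ := mem_sup (S.qv_norm T (u := z) x_mem_vee (S.x_ne T)) ha
  have hpp : p * p ∈ vee z ρ x := by
    rcases S.es.sq p hp.1 with e | e <;> rw [e]
    exacts [one_mem _, z_mem_vee]
  have hqq : q * q ∈ vee z ρ x := by
    rcases (S.esx T.pair.cj).sq q hq.1 with e | e <;> rw [e]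
    exacts [one_mem _, x_mem_vee]
  have hk := S.rr_comm T (Subgroup.mem_sup_right hq : q ∈ rr z ρ x) (Subgroup.mem_sup_left hp : p ∈ rr z ρ x)
  have e1 : p * (q * p * q⁻¹ * p⁻¹) * p⁻¹ = q * p * q⁻¹ * p⁻¹ := conj_eq_iff.mpr (mem_cv.mp hp.2 _ hk)
  rw [show p * q * (p * q) = p * (q * p * q⁻¹ * p⁻¹) * p⁻¹ * ((p * p) * (q * q)) by group, e1]
  exact mul_mem hk (mul_mem hpp hqq)

/-- The centre of `R` is the eight-group. -/
theorem rr_center {c : G} (hc : c ∈ rr z ρ x) (hcen : ∀ d ∈ rr z ρ x, c * d = d * c) : c ∈ vee z ρ x := by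
  have key : ∀ u v : G, u ∈ vee z ρ x → u ≠ 1 → v ∈ vee z ρ x → v ≠ 1 → v ≠ u → c ∈ coreCent u ⊓ coreCent v := by
    intro u v hu hu1 hv hv1 hne
    obtain ⟨hcu, hleu⟩ := S.vee_point T hu hu1
    obtain ⟨hcv, hlev⟩ := S.vee_point T hv hv1
    have hc' := hc
    rw [S.rr_eq T hu hu1 hv hv1 hne] at hc'
    obtain ⟨a, ha, b, hb, hab⟩ := mem_sup (S.qv_norm T (u := u) hv hv1) hc'
    have hD : ∀ d ∈ coreCent u, d ∈ coreCent v → a * d = d * a ∧ b * d = d * b := by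
      intro d hdu hdv
      have hdR : d ∈ rr z ρ x := S.qv_le_rr T hu hu1 (((S.qv_inf T hu hu1 hv hv1 hne).ge ⟨hdu, hdv⟩).1)
      have e : a * (b * d * b⁻¹) * a⁻¹ = d := by
        rw [show a * (b * d * b⁻¹) * a⁻¹ = (a * b) * d * (a * b)⁻¹ by group, ← hab]
        exact conj_eq_iff.mpr (hcen d hdR)
      rcases (S.esx hcu).conj_cases ha.1 hdu with ea | ea <;>
        rcases (S.esx hcv).conj_cases hb.1 hdv with eb | eb
      · exact ⟨conj_eq_iff.mp ea, conj_eq_iff.mp eb⟩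
      · exfalso
        rw [eb, show a * (d * v) * a⁻¹ = (a * d * a⁻¹) * (a * v * a⁻¹) by group, ea,
          conj_eq_iff.mpr (mem_cv.mp ha.2 v hv)] at e
        exact hv1 (mul_eq_left.mp e)
      · exfalso
        rw [eb, ea] at e
        exact hu1 (mul_eq_left.mp e)
      · exfalso
        rw [eb, show a * (d * v) * a⁻¹ = (a * d * a⁻¹) * (a * v * a⁻¹) by group, ea,
          conj_eq_iff.mpr (mem_cv.mp ha.2 v hv), mul_assoc] at e
        have := mul_eq_left.mp e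
        exact hne (((eq_inv_of_mul_eq_one_right this).trans (inv_eq_of_mul_eq_one_right (S.vee_sq T hu))))
    have h1 : a ∈ coreCent v := S.cent_inter hcu hcv (hleu hv) hne ha.1 fun d h h' => (hD d h h').1
    have h2 : b ∈ coreCent u := S.cent_inter hcv hcu (hlev hu) (Ne.symm hne) hb.1 fun d h h' => (hD d h' h).2
    rw [hab]
    exact ⟨mul_mem ha.1 h2, mul_mem h1 hb.1⟩
  have h1 := key z x z_mem_vee S.es.ne x_mem_vee (S.x_ne T) T.pair.ne
  have h2 := key z _ z_mem_vee S.es.ne y_mem_vee (S.ne_one (S.y_cj T)) (S.rot_ne T.pair).2.2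
  exact S.inter_three T h1.1 h1.2 h2.2

/-- Every involution of the eight-group is a commutator in `R`. -/
theorem exists_commutator {v : G} (hv : v ∈ vee z ρ x) (h1 : v ≠ 1) :
    ∃ a ∈ rr z ρ x, ∃ b ∈ rr z ρ x, a * b * a⁻¹ * b⁻¹ = v := by
  obtain ⟨hc, hle⟩ := S.vee_point T hv h1
  by_contra hall
  push Not at hall
  have hab : ∀ a ∈ qv z ρ x v, ∀ b ∈ qv z ρ x v, a * b = b * a := by
    intro a ha b hb
    rcases (S.esx hc).conj_cases ha.1 hb.1 with e | e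
    · exact conj_eq_iff.mp e
    · exact absurd (by rw [e, (S.esx hc).comm b hb.1, mul_inv_cancel_right])
        (hall a (S.qv_le_rr T hv h1 ha) b (S.qv_le_rr T hv h1 hb))
  have hh := S.card_cent hc (H := qv z ρ x v) inf_le_left ⟨(S.esx hc).mem, S.vee_le_cv T hv⟩
  have hle' : qv z ρ x v ≤ coreCent v ⊓ Subgroup.centralizer (qv z ρ x v : Set G) :=
    fun a ha => ⟨ha.1, mem_cent_set.mpr fun b hb => hab a ha b hb⟩
  have hle'' := Subgroup.card_le_of_le hle'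
  rw [S.card_qv T hv h1] at hh hle''
  omega

/-- The centralizer of the eight-group maps onto the alternating group with kernel `R`. -/
theorem phi_cv : ∃ φ : ↥(cv z ρ x) →* A6, Function.Surjective φ ∧ ∀ c, φ c = 1 ↔ (c : G) ∈ rr z ρ x := by
  obtain ⟨φ, hs, hk⟩ := S.phi T.pair
  have hle : cv z ρ x ≤ Pc z x := fun c hc => mem_Pc.mpr ⟨S.cv_z T hc, S.cv_x T hc⟩
  refine ⟨φ.comp (Subgroup.inclusion hle), fun g => ?_, fun c => ?_⟩
  · obtain ⟨p, hpM, hpg⟩ := S.surj_M T.pair φ hs g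
    obtain ⟨hpz, hpx⟩ := mem_Pc.mp p.2
    have hyQ := S.y_mem T
    rcases (S.rot_cases T.pair.mem hpz hpx).1 hpM with e | e
    · exact ⟨⟨p, mem_cv_gen hpz hpx (conj_eq_iff.mp e)⟩, hpg⟩
    · obtain ⟨t, ht, htx, hty⟩ : ∃ t ∈ coreCent z, t * x = x * t ∧ t * rot ρ x ≠ rot ρ x * t := by
        by_contra hall
        push Not at hall
        rcases S.es.mem_four T.pair.mem (S.xx T) hyQ (fun t ht htx => (hall t ht htx).symm) with h | h | h | h
        · exact S.ne_one (S.y_cj T) h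
        · exact (S.rot_ne T.pair).2.2 h
        · exact S.x_ne_y T h
        · exact (S.rot_ne T.pair).2.1 (h.trans (S.x_comm T.pair).symm)
      have hty' : t * rot ρ x * t⁻¹ = rot ρ x * z := (S.es.conj_cases ht hyQ).resolve_left fun h => hty (conj_eq_iff.mp h)
      have htP : t ∈ Pc z x := mem_Pc.mpr ⟨S.es.comm t ht, htx⟩
      refine ⟨⟨t * p, mem_cv_gen (Commute.mul_left (S.es.comm t ht) hpz) (Commute.mul_left htx hpx)
        (conj_eq_iff.mp ?_)⟩, ?_⟩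
      · rw [show t * (p : G) * rot ρ x * (t * p)⁻¹ = t * ((p : G) * rot ρ x * (p : G)⁻¹) * t⁻¹ by group, e,
          show t * (rot ρ x * z) * t⁻¹ = (t * rot ρ x * t⁻¹) * (t * z * t⁻¹) by group, hty',
          conj_eq_iff.mpr (S.es.comm t ht), mul_assoc, S.zz, mul_one]
      · obtain ⟨t', ht', e'⟩ := hk.ge (Subgroup.mem_sup_left (mem_U.mpr ⟨ht, htx⟩) : t ∈ U x z ⊔ U z x)
        have he : (⟨t, htP⟩ : ↥(Pc z x)) = t' := Subtype.ext e'.symm
        show φ (⟨t, htP⟩ * p) = g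
        rw [map_mul, he, MonoidHom.mem_ker.mp ht', one_mul, hpg]
  · constructor
    · intro hc
      have h1 : (c : G) ∈ U x z ⊔ U z x :=
        hk ▸ Subgroup.mem_map_of_mem (Pc z x).subtype (show Subgroup.inclusion hle c ∈ φ.ker from hc)
      obtain ⟨u, hu, t, ht, e⟩ := mem_sup (S.U_norm_T T.pair) (sup_comm (U x z) (U z x) ▸ h1)
      obtain ⟨hux, huz⟩ := mem_U.mp hu
      have huM : u ∈ M := by
        have := mul_mem (S.cv_le_M T c.2) (inv_mem (S.Q_le (mem_U.mp ht).1))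
        rwa [e, mul_inv_cancel_right] at this
      have huy : u * rot ρ x = rot ρ x * u := by
        rcases (S.rot_cases T.pair.mem huz (S.U_comm T.pair.cj hu)).1 huM with f | f
        · exact conj_eq_iff.mp f
        · rcases (S.esx T.pair.cj).conj_cases hux T.core with f' | f'
          · exact conj_eq_iff.mp f'
          · exact absurd (mul_left_cancel (f'.symm.trans f)) T.pair.ne
      have huV : u ∈ cv z ρ x := mem_cv_gen huz (S.U_comm T.pair.cj hu) huy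
      have htV : t ∈ cv z ρ x := by
        have := mul_mem (inv_mem huV) c.2
        rwa [e, inv_mul_cancel_left] at this
      rw [e]
      exact mul_mem (Subgroup.mem_sup_right ⟨hux, huV⟩) (Subgroup.mem_sup_left ⟨(mem_U.mp ht).1, htV⟩)
    · intro hc
      have h1 : rr z ρ x ≤ U x z ⊔ U z x := sup_le
        (fun a ha => Subgroup.mem_sup_left (mem_U.mpr ⟨ha.1, S.cv_x T ha.2⟩))
        (fun a ha => Subgroup.mem_sup_right (mem_U.mpr ⟨ha.1, S.cv_z T ha.2⟩))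
      obtain ⟨t, ht, e⟩ := hk.ge (h1 hc)
      have he : Subgroup.inclusion hle c = t := Subtype.ext e.symm
      show φ (Subgroup.inclusion hle c) = 1
      rw [he]; exact ht

end Setup

end CfsgLib.Fi24Three
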