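import Cfsg.Agent.Lib.Fi24Three.OrbitChecks

/-!
Orbits of the subgroup 3.U₄(3) of SU₆(2) on isotropic vectors: checks.
-/

set_option autoImplicit false
set_option maxRecDepth 30000
set_option Elab.async false

namespace CfsgLib.Fi24Three.Orbit

open CfsgLib.G24 CfsgLib.SUSixSub Equiv

/-- The code of a matrix. -/
def encM (f : Fin 6 → Fin 6 → K) : ℕ :=
  (List.finRange 6).foldr
    (fun i s => (List.finRange 6).foldr (fun k t => dig (f i k) * 2 ^ (12 * (i : ℕ) + 2 * (k : ℕ)) + t) s) 0

theorem genWords_ok : ((List.range 4).all fun i => wordOK gensA (eBGenWords.getD i []) (eBGens.getD i 0)) = true ∧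
    ((List.range 6).all fun i => wordOK gensA (pAGenWords.getD i []) (pAGens.getD i 0)) = true ∧
    wordOK gensA sAWord sA = true ∧ eBGens.length = 4 ∧ pAGens.length = 6 := by decide +kernel

theorem elWordsB_ok : ((List.range 16).all fun i => wordOK eBGens (eBWords.getD i []) (eBEls.getD i 0)) = true ∧
    eBEls.length = 16 ∧ eBEls.Nodup ∧ eBEls.head? = some oneN := by decide +kernel

theorem elWordsA_ok : ((List.range 64).all fun i => wordOK pAGens (pAWords.getD i []) (pAEls.getD i 0)) = true ∧
    pAEls.length = 64 ∧ pAEls.Nodup ∧ pAEls.head? = some oneN := by decide +kernel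

theorem codes_ok : ((eBEls ++ pAEls).all fun n => Nat.beq (encM (mat6 (ofN n))) n) = true := by decide +kernel

theorem fix_ok : (eBGens.all fun n => beqR (mulV (ofN n) (rowN vB)) (rowN vB)) = true ∧
    ((pAGens ++ [sA]).all fun n => beqR (mulV (ofN n) (rowN vA)) (rowN vA)) = true := by decide +kernel

theorem eB_closed : (eBGens.all fun a => eBEls.all fun b => 
    eBEls.contains (encM (mat6 (mulM (ofN a) (ofN b)))) &&
      beqM (mulM (ofN a) (ofN b)) (ofN (encM (mat6 (mulM (ofN a) (ofN b)))))) = true ∧
    (eBEls.all fun a => beqM (mulM (ofN a) (ofN a)) oneM) = true := by decide +kernel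

theorem pA_closed : (pAGens.all fun a => pAEls.all fun b => 
    pAEls.contains (encM (mat6 (mulM (ofN a) (ofN b)))) &&
      beqM (mulM (ofN a) (ofN b)) (ofN (encM (mat6 (mulM (ofN a) (ofN b)))))) = true := by
  decide +kernel

theorem pA_trivial : ((pAEls.drop 1).all fun a =>
    !pAEls.contains (encM (mat6 (mulM (mulM (ofN sA) (ofN a)) (tr (cjM (ofN sA))))))) = true := by decide +kernel

/-- The entries of the representative. -/
def dB (i : Fin 6) : K := rowV (rowN vB) i

/-- The monomial matrix of a permutation fixing the representative. -/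
def mB (p : Perm (Fin 6)) : M6 := ofF fun i k => if i = p k then K.mulK (dB i) (cjK (dB k)) else .o

theorem mB_ok : ∀ p : Perm (Fin 6), p ^ 3 = 1 →
    (eBGens.all fun a => eBEls.contains (encM (mat6 (mulM (mulM (mB p) (ofN a)) (mB p⁻¹)))) &&
      beqM (mulM (mulM (mB p) (ofN a)) (mB p⁻¹)) (ofN (encM (mat6 (mulM (mulM (mB p) (ofN a)) (mB p⁻¹)))))) = true := by
  decide +kernel

end CfsgLib.Fi24Three.Orbit
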