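import Mathlib

/-!
A module of exponent two for the Frobenius group of order twenty-one with an irreducible group of symmetries on
the fixed points of the element of order three.
-/

set_option autoImplicit false
set_option linter.unusedSectionVars false

namespace CfsgLib.Fi24Three

universe u

/-- The data of the module. -/
structure Frob (A : Type u) [AddCommGroup A] (T S : A →+ A) : Prop where
  two : ∀ a : A, a + a = 0
  t7 : ∀ a, T (T (T (T (T (T (T a)))))) = a
  s3 : ∀ a, S (S (S a)) = a
  st : ∀ a, S (T a) = T (T (S a))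
  fix : ∀ a, T a = a → S a = a

namespace Frob

variable {A : Type u} [AddCommGroup A] {T S : A →+ A} (h : Frob A T S)
include h

theorem add_cancel2 (a b : A) : a + (a + b) = b := by rw [← add_assoc, h.two, zero_add]

theorem neg_eq (a : A) : -a = a := neg_eq_of_add_eq_zero_left (h.two a)

/-- The sum over the powers of `T`. -/
theorem e0_fixed (a : A) : T (a + T a + T (T a) + T (T (T a)) + T (T (T (T a))) + T (T (T (T (T a)))) +
      T (T (T (T (T (T a)))))) =
    a + T a + T (T a) + T (T (T a)) + T (T (T (T a))) + T (T (T (T (T a)))) + T (T (T (T (T (T a))))) := by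
  simp only [map_add, h.t7]
  abel

/-- A subgroup invariant under `T` containing the fixed points of `S` is everything. -/
theorem span {B : AddSubgroup A} (hT : ∀ b ∈ B, T b ∈ B) (hS : ∀ a, S a = a → a ∈ B) (a : A) : a ∈ B := by
  have hN : ∀ a, a + S a + S (S a) ∈ B := fun a => hS _ (by simp only [map_add, h.s3]; abel)
  have hTk : ∀ (k : ℕ) (b : A), b ∈ B → T^[k] b ∈ B := by
    intro k
    induction k with
    | zero => exact fun b hb => hb
    | succ k ih => intro b hb; rw [Function.iterate_succ_apply']; exact hT _ (ih b hb)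
  have key : ∀ a, S (S a) ∈ B := by
    intro a
    -- the seven relations
    have h1 := hTk 3 _ (hN (T a))
    have h2 := hTk 6 _ (hN (T (T a)))
    have h3 := hTk 2 _ (hN (T (T (T a))))
    have h4 := hTk 5 _ (hN (T (T (T (T a)))))
    have h5 := hTk 1 _ (hN (T (T (T (T (T a))))))
    have h6 := hTk 4 _ (hN (T (T (T (T (T (T a)))))))
    have h7 := hN a
    have h8 : (a + S a) + T (a + S a) + T (T (a + S a)) + T (T (T (a + S a))) + T (T (T (T (a + S a)))) +
        T (T (T (T (T (a + S a))))) + T (T (T (T (T (T (a + S a)))))) ∈ B :=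
      hS _ (h.fix _ (h.e0_fixed (a + S a)))
    have hsum := add_mem (add_mem (add_mem (add_mem (add_mem (add_mem (add_mem h1 h2) h3) h4) h5) h6) h7) h8
    simp only [Function.iterate_succ_apply', Function.iterate_zero_apply, map_add, h.st, h.t7] at hsum
    convert hsum using 1
    let _ : Module (ZMod 2) A := AddCommGroup.zmodModule (n := 2) fun x => by rw [two_nsmul]; exact h.two x
    rw [← one_smul (ZMod 2) (S (S a))]
    match_scalars <;> decide
  have h1 := key (S a)
  rwa [h.s3] at h1

/-- The cubic relation satisfied by `T`. -/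
theorem cubic (hne : ∃ a, S a ≠ a)
    (hirr : ∀ e : A →+ A, (∀ g : A →+ A, (∀ a, g (T a) = T (g a)) → ∀ a, g (e a) = e (g a)) →
      (∀ a, S a = a → S (e a) = e a) → (∀ a, S a = a → e a = 0 → a = 0) ∨ ∀ a, S a = a → e a = 0) :
    (∀ a, a + T (T a) + T (T (T a)) = 0) ∨ ∀ a, a + T a + T (T (T a)) = 0 := by
  let _ : Module (ZMod 2) A := AddCommGroup.zmodModule (n := 2) fun x => by rw [two_nsmul]; exact h.two x
  let T2 := T.comp T
  let T3 := T.comp T2
  let T4 := T.comp T3
  let T5 := T.comp T4
  let T6 := T.comp T5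
  let θ1 := T + T2 + T4
  let θ2 := T3 + T5 + T6
  let e0 := AddMonoidHom.id A + T + T2 + T3 + T4 + T5 + T6
  let e1 := θ1 + e0
  let e2 := θ2 + e0
  have comp : ∀ e ∈ [e0, e1, e2], (∀ g : A →+ A, (∀ a, g (T a) = T (g a)) → ∀ a, g (e a) = e (g a)) ∧
      ∀ a, S a = a → S (e a) = e a := by
    intro e he
    simp only [List.mem_cons, List.not_mem_nil, or_false] at he
    refine ⟨fun g hg a => ?_, fun a ha => ?_⟩
    · rcases he with rfl | rfl | rfl <;>
        simp [e0, e1, e2, θ1, θ2, T2, T3, T4, T5, T6, map_add, hg]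
    · rcases he with rfl | rfl | rfl <;>
        (simp [e0, e1, e2, θ1, θ2, T2, T3, T4, T5, T6, map_add, h.st, h.t7, ha]; abel)
  have d0 := hirr e0 (comp e0 (by simp)).1 (comp e0 (by simp)).2
  have d1 := hirr e1 (comp e1 (by simp)).1 (comp e1 (by simp)).2
  have d2 := hirr e2 (comp e2 (by simp)).1 (comp e2 (by simp)).2
  have s0 := (comp e0 (by simp)).2
  have s1 := (comp e1 (by simp)).2
  have s2 := (comp e2 (by simp)).2
  have o01 : ∀ a, e0 (e1 a) = 0 := fun a => by
    rw [← zero_smul (ZMod 2) a]
    simp only [e0, e1, θ1, T2, T3, T4, T5, T6, AddMonoidHom.add_apply, AddMonoidHom.comp_apply, AddMonoidHom.id_apply,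
      map_add, h.t7]
    match_scalars <;> decide
  have o02 : ∀ a, e0 (e2 a) = 0 := fun a => by
    rw [← zero_smul (ZMod 2) a]
    simp only [e0, e2, θ2, T2, T3, T4, T5, T6, AddMonoidHom.add_apply, AddMonoidHom.comp_apply, AddMonoidHom.id_apply,
      map_add, h.t7]
    match_scalars <;> decide
  have o12 : ∀ a, e1 (e2 a) = 0 := fun a => by
    rw [← zero_smul (ZMod 2) a]
    simp only [e0, e1, e2, θ1, θ2, T2, T3, T4, T5, T6, AddMonoidHom.add_apply, AddMonoidHom.comp_apply,
      AddMonoidHom.id_apply, map_add, h.t7]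
    match_scalars <;> decide
  have osum : ∀ a, a = e0 a + e1 a + e2 a := fun a => by
    nth_rewrite 1 [← one_smul (ZMod 2) a]
    simp only [e0, e1, e2, θ1, θ2, T2, T3, T4, T5, T6, AddMonoidHom.add_apply, AddMonoidHom.comp_apply,
      AddMonoidHom.id_apply]
    match_scalars <;> decide
  have hfix0 : ∀ a, T (e0 a) = e0 a := fun a => by
    simp [e0, T2, T3, T4, T5, T6, map_add, h.t7]; abel
  -- the part fixed by `T` has no fixed points of `S`
  have z0 : ∀ a, S a = a → e0 a = 0 := by
    rcases d0 with d | d
    · exfalso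
      obtain ⟨a, ha⟩ := hne
      have hTF : ∀ b, S b = b → T b = b := fun b hb => by
        have e1' : e1 b = 0 := d _ (s1 b hb) (o01 b)
        have e2' : e2 b = 0 := d _ (s2 b hb) (o02 b)
        have hb0 := osum b
        rw [e1', e2', add_zero, add_zero] at hb0
        rw [hb0, hfix0]
      let B : AddSubgroup A :=
        { carrier := {b | S b = b}
          zero_mem' := map_zero S
          add_mem' := fun {b c} hb hc => by
            show S (b + c) = b + c
            rw [map_add, show S b = b from hb, show S c = c from hc]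
          neg_mem' := fun {b} hb => by
            show S (-b) = -b
            rw [map_neg, show S b = b from hb] }
      exact ha (h.span (B := B) (fun b hb => by show S (T b) = T b; rw [hTF b hb]; exact hb) (fun b hb => hb) a)
    · exact d
  have kill : ∀ e : A →+ A, (∀ g : A →+ A, (∀ a, g (T a) = T (g a)) → ∀ a, g (e a) = e (g a)) →
      (∀ a, S a = a → e a = 0) → ∀ a, e a = 0 := fun e he hz a => by
    let B : AddSubgroup A := e.ker
    exact h.span (B := B) (fun b hb => by
      show e (T b) = 0
      rw [← he T (fun a => rfl) b, show e b = 0 from hb, map_zero]) hz a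
  have e0z : ∀ a, e0 a = 0 := kill e0 (comp e0 (by simp)).1 z0
  have c01 : ∀ a, e0 a + e1 a = T a + T (T a) + T (T (T (T a))) := fun a => by
    rw [← sub_eq_zero, sub_eq_add_neg, h.neg_eq, ← zero_smul (ZMod 2) a]
    simp only [e0, e1, θ1, T2, T3, T4, T5, T6, AddMonoidHom.add_apply, AddMonoidHom.comp_apply, AddMonoidHom.id_apply]
    match_scalars <;> decide
  have c02 : ∀ a, e0 a + e2 a = T (T (T a)) + T (T (T (T (T a)))) + T (T (T (T (T (T a))))) := fun a => by
    rw [← sub_eq_zero, sub_eq_add_neg, h.neg_eq, ← zero_smul (ZMod 2) a]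
    simp only [e0, e2, θ2, T2, T3, T4, T5, T6, AddMonoidHom.add_apply, AddMonoidHom.comp_apply, AddMonoidHom.id_apply]
    match_scalars <;> decide
  rcases d1 with d | d
  · -- `e1` is the identity
    left
    have z2 : ∀ a, e2 a = 0 := kill e2 (comp e2 (by simp)).1 fun a ha => d _ (s2 a ha) (o12 a)
    intro a
    have hid : ∀ a, T a + T (T a) + T (T (T (T a))) = a := fun a => by
      rw [← c01, e0z, zero_add]
      conv_rhs => rw [osum a, e0z, z2, zero_add, add_zero]
    set b := a + T (T a) + T (T (T a)) with hb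
    have hbf : T b = b := by
      have h2 : T b = T a + T (T (T a)) + T (T (T (T a))) := by rw [hb]; simp only [map_add]
      rw [h2]
      conv_rhs => rw [hb]; arg 1; arg 1; rw [← hid a]
      rw [← one_smul (ZMod 2) (T a)]
      match_scalars <;> decide
    have h7 := e0z b
    simp only [e0, T2, T3, T4, T5, T6, AddMonoidHom.add_apply, AddMonoidHom.comp_apply, AddMonoidHom.id_apply, hbf] at h7
    rwa [h.two, zero_add, h.two, zero_add, h.two, zero_add] at h7
  · right
    have z1 : ∀ a, e1 a = 0 := kill e1 (comp e1 (by simp)).1 d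
    intro a
    have hid : ∀ a, T (T (T a)) + T (T (T (T (T a)))) + T (T (T (T (T (T a))))) = a := fun a => by
      rw [← c02, e0z, zero_add]
      conv_rhs => rw [osum a, e0z, z1, add_zero, zero_add]
    set b := a + T a + T (T (T a)) with hb
    have hbf : T b = b := by
      have h4 := hid (T (T (T (T a))))
      simp only [h.t7] at h4
      have h2 : T b = T a + T (T a) + T (T (T (T a))) := by rw [hb]; simp only [map_add]
      rw [h2, ← h4, hb, ← one_smul (ZMod 2) (T a)]
      match_scalars <;> decide
    have h7 := e0z b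
    simp only [e0, T2, T3, T4, T5, T6, AddMonoidHom.add_apply, AddMonoidHom.comp_apply, AddMonoidHom.id_apply, hbf] at h7
    rwa [h.two, zero_add, h.two, zero_add, h.two, zero_add] at h7

end Frob

end CfsgLib.Fi24Three
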