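import Cfsg.Agent.Lib.Fi24Three.Frobenius
import Cfsg.Agent.Lib.Fi24Three.Seven

/-!
The section `R/V` as a module for the Frobenius group and the alternating group.
-/

set_option autoImplicit false
set_option linter.unusedSectionVars false

namespace CfsgLib.Fi24Three

open CfsgLargeExtra

universe u

variable {G : Type u} [Group G] [Finite G]

/-- The centralizer in `R` of the element of order three. -/
def crho (z ρ x : G) : Subgroup G := rr z ρ x ⊓ Subgroup.centralizer ({ρ} : Set G)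

/-- The common centralizer in the centralizer of the eight-group of the elements of orders three and seven. -/
def k2 (z ρ x φ : G) : Subgroup G :=
  cv z ρ x ⊓ (Subgroup.centralizer ({ρ} : Set G) ⊓ Subgroup.centralizer ({φ} : Set G))

theorem mem_crho {z ρ x a : G} : a ∈ crho z ρ x ↔ a ∈ rr z ρ x ∧ a * ρ = ρ * a :=
  ⟨fun h => ⟨h.1, mem_cent.mp h.2⟩, fun h => ⟨h.1, mem_cent.mpr h.2⟩⟩

theorem mem_k2 {z ρ x φ c : G} : c ∈ k2 z ρ x φ ↔ c ∈ cv z ρ x ∧ c * ρ = ρ * c ∧ c * φ = φ * c :=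
  ⟨fun h => ⟨h.1, mem_cent.mp h.2.1, mem_cent.mp h.2.2⟩, fun h => ⟨h.1, mem_cent.mpr h.2.1, mem_cent.mpr h.2.2⟩⟩

namespace Setup

variable {z : G} {M : Subgroup G} {ρ : G} (S : Setup z M ρ) {x : G} (T : Tri z ρ x)
include S T

theorem rho_mem_rr {a : G} (ha : a ∈ rr z ρ x) : a⁻¹ * (ρ * a * ρ⁻¹) ∈ qv z ρ x z := by
  have hac := S.rr_le_cv T ha
  refine mem_qv.mpr ⟨?_, mul_mem (inv_mem hac) (S.cv_conj T (S.rho_norm T) hac)⟩
  have h1 := inv_mem (S.central a (S.cv_le_M T hac))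
  have h2 := S.nor (c := a⁻¹) (comm_inv (S.cv_z T hac)) h1
  simpa [mul_assoc] using h2

theorem crho_vee {a : G} (ha : a ∈ crho z ρ x) (hv : a ∈ vee z ρ x) : a = 1 ∨ a = z :=
  S.rot_fixed T hv (conj_eq_iff.mpr (mem_crho.mp ha).2.symm)

theorem z_mem_crho : z ∈ crho z ρ x :=
  mem_crho.mpr ⟨S.vee_le_rr T z_mem_vee, S.rho_z.symm⟩

theorem card_crho : Nat.card (crho z ρ x) = 32 := by
  have hn : crho z ρ x ≤ Subgroup.normalizer (qv z ρ x z : Set G) :=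
    le_norm fun c hc b hb => by
      have hcv := S.rr_le_cv T (mem_crho.mp hc).1
      exact mem_qv.mpr ⟨S.nor (S.cv_z T hcv) hb.1, mul_mem (mul_mem hcv hb.2) (inv_mem hcv)⟩
  have h := CfsgLib.CentrallyLarge.card_sup_mul_card_inf hn
  have hsup : qv z ρ x z ⊔ crho z ρ x = rr z ρ x := by
    refine le_antisymm (sup_le le_sup_left fun a ha => (mem_crho.mp ha).1) fun a ha => ?_
    obtain ⟨d, hd, hdX, hdf⟩ := coset_fixed (H := rr z ρ x) (X := qv z ρ x z) (s := ρ) (p := 3)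
      ⟨11, S.card_qv T z_mem_vee S.es.ne⟩ Nat.prime_three (by norm_num)
      (by rw [← S.rho_ord, pow_orderOf_eq_one])
      (fun b hb => by
        have := S.qv_conj T (S.rho_norm T) hb
        rwa [show ρ * z * ρ⁻¹ = z from S.rot_z] at this)
      le_sup_left ha (S.rho_mem_rr T ha)
    have h1 : a = d * (d⁻¹ * a) := by group
    rw [h1, sup_comm]
    refine Subgroup.mul_mem_sup (mem_crho.mpr ⟨hd, (conj_eq_iff.mp hdf).symm⟩) ?_
    have := inv_mem hdX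
    rwa [mul_inv_rev, inv_inv] at this
  have hinf : Nat.card ↥(qv z ρ x z ⊓ crho z ρ x) = 2 := by
    have he : qv z ρ x z ⊓ crho z ρ x = Subgroup.zpowers z := by
      refine le_antisymm (fun a ha => ?_) (Subgroup.zpowers_le.mpr
        ⟨mem_qv.mpr ⟨S.es.mem, S.vee_le_cv T z_mem_vee⟩, S.z_mem_crho T⟩)
      rcases S.fpf a ha.1.1 (Or.inl (conj_eq_iff.mpr (mem_crho.mp ha.2).2.symm)) with e | e <;> rw [e]
      exacts [one_mem _, Subgroup.mem_zpowers z]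
    rw [he, Nat.card_zpowers, S.hz]
  rw [hsup, hinf, S.card_qv T z_mem_vee S.es.ne, S.card_rr T] at h
  omega

/-- An element of `R` fixed modulo the eight-group by the element of order three. -/
theorem crho_lift {a : G} (ha : a ∈ rr z ρ x) (h : a⁻¹ * (ρ * a * ρ⁻¹) ∈ vee z ρ x) :
    ∃ d ∈ crho z ρ x, a⁻¹ * d ∈ vee z ρ x := by
  obtain ⟨d, hd, hdX, hdf⟩ := coset_fixed (H := rr z ρ x) (X := vee z ρ x) (s := ρ) (p := 3)
    ⟨3, S.card_vee T⟩ Nat.prime_three (by norm_num) (by rw [← S.rho_ord, pow_orderOf_eq_one])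
    (fun b hb => S.rot_vee T hb) (S.vee_le_rr T) ha h
  exact ⟨d, mem_crho.mpr ⟨hd, (conj_eq_iff.mp hdf).symm⟩, hdX⟩

variable {φ : G} (F : Sev z ρ x φ)
include F

theorem phi_vee {a : G} (ha : a ∈ vee z ρ x) : φ * a * φ⁻¹ ∈ vee z ρ x :=
  (Subgroup.mem_normalizer_iff.mp F.norm a).mp ha

theorem phi_rr {a : G} (ha : a ∈ rr z ρ x) : φ * a * φ⁻¹ ∈ rr z ρ x := S.rr_conj T F.norm ha

theorem rel_conj {r : ℕ} (hr : ρ * φ * ρ⁻¹ = φ ^ r) (a : G) :
    ρ * (φ * a * φ⁻¹) * ρ⁻¹ = φ ^ r * (ρ * a * ρ⁻¹) * (φ ^ r)⁻¹ := by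
  rw [← hr]; group

theorem exists_rel : ∃ r r' : ℕ, ρ * φ * ρ⁻¹ = φ ^ r ∧ φ ^ (r * r') = φ ∧ ρ⁻¹ * φ * ρ = φ ^ r' := by
  have key : ∀ r r' : ℕ, ρ * φ * ρ⁻¹ = φ ^ r → φ ^ (r * r') = φ →
      ∃ r r' : ℕ, ρ * φ * ρ⁻¹ = φ ^ r ∧ φ ^ (r * r') = φ ∧ ρ⁻¹ * φ * ρ = φ ^ r' := by
    intro r r' hr he
    refine ⟨r, r', hr, he, ?_⟩
    have h2 : ρ * φ ^ r' * ρ⁻¹ = φ := by rw [← conj_pow, hr, ← pow_mul, he]
    calc ρ⁻¹ * φ * ρ = ρ⁻¹ * (ρ * φ ^ r' * ρ⁻¹) * ρ := by rw [h2]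
      _ = φ ^ r' := by group
  have h8 : φ ^ 8 = φ := by rw [pow_succ, F.ord, one_mul]
  rcases F.rel with h | h
  · exact key 2 4 h h8
  · exact key 4 2 h h8

/-- The element of order three preserves the centralizer of the element of order seven. -/
theorem rho_cent {a : G} (ha : a * φ = φ * a) : ρ * a * ρ⁻¹ * φ = φ * (ρ * a * ρ⁻¹) := by
  obtain ⟨r, r', -, -, hr'⟩ := S.exists_rel T F
  have h : Commute a (ρ⁻¹ * φ * ρ) := by rw [hr']; exact (show Commute a φ from ha).pow_right r'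
  have := congrArg (fun t => ρ * t * ρ⁻¹) h.eq
  simpa [mul_assoc] using this

/-- The common centralizer maps onto the alternating group. -/
theorem phi_k2 : ∃ ψ : ↥(k2 z ρ x φ) →* A6, Function.Surjective ψ ∧ ∀ c, ψ c = 1 ↔ (c : G) ∈ rr z ρ x := by
  obtain ⟨ψ, hs, hk⟩ := S.phi_cv T
  have hle : k2 z ρ x φ ≤ cv z ρ x := inf_le_left
  refine ⟨ψ.comp (Subgroup.inclusion hle), fun g => ?_, fun c => hk _⟩
  obtain ⟨c, rfl⟩ := hs g
  have hmove : ∀ s : G, s * c * s⁻¹ * (c : G)⁻¹ ∈ rr z ρ x → (c : G)⁻¹ * (s * c * s⁻¹) ∈ rr z ρ x := fun s hs => by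
    have := S.rr_conj T (S.cv_le_norm T (inv_mem c.2)) hs
    simpa [mul_assoc] using this
  obtain ⟨d, hd, hdX, hdf⟩ := coset_fixed (H := cv z ρ x) (X := rr z ρ x) (s := φ) (p := 7)
    ⟨15, S.card_rr T⟩ (by norm_num) (by norm_num) F.ord (fun a ha => S.phi_rr T F ha) (S.rr_le_cv T) c.2
    (hmove φ (F.triv c c.2))
  let H' : Subgroup G := cv z ρ x ⊓ Subgroup.centralizer ({φ} : Set G)
  let X' : Subgroup G := rr z ρ x ⊓ Subgroup.centralizer ({φ} : Set G)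
  have hX' : ∃ k, Nat.card X' = 2 ^ k := by
    have hdvd : Nat.card X' ∣ 2 ^ 15 := S.card_rr T ▸ Subgroup.card_dvd_of_le inf_le_left
    obtain ⟨k, -, hk⟩ := (Nat.dvd_prime_pow Nat.prime_two).mp hdvd
    exact ⟨k, hk⟩
  have hd' : d * φ = φ * d := (conj_eq_iff.mp hdf).symm
  have hmove2 : d⁻¹ * (ρ * d * ρ⁻¹) ∈ X' := by
    refine ⟨?_, mem_cent.mpr ?_⟩
    · have := S.rr_conj T (S.cv_le_norm T (inv_mem hd)) (S.rho_triv T hd)
      simpa [mul_assoc] using this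
    · exact Commute.mul_left (comm_inv hd') (S.rho_cent T F hd')
  obtain ⟨e, he, heX, hef⟩ := coset_fixed (H := H') (X := X') (s := ρ) (p := 3) hX' Nat.prime_three (by norm_num)
    (by rw [← S.rho_ord, pow_orderOf_eq_one])
    (fun a ha => ⟨S.rot_rr T ha.1, mem_cent.mpr (S.rho_cent T F (mem_cent.mp ha.2))⟩)
    (inf_le_inf_right _ (S.rr_le_cv T)) ⟨hd, mem_cent.mpr hd'⟩ hmove2
  have heK : e ∈ k2 z ρ x φ := mem_k2.mpr ⟨he.1, (conj_eq_iff.mp hef).symm, mem_cent.mp he.2⟩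
  refine ⟨⟨e, heK⟩, ?_⟩
  show ψ ⟨e, he.1⟩ = ψ c
  have h1 : (c⁻¹ * ⟨e, he.1⟩ : ↥(cv z ρ x)) = (c⁻¹ * ⟨e, he.1⟩) := rfl
  have h2 : ψ (c⁻¹ * ⟨e, he.1⟩) = 1 := (hk _).mpr (by
    have := mul_mem hdX heX.1
    simpa [mul_assoc] using this)
  rw [map_mul, map_inv, inv_mul_eq_one] at h2
  exact h2.symm

/-- The images of `z` under the powers of the element of order seven exhaust the eight-group. -/
theorem exists_power {v : G} (hv : v ∈ vee z ρ x) (hv1 : v ≠ 1) : ∃ k : ℕ, φ ^ k * z * (φ ^ k)⁻¹ = v := by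
  classical
  have hmem : ∀ k : ℕ, φ ^ k * z * (φ ^ k)⁻¹ ∈ vee z ρ x := fun k =>
    (Subgroup.mem_normalizer_iff.mp (pow_mem F.norm k) z).mp z_mem_vee
  let f : Fin 7 → {v : ↥(vee z ρ x) // v ≠ 1} := fun k =>
    ⟨⟨_, hmem k⟩, fun e => S.es.ne (conj_eq_one_iff.mp (congrArg Subtype.val e))⟩
  have hinj : Function.Injective f := by
    intro i j hij
    have e : φ ^ (i : ℕ) * z * (φ ^ (i : ℕ))⁻¹ = φ ^ (j : ℕ) * z * (φ ^ (j : ℕ))⁻¹ :=
      congrArg (fun a => ((a.1 : ↥(vee z ρ x)) : G)) hij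
    by_contra hne
    -- a nontrivial power fixes `z`
    have hfix : ∀ i j : Fin 7, (i : ℕ) < j → φ ^ (i : ℕ) * z * (φ ^ (i : ℕ))⁻¹ = φ ^ (j : ℕ) * z * (φ ^ (j : ℕ))⁻¹ →
        False := by
      intro i j hlt e
      obtain ⟨d, hd⟩ := Nat.exists_eq_add_of_lt hlt
      rw [hd, show (i : ℕ) + d + 1 = (i : ℕ) + (d + 1) by omega, pow_add] at e
      have e2 : Commute (φ ^ (d + 1)) z := by
        have h' : φ ^ (d + 1) * z * (φ ^ (d + 1))⁻¹ = z := by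
          have := congrArg (fun t => (φ ^ (i : ℕ))⁻¹ * t * φ ^ (i : ℕ)) e
          simpa [mul_assoc] using this.symm
        exact conj_eq_iff.mp h'
      obtain ⟨m, hm⟩ : ∃ m, (d + 1) * m % 7 = 1 := by
        have hd6 : d < 6 := by omega
        interval_cases d
        exacts [⟨1, rfl⟩, ⟨4, rfl⟩, ⟨5, rfl⟩, ⟨2, rfl⟩, ⟨3, rfl⟩, ⟨6, rfl⟩]
      have e3 := e2.pow_left m
      rw [← pow_mul, ← Nat.div_add_mod ((d + 1) * m) 7, hm, pow_add, pow_mul, F.ord, one_pow, one_mul, pow_one] at e3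
      exact S.es.ne (F.moves z z_mem_vee (conj_eq_iff.mpr e3.eq))
    rcases Nat.lt_trichotomy (i : ℕ) j with h | h | h
    · exact hfix i j h e
    · exact hne (Fin.ext h)
    · exact hfix j i h e.symm
  have hcard : Nat.card {v : ↥(vee z ρ x) // v ≠ 1} = 7 := by
    have := Fintype.ofFinite ↥(vee z ρ x)
    rw [Nat.card_eq_fintype_card, Fintype.card_subtype_compl, Fintype.card_subtype_eq, ← Nat.card_eq_fintype_card,
      S.card_vee T]
  obtain ⟨k, hk⟩ := ((Nat.bijective_iff_injective_and_card f).mpr ⟨hinj, by rw [hcard, Nat.card_fin]⟩).2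
    ⟨⟨v, hv⟩, fun e => hv1 (congrArg Subtype.val e)⟩
  exact ⟨k, congrArg (fun a => ((a.1 : ↥(vee z ρ x)) : G)) hk⟩

/-- An element fixed modulo the eight-group by the element of order seven is fixed by that of order three. -/
theorem fix_of_phi {a : G} (ha : a ∈ rr z ρ x) (h : a⁻¹ * (φ * a * φ⁻¹) ∈ vee z ρ x) :
    a⁻¹ * (ρ * a * ρ⁻¹) ∈ vee z ρ x := by
  set V := vee z ρ x
  set t := a⁻¹ * (ρ * a * ρ⁻¹) with ht
  have htq := S.rho_mem_rr T ha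
  have hvc : ∀ v ∈ V, ∀ c ∈ cv z ρ x, c * v * c⁻¹ = v := fun v hv c hc => conj_eq_iff.mpr (mem_cv.mp hc v hv)
  have hpow : ∀ k, φ ^ k * a * (φ ^ k)⁻¹ ∈ rr z ρ x ∧ a⁻¹ * (φ ^ k * a * (φ ^ k)⁻¹) ∈ V := by
    intro k
    induction k with
    | zero => simp [ha, one_mem]
    | succ k ih =>
      have e : φ ^ (k + 1) * a * (φ ^ (k + 1))⁻¹ = φ * (φ ^ k * a * (φ ^ k)⁻¹) * φ⁻¹ := by rw [pow_succ']; group
      rw [e]
      refine ⟨S.phi_rr T F ih.1, ?_⟩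
      have h' := mul_mem h (S.phi_vee T F ih.2)
      have e2 : a⁻¹ * (φ * a * φ⁻¹) * (φ * (a⁻¹ * (φ ^ k * a * (φ ^ k)⁻¹)) * φ⁻¹) =
          a⁻¹ * (φ * (φ ^ k * a * (φ ^ k)⁻¹) * φ⁻¹) := by group
      rwa [e2] at h'
  obtain ⟨r, r', hr, hrr, hr'⟩ := S.exists_rel T F
  -- the commutator is fixed modulo the eight-group
  have htf : t⁻¹ * (φ * t * φ⁻¹) ∈ V := by
    set w := a⁻¹ * (φ ^ r' * a * (φ ^ r')⁻¹) with hw
    set w1 := a⁻¹ * (φ * a * φ⁻¹) with hw1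
    have hw' : w ∈ V := (hpow r').2
    have e1 : φ * (ρ * a * ρ⁻¹) * φ⁻¹ = ρ * a * ρ⁻¹ * (ρ * w * ρ⁻¹) := by
      have hφ : φ = ρ * φ ^ r' * ρ⁻¹ := by rw [← hr']; group
      rw [hw]
      conv_lhs => rw [hφ]
      group
    have e2 : φ * t * φ⁻¹ = (w1⁻¹ * t) * (ρ * w * ρ⁻¹) := by
      calc φ * t * φ⁻¹ = (φ * a * φ⁻¹)⁻¹ * (φ * (ρ * a * ρ⁻¹) * φ⁻¹) := by rw [ht]; group
        _ = (w1⁻¹ * a⁻¹) * (ρ * a * ρ⁻¹ * (ρ * w * ρ⁻¹)) := by rw [e1, hw1]; group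
        _ = _ := by rw [ht]; group
    rw [e2, show t⁻¹ * (w1⁻¹ * t * (ρ * w * ρ⁻¹)) = (t⁻¹ * w1⁻¹ * t⁻¹⁻¹) * (ρ * w * ρ⁻¹) by group,
      hvc _ (inv_mem h) _ (inv_mem htq.2)]
    exact mul_mem (inv_mem h) (S.rot_vee T hw')
  have htk : ∀ k, t⁻¹ * (φ ^ k * t * (φ ^ k)⁻¹) ∈ V := by
    intro k
    induction k with
    | zero => simp [one_mem]
    | succ k ih =>
      have h' := mul_mem htf (S.phi_vee T F ih)
      have e2 : t⁻¹ * (φ * t * φ⁻¹) * (φ * (t⁻¹ * (φ ^ k * t * (φ ^ k)⁻¹)) * φ⁻¹) =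
          t⁻¹ * (φ * (φ ^ k * t * (φ ^ k)⁻¹) * φ⁻¹) := by group
      rw [e2] at h'
      rw [show φ ^ (k + 1) * t * (φ ^ (k + 1))⁻¹ = φ * (φ ^ k * t * (φ ^ k)⁻¹) * φ⁻¹ by rw [pow_succ']; group]
      exact h'
  have hcore : ∀ v ∈ V, v ≠ 1 → t ∈ coreCent v := by
    intro v hv hv1
    obtain ⟨k, rfl⟩ := S.exists_power T F hv hv1
    have h1 : φ ^ k * t * (φ ^ k)⁻¹ ∈ coreCent (φ ^ k * z * (φ ^ k)⁻¹) := conj_mem_core.mpr htq.1
    have h2 := (S.vee_point T hv hv1).2 (htk k)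
    have := mul_mem h1 (inv_mem h2)
    rwa [mul_inv_rev, mul_inv_cancel_left, inv_inv] at this
  exact S.inter_three T htq.1 (hcore x x_mem_vee (S.x_ne T)) (hcore _ y_mem_vee (S.ne_one (S.y_cj T)))

/-- The module `R/V`. -/
theorem exists_module : ∃ (A : Type u) (_ : AddCommGroup A) (π : ↥(rr z ρ x) → A) (Tm Sm : A →+ A),
    Function.Surjective π ∧ (∀ a b, π (a * b) = π a + π b) ∧ (∀ a, π a = 0 ↔ (a : G) ∈ vee z ρ x) ∧
    (∀ a : ↥(rr z ρ x), π ⟨φ * a * φ⁻¹, S.phi_rr T F a.2⟩ = Tm (π a)) ∧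
    (∀ a : ↥(rr z ρ x), π ⟨ρ * a * ρ⁻¹, S.rot_rr T a.2⟩ = Sm (π a)) ∧
    (Frob A Tm Sm ∨ Frob A Tm (Sm.comp Sm)) := by
  have hn : ((vee z ρ x).subgroupOf (rr z ρ x)).Normal := ⟨fun v hv c => by
    rw [Subgroup.mem_subgroupOf] at hv ⊢
    rw [Subgroup.coe_mul, Subgroup.coe_mul, InvMemClass.coe_inv,
      conj_eq_iff.mpr (mem_cv.mp (S.rr_le_cv T c.2) _ hv)]
    exact hv⟩
  let Q := ↥(rr z ρ x) ⧸ (vee z ρ x).subgroupOf (rr z ρ x)
  let _ : CommGroup Q :=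
    { (inferInstance : Group Q) with
      mul_comm := fun a b => by
        induction a using QuotientGroup.induction_on with | _ a => ?_
        induction b using QuotientGroup.induction_on with | _ b => ?_
        rw [← QuotientGroup.mk_mul, ← QuotientGroup.mk_mul, QuotientGroup.eq, Subgroup.mem_subgroupOf]
        have := S.rr_comm T (inv_mem b.2) (inv_mem a.2)
        simpa [mul_assoc] using this }
  let cmap : ∀ s : G, (∀ a ∈ rr z ρ x, s * a * s⁻¹ ∈ rr z ρ x) → ↥(rr z ρ x) →* ↥(rr z ρ x) := fun s hs =>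
    { toFun := fun a => ⟨s * a * s⁻¹, hs a a.2⟩
      map_one' := Subtype.ext (by simp)
      map_mul' := fun a b => Subtype.ext (by simp [mul_assoc]) }
  let Tq : Q →* Q := QuotientGroup.map _ _ (cmap φ fun a ha => S.phi_rr T F ha) fun a ha => S.phi_vee T F ha
  let Sq : Q →* Q := QuotientGroup.map _ _ (cmap ρ fun a ha => S.rot_rr T ha) fun a ha => S.rot_vee T ha
  let π : ↥(rr z ρ x) → Additive Q := fun a => Additive.ofMul (QuotientGroup.mk a)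
  let Tm : Additive Q →+ Additive Q := MonoidHom.toAdditive Tq
  let Sm : Additive Q →+ Additive Q := MonoidHom.toAdditive Sq
  have hπs : Function.Surjective π := fun a => by
    obtain ⟨b, hb⟩ := QuotientGroup.mk'_surjective _ (Additive.toMul a)
    exact ⟨b, congrArg Additive.ofMul hb⟩
  have hπ0 : ∀ a, π a = 0 ↔ (a : G) ∈ vee z ρ x := fun a => by
    show (QuotientGroup.mk a : Q) = 1 ↔ _
    rw [QuotientGroup.eq_one_iff, Subgroup.mem_subgroupOf]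
  have hπeq : ∀ a b, π a = π b ↔ (a : G)⁻¹ * b ∈ vee z ρ x := fun a b => by
    show (QuotientGroup.mk a : Q) = QuotientGroup.mk b ↔ _
    rw [QuotientGroup.eq, Subgroup.mem_subgroupOf]; rfl
  have hT : ∀ a : ↥(rr z ρ x), π ⟨φ * a * φ⁻¹, S.phi_rr T F a.2⟩ = Tm (π a) := fun a => rfl
  have hS : ∀ a : ↥(rr z ρ x), π ⟨ρ * a * ρ⁻¹, S.rot_rr T a.2⟩ = Sm (π a) := fun a => rfl
  have two : ∀ a : Additive Q, a + a = 0 := fun a => by
    obtain ⟨b, rfl⟩ := hπs a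
    exact (hπ0 (b * b)).mpr (S.rr_sq T b.2)
  have hTk : ∀ (k : ℕ) (a : ↥(rr z ρ x)) (h : φ ^ k * a * (φ ^ k)⁻¹ ∈ rr z ρ x),
      π ⟨_, h⟩ = Tm^[k] (π a) := by
    intro k
    induction k with
    | zero => intro a h; exact congrArg π (Subtype.ext (by simp))
    | succ k ih =>
      intro a h
      have h' : φ ^ k * a * (φ ^ k)⁻¹ ∈ rr z ρ x := S.rr_conj T (pow_mem F.norm k) a.2
      rw [Function.iterate_succ_apply', ← ih a h', ← hT]
      exact congrArg π (Subtype.ext (show φ ^ (k + 1) * (a : G) * (φ ^ (k + 1))⁻¹ =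
        φ * (φ ^ k * a * (φ ^ k)⁻¹) * φ⁻¹ by rw [pow_succ']; group))
  have t7 : ∀ a, Tm (Tm (Tm (Tm (Tm (Tm (Tm a)))))) = a := fun a => by
    obtain ⟨b, rfl⟩ := hπs a
    have h := hTk 7 b (by rw [F.ord]; simp [b.2])
    simp only [Function.iterate_succ_apply', Function.iterate_zero_apply] at h
    rw [← h]
    exact congrArg π (Subtype.ext (show φ ^ 7 * (b : G) * (φ ^ 7)⁻¹ = b by rw [F.ord]; simp))
  have s3 : ∀ a, Sm (Sm (Sm a)) = a := fun a => by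
    obtain ⟨b, rfl⟩ := hπs a
    rw [← hS, ← hS, ← hS]
    exact congrArg π (Subtype.ext (S.rot3 (b : G)))
  have fix : ∀ a, Tm a = a → Sm a = a := fun a => by
    obtain ⟨b, rfl⟩ := hπs a
    rw [← hT, ← hS, eq_comm, hπeq, eq_comm, hπeq]
    exact S.fix_of_phi T F b.2
  refine ⟨Additive Q, inferInstance, π, Tm, Sm, hπs, fun a b => rfl, hπ0, hT, hS, ?_⟩
  rcases F.rel with hr | hr
  · refine Or.inl ⟨two, t7, s3, fun a => ?_, fix⟩
    obtain ⟨b, rfl⟩ := hπs a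
    rw [← hT, ← hS, ← hS, ← hT, ← hT]
    refine congrArg π (Subtype.ext ?_)
    show ρ * (φ * b * φ⁻¹) * ρ⁻¹ = φ * (φ * (ρ * b * ρ⁻¹) * φ⁻¹) * φ⁻¹
    rw [S.rel_conj T F hr, pow_two]; group
  · refine Or.inr ⟨two, t7, fun a => ?_, fun a => ?_, fun a h => ?_⟩
    · simp only [AddMonoidHom.comp_apply, s3]
    · obtain ⟨b, rfl⟩ := hπs a
      simp only [AddMonoidHom.comp_apply]
      rw [← hT, ← hS, ← hS, ← hS, ← hS, ← hT, ← hT]
      refine congrArg π (Subtype.ext ?_)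
      show ρ * (ρ * (φ * b * φ⁻¹) * ρ⁻¹) * ρ⁻¹ = φ * (φ * (ρ * (ρ * b * ρ⁻¹) * ρ⁻¹) * φ⁻¹) * φ⁻¹
      have h16 : ρ * (ρ * φ * ρ⁻¹) * ρ⁻¹ = φ * φ := by
        rw [hr, ← conj_pow, hr, ← pow_mul, show 4 * 4 = 7 * 2 + 2 by norm_num, pow_add, pow_mul, F.ord, one_pow,
          one_mul, pow_two]
      calc ρ * (ρ * (φ * b * φ⁻¹) * ρ⁻¹) * ρ⁻¹
          = (ρ * (ρ * φ * ρ⁻¹) * ρ⁻¹) * (ρ * (ρ * b * ρ⁻¹) * ρ⁻¹) * (ρ * (ρ * φ * ρ⁻¹) * ρ⁻¹)⁻¹ := by group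
        _ = _ := by rw [h16]; group
    · simp only [AddMonoidHom.comp_apply, fix a h]

/-- A subgroup invariant under the element of order seven containing the eight-group and the fixed points. -/
theorem rr_span {B : Subgroup G} (hV : vee z ρ x ≤ B) (hC : crho z ρ x ≤ B)
    (hB : ∀ b ∈ B, φ * b * φ⁻¹ ∈ B) : rr z ρ x ≤ B := by
  obtain ⟨A, hA, π, Tm, Sm, hπs, hmul, hπ0, hT, hS, hFr⟩ := S.exists_module T F
  have hπ1 : π 1 = 0 := (hπ0 1).mpr (one_mem _)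
  have hinv : ∀ a, π a⁻¹ = -π a := fun a => eq_neg_of_add_eq_zero_left (by rw [← hmul, inv_mul_cancel, hπ1])
  let B' : AddSubgroup A :=
    { carrier := {a | ∃ b : ↥(rr z ρ x), (b : G) ∈ B ∧ π b = a}
      zero_mem' := ⟨1, one_mem _, hπ1⟩
      add_mem' := by
        rintro a a' ⟨b, hb, rfl⟩ ⟨b', hb', rfl⟩
        exact ⟨b * b', mul_mem hb hb', hmul b b'⟩
      neg_mem' := by
        rintro a ⟨b, hb, rfl⟩
        exact ⟨b⁻¹, inv_mem hb, hinv b⟩ }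
  have h1 : ∀ a ∈ B', Tm a ∈ B' := by
    rintro a ⟨b, hb, rfl⟩
    exact ⟨_, hB _ hb, hT b⟩
  have h2 : ∀ a, Sm a = a → a ∈ B' := by
    intro a ha
    obtain ⟨b, rfl⟩ := hπs a
    have hv : (b : G)⁻¹ * (ρ * b * ρ⁻¹) ∈ vee z ρ x := by
      have hh := (hπ0 (b⁻¹ * ⟨_, S.rot_rr T b.2⟩)).mp (by rw [hmul, hinv, hS, ha, neg_add_cancel])
      exact hh
    obtain ⟨d, hd, hdv⟩ := S.crho_lift T b.2 hv
    refine ⟨⟨d, (mem_crho.mp hd).1⟩, hC hd, ?_⟩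
    have hh := (hπ0 (b⁻¹ * ⟨d, (mem_crho.mp hd).1⟩)).mpr hdv
    rw [hmul, hinv, neg_add_eq_zero] at hh
    exact hh.symm
  have hall : ∀ a, a ∈ B' := by
    rcases hFr with hFr | hFr
    · exact hFr.span h1 h2
    · refine hFr.span h1 fun a ha => h2 a ?_
      have h3 : Sm (Sm (Sm (Sm a))) = a := by
        simp only [AddMonoidHom.comp_apply] at ha
        rw [ha, ha]
      obtain ⟨b, rfl⟩ := hπs a
      rw [← hS, ← hS, ← hS, ← hS] at h3
      rw [← hS]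
      refine Eq.trans (congrArg π (Subtype.ext ?_)) h3
      exact (S.rot3 (rot ρ (b : G))).symm
  intro a ha
  obtain ⟨b, hb, e⟩ := hall (π ⟨a, ha⟩)
  have hv := (hπ0 (b⁻¹ * ⟨a, ha⟩)).mp (by rw [hmul, hinv, e, neg_add_cancel])
  have := mul_mem hb (hV hv)
  simpa using this

/-- The common centralizer moves the fixed points modulo the eight-group. -/
theorem k2_moves : ∃ p ∈ k2 z ρ x φ, p ^ 5 = 1 ∧ ∃ a ∈ crho z ρ x, p * a * p⁻¹ * a⁻¹ ≠ 1 := by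
  by_contra hall
  push Not at hall
  obtain ⟨ψ, hψ, hk⟩ := S.phi_k2 T F
  obtain ⟨σ₀, hσ₀⟩ := exists_five
  obtain ⟨p₀, hp₀⟩ := hψ σ₀
  have h5 : ψ (p₀ ^ 5) = 1 := by rw [map_pow, hp₀, ← hσ₀, pow_orderOf_eq_one]
  obtain ⟨k, hk5⟩ := (S.isPGroup_rr T) ⟨_, (hk _).mp h5⟩
  set p := p₀ ^ (2 ^ k) with hpdef
  set σ := σ₀ ^ (2 ^ k) with hσdef
  have hσ : orderOf σ = 5 := by
    rw [hσdef, Nat.Coprime.orderOf_pow (by rw [hσ₀]; exact Nat.Coprime.pow_right k (by norm_num)), hσ₀]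
  have hp : ψ p = σ := by rw [hpdef, map_pow, hp₀]
  have hp5 : (p : G) ^ 5 = 1 := by
    rw [hpdef, SubmonoidClass.coe_pow, ← pow_mul, mul_comm, pow_mul]
    simpa using congrArg Subtype.val hk5
  obtain ⟨hpc, hpρ, hpφ⟩ := mem_k2.mp p.2
  have hR : rr z ρ x ≤ Subgroup.centralizer ({(p : G)} : Set G) := by
    refine S.rr_span T F (fun v hv => mem_cent.mpr (mem_cv.mp hpc v hv).symm)
      (fun a ha => mem_cent.mpr (eq_of_mul_comm (hall p p.2 hp5 a ha)).symm) fun b hb => mem_cent.mpr ?_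
    have hb' : Commute b (p : G) := mem_cent.mp hb
    have hφp : Commute φ (p : G) := hpφ.symm
    exact ((hφp.mul_left hb').mul_left hφp.inv_left).eq
  have hpp : (p : G) * p ∈ rr z ρ x := by
    have hq : ∀ q ∈ coreCent z, q⁻¹ * ((p : G) * q * (p : G)⁻¹) ∈ vee z ρ x := by
      intro q hq
      refine S.es.double_cent (vee z ρ x) (S.vee_le_Q T) z_mem_vee (mul_mem (inv_mem hq) (S.nor (S.cv_z T hpc) hq))
        fun h hh hhV => ?_
      have hhq : h ∈ qv z ρ x z := mem_qv.mpr ⟨hh, mem_cv.mpr fun a ha => (hhV a ha).symm⟩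
      have hph : Commute h (p : G) := mem_cent.mp (hR (Subgroup.mem_sup_left hhq))
      have hphc : (p : G) * h * (p : G)⁻¹ = h := conj_eq_iff.mpr hph.symm.eq
      refine conj_eq_iff.mp ?_
      rcases S.es.conj_cases hq hh with f | f
      · have g1 : (p : G) * q * (p : G)⁻¹ * h * ((p : G) * q * (p : G)⁻¹)⁻¹ = h := by
          calc (p : G) * q * (p : G)⁻¹ * h * ((p : G) * q * (p : G)⁻¹)⁻¹
              = (p : G) * q * (p : G)⁻¹ * ((p : G) * h * (p : G)⁻¹) * ((p : G) * q * (p : G)⁻¹)⁻¹ := by rw [hphc]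
            _ = (p : G) * (q * h * q⁻¹) * (p : G)⁻¹ := by group
            _ = h := by rw [f, hphc]
        calc q⁻¹ * ((p : G) * q * (p : G)⁻¹) * h * (q⁻¹ * ((p : G) * q * (p : G)⁻¹))⁻¹
            = q⁻¹ * ((p : G) * q * (p : G)⁻¹ * h * ((p : G) * q * (p : G)⁻¹)⁻¹) * q := by group
          _ = q⁻¹ * (q * h * q⁻¹) * q := by rw [g1, f]
          _ = h := by group
      · have g1 : (p : G) * q * (p : G)⁻¹ * h * ((p : G) * q * (p : G)⁻¹)⁻¹ = h * z := by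
          calc (p : G) * q * (p : G)⁻¹ * h * ((p : G) * q * (p : G)⁻¹)⁻¹
              = (p : G) * q * (p : G)⁻¹ * ((p : G) * h * (p : G)⁻¹) * ((p : G) * q * (p : G)⁻¹)⁻¹ := by rw [hphc]
            _ = (p : G) * (q * h * q⁻¹) * (p : G)⁻¹ := by group
            _ = ((p : G) * h * (p : G)⁻¹) * ((p : G) * z * (p : G)⁻¹) := by rw [f]; group
            _ = h * z := by rw [hphc, conj_eq_iff.mpr (S.cv_z T hpc)]
        calc q⁻¹ * ((p : G) * q * (p : G)⁻¹) * h * (q⁻¹ * ((p : G) * q * (p : G)⁻¹))⁻¹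
            = q⁻¹ * ((p : G) * q * (p : G)⁻¹ * h * ((p : G) * q * (p : G)⁻¹)⁻¹) * q := by group
          _ = q⁻¹ * (q * h * q⁻¹) * q := by rw [g1, f]
          _ = h := by group
    rcases S.es.cen ((p : G) * p) fun q hqQ => conj_eq_iff.mp (by
        have hv := hq q hqQ
        set v := q⁻¹ * ((p : G) * q * (p : G)⁻¹) with hvdef
        have e1 : (p : G) * q * (p : G)⁻¹ = q * v := by rw [hvdef]; group
        have e2 : (p : G) * v * (p : G)⁻¹ = v := conj_eq_iff.mpr (mem_cv.mp hpc v hv)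
        calc (p : G) * p * q * ((p : G) * p)⁻¹ = (p : G) * ((p : G) * q * (p : G)⁻¹) * (p : G)⁻¹ := by group
          _ = ((p : G) * q * (p : G)⁻¹) * ((p : G) * v * (p : G)⁻¹) := by
            conv_lhs => rw [e1]
            group
          _ = q := by rw [e1, e2, mul_assoc, S.vee_sq T hv, mul_one]) with e | e <;> rw [e]
    · exact one_mem _
    · exact S.vee_le_rr T z_mem_vee
  have h2 := (hk (p * p)).mpr hpp
  rw [map_mul, hp, ← pow_two] at h2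
  have := orderOf_dvd_of_pow_eq_one h2
  rw [hσ] at this
  norm_num at this

theorem crho_comm {a b : G} (ha : a ∈ crho z ρ x) (hb : b ∈ rr z ρ x) (hb' : b * ρ = ρ * b) :
    a * b * a⁻¹ * b⁻¹ = 1 ∨ a * b * a⁻¹ * b⁻¹ = z := by
  refine S.rot_fixed T (S.rr_comm T (mem_crho.mp ha).1 hb) (conj_eq_iff.mpr ?_)
  have h1 : Commute ρ a := (mem_crho.mp ha).2.symm
  have h2 : Commute ρ b := hb'.symm
  exact (((h1.mul_right h2).mul_right h1.inv_right).mul_right h2.inv_right).eq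

/-- The action on the fixed points modulo `z`. -/
theorem crho_act : ∃ ψ : ↥(k2 z ρ x φ) →* A6,
    Act (k2 z ρ x φ) (crho z ρ x) (crho z ρ x ⊓ vee z ρ x) ψ := by
  obtain ⟨ψ, hψ, hk⟩ := S.phi_k2 T F
  have hD : ∀ t, t = 1 ∨ t = z → t ∈ crho z ρ x ⊓ vee z ρ x := by
    rintro t (rfl | rfl)
    exacts [one_mem _, ⟨S.z_mem_crho T, z_mem_vee⟩]
  have hnorW : ∀ p ∈ k2 z ρ x φ, ∀ w ∈ crho z ρ x, p * w * p⁻¹ ∈ crho z ρ x := fun p hp w hw => by
    refine mem_crho.mpr ⟨S.rr_conj T (S.cv_le_norm T (mem_k2.mp hp).1) (mem_crho.mp hw).1, ?_⟩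
    have h1 : Commute p ρ := (mem_k2.mp hp).2.1
    exact ((h1.mul_left (mem_crho.mp hw).2).mul_left h1.inv_left).eq
  refine ⟨ψ, ⟨inf_le_left, fun w hw d hd => ?_, fun w hw v hv => ?_, hnorW, fun p hp d hd => ?_, hψ,
    fun p hp w hw => ?_, ?_, ?_⟩⟩
  · refine hD _ ?_
    rw [conj_eq_iff.mpr (mem_cv.mp (S.rr_le_cv T (mem_crho.mp hw).1) _ hd.2)]
    exact S.crho_vee T hd.1 hd.2
  · exact hD _ (S.crho_comm T F hw (mem_crho.mp hv).1 (mem_crho.mp hv).2)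
  · refine hD _ ?_
    rw [conj_eq_iff.mpr (mem_cv.mp (mem_k2.mp hp).1 _ hd.2)]
    exact S.crho_vee T hd.1 hd.2
  · exact hD _ (S.crho_comm T F (mem_crho.mpr ⟨(hk p).mp hp, (mem_k2.mp p.2).2.1⟩) (mem_crho.mp hw).1 (mem_crho.mp hw).2)
  · have he : crho z ρ x ⊓ vee z ρ x = Subgroup.zpowers z := by
      refine le_antisymm (fun t ht => ?_) (Subgroup.zpowers_le.mpr ⟨S.z_mem_crho T, z_mem_vee⟩)
      rcases S.crho_vee T ht.1 ht.2 with e | e <;> rw [e]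
      exacts [one_mem _, Subgroup.mem_zpowers z]
    rw [S.card_crho T, he, Nat.card_zpowers, S.hz]
  · by_contra hall
    push Not at hall
    obtain ⟨p, hp, hp5, a, ha, hne⟩ := S.k2_moves T F
    apply hne
    set c := p * a * p⁻¹ * a⁻¹ with hc
    obtain ⟨hcC, hcV⟩ := hall p hp a ha
    have hpc : Commute p c := mem_cv.mp (mem_k2.mp hp).1 c hcV
    have hac : Commute a c := mem_cv.mp (S.rr_le_cv T (mem_crho.mp ha).1) c hcV
    have h := pow_conj (s := p) (a := a) (b := c) (by rw [hac.eq, hc]; group) hpc.eq 5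
    rw [hp5, one_mul, inv_one, mul_one] at h
    have e5 : c ^ 5 = 1 := left_eq_mul.mp h
    rw [pow_succ, show c ^ 4 = (c * c) ^ 2 by rw [← pow_two, ← pow_mul], S.vee_sq T hcV, one_pow, one_mul] at e5
    exact e5

end Setup

end CfsgLib.Fi24Three
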