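import Cfsg.Agent.Lib.Fi24Three.Local
import Cfsg.Agent.Lib.Fi24Three.AutEight
import Cfsg.Agent.Lib.RankFrattini

/-!
The normalizer of the eight-group: shape `2^{3+12}.(L₃(2) × A₆)`.
-/

set_option autoImplicit false
set_option linter.unusedSectionVars false

namespace CfsgLib.Fi24Three

open CfsgLargeExtra

universe u

variable {G : Type u} [Group G] [Finite G]

theorem center_A6 : Subgroup.center A6 = ⊥ := alternatingGroup.center_eq_bot (by simp)

/-- The subgroup generated by the cores of the involutions of the eight-group. -/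
def lv (z ρ x : G) : Subgroup G := ⨆ u ∈ ((vee z ρ x : Set G) \ {1}), coreCent u

namespace Setup

variable {z : G} {M : Subgroup G} {ρ : G} (S : Setup z M ρ) {x : G} (T : Tri z ρ x)
include S T

theorem lv_le : lv z ρ x ≤ Subgroup.normalizer (vee z ρ x : Set G) := (S.singular T).lu_normalizes

theorem cv_le_norm : cv z ρ x ≤ Subgroup.normalizer (vee z ρ x : Set G) :=
  Subgroup.centralizer_le_normalizer _

theorem rr_le_norm : rr z ρ x ≤ Subgroup.normalizer (vee z ρ x : Set G) :=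
  (S.rr_le_cv T).trans (S.cv_le_norm T)

theorem rr_normal : ((rr z ρ x).subgroupOf (Subgroup.normalizer (vee z ρ x : Set G))).Normal :=
  ⟨fun _ hr g => S.rr_conj T g.2 hr⟩

/-- The cores act trivially on the centralizer modulo `R`. -/
theorem lv_comm {g c : G} (hg : g ∈ lv z ρ x) (hc : c ∈ cv z ρ x) : g * c * g⁻¹ * c⁻¹ ∈ rr z ρ x := by
  set N := Subgroup.normalizer (vee z ρ x : Set G)
  let H : Subgroup G :=
    { carrier := {g | g ∈ N ∧ ∀ c ∈ cv z ρ x, g * c * g⁻¹ * c⁻¹ ∈ rr z ρ x}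
      one_mem' := ⟨one_mem _, fun c _ => by simp⟩
      mul_mem' := fun {a b} ha hb => ⟨mul_mem ha.1 hb.1, fun c hc => by
        rw [show a * b * c * (a * b)⁻¹ * c⁻¹ = a * (b * c * b⁻¹ * c⁻¹) * a⁻¹ * (a * c * a⁻¹ * c⁻¹) by group]
        exact mul_mem (S.rr_conj T ha.1 (hb.2 c hc)) (ha.2 c hc)⟩
      inv_mem' := fun {a} ha => ⟨inv_mem ha.1, fun c hc => by
        have h := S.rr_conj T (inv_mem ha.1) (inv_mem (ha.2 c hc))
        simpa [mul_assoc] using h⟩ }
  have hle : lv z ρ x ≤ H := by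
    refine iSup₂_le fun u hu q hq => ?_
    have hqN : q ∈ N := S.core_norm T hu.1 hu.2 hq
    refine ⟨hqN, fun c hc => S.qv_le_rr T hu.1 hu.2 (mem_qv.mpr ⟨?_, mul_mem (S.cv_conj T hqN hc) (inv_mem hc)⟩)⟩
    rw [show q * c * q⁻¹ * c⁻¹ = q * (c * q⁻¹ * c⁻¹) by group]
    exact mul_mem hq ((S.esx (S.vee_point T hu.1 hu.2).1).nor c (mem_cv.mp hc u hu.1) _ (inv_mem hq))
  exact (hle hg).2 c hc

/-- The two parts meet in `R`. -/
theorem lv_inf {g : G} (hg : g ∈ lv z ρ x) (hgc : g ∈ cv z ρ x) : g ∈ rr z ρ x := by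
  obtain ⟨φ, hs, hk⟩ := S.phi_cv T
  refine (hk ⟨g, hgc⟩).mp ?_
  rw [← Subgroup.mem_bot, ← center_A6, Subgroup.mem_center_iff]
  intro a
  obtain ⟨c, rfl⟩ := hs a
  have h : φ (⟨g, hgc⟩ * c * ⟨g, hgc⟩⁻¹ * c⁻¹) = 1 := (hk _).mpr (S.lv_comm T hg c.2)
  simp only [map_mul, map_inv, mul_inv_eq_one] at h
  exact (mul_inv_eq_iff_eq_mul.mp h).symm

theorem exists_split {n : G} (hn : n ∈ Subgroup.normalizer (vee z ρ x : Set G)) :
    ∃ k ∈ lv z ρ x, ∃ c ∈ cv z ρ x, n = k * c := by
  have hv : ∀ v ∈ vee z ρ x, n * v * n⁻¹ ∈ vee z ρ x := fun v hv => (Subgroup.mem_normalizer_iff.mp hn v).mp hv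
  have hv' : ∀ v ∈ vee z ρ x, n⁻¹ * v * n ∈ vee z ρ x := fun v hv => by
    have := (Subgroup.mem_normalizer_iff.mp (inv_mem hn) v).mp hv
    simpa using this
  let α : ↥(vee z ρ x) ≃* ↥(vee z ρ x) :=
    { toFun := fun v => ⟨_, hv v v.2⟩
      invFun := fun v => ⟨_, hv' v v.2⟩
      left_inv := fun v => Subtype.ext (by simp [mul_assoc])
      right_inv := fun v => Subtype.ext (by simp [mul_assoc])
      map_mul' := fun a b => Subtype.ext (by simp [mul_assoc]) }
  obtain ⟨k, hk, hka⟩ := (S.singular T).induces_aut α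
  refine ⟨k, hk, k⁻¹ * n, mem_cv.mpr fun a ha => ?_, by group⟩
  have := hka ⟨a, ha⟩
  rw [← conj_eq_iff]
  calc k⁻¹ * n * a * (k⁻¹ * n)⁻¹ = k⁻¹ * (n * a * n⁻¹) * k := by group
    _ = k⁻¹ * (k * a * k⁻¹) * k := by rw [this]; rfl
    _ = a := by group

/-- The two maps out of the normalizer. -/
theorem exists_hom :
    ∃ Ψ : ↥(Subgroup.normalizer (vee z ρ x : Set G)) →* MulAut ↥(vee z ρ x) × A6,
      Function.Surjective Ψ ∧ Ψ.ker = (rr z ρ x).subgroupOf (Subgroup.normalizer (vee z ρ x : Set G)) ∧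
      ∀ (n : ↥(Subgroup.normalizer (vee z ρ x : Set G))) (v : ↥(vee z ρ x)),
        (((Ψ n).1 v : ↥(vee z ρ x)) : G) = n * v * (n : G)⁻¹ := by
  classical
  set N := Subgroup.normalizer (vee z ρ x : Set G)
  obtain ⟨φ, hs, hk⟩ := S.phi_cv T
  have hsp : ∀ n : ↥N, ∃ c : ↥(cv z ρ x), (n : G) * (c : G)⁻¹ ∈ lv z ρ x := fun n => by
    obtain ⟨k, hk, c, hc, e⟩ := S.exists_split T n.2
    exact ⟨⟨c, hc⟩, by rw [e, mul_inv_cancel_right]; exact hk⟩
  let f : ↥N → A6 := fun n => φ (hsp n).choose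
  have hf : ∀ (n : ↥N) (c : ↥(cv z ρ x)), (n : G) * (c : G)⁻¹ ∈ lv z ρ x → f n = φ c := by
    intro n c hc
    have h1 : ((hsp n).choose * c⁻¹ : ↥(cv z ρ x)) = ((hsp n).choose * c⁻¹) := rfl
    have hmem : (((hsp n).choose * c⁻¹ : ↥(cv z ρ x)) : G) ∈ lv z ρ x := by
      have := mul_mem (inv_mem (hsp n).choose_spec) hc
      simpa [mul_assoc] using this
    have := (hk _).mpr (S.lv_inf T hmem ((hsp n).choose * c⁻¹).2)
    rwa [map_mul, map_inv, mul_inv_eq_one] at this
  have hfmul : ∀ n m : ↥N, f (n * m) = f n * f m := by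
    intro n m
    set c := (hsp n).choose with hcdef
    set d := (hsp m).choose with hddef
    set k' := (m : G) * (d : G)⁻¹ with hk'
    have hk'L : k' ∈ lv z ρ x := (hsp m).choose_spec
    have hc' : k'⁻¹ * (c : G) * k' ∈ cv z ρ x := by
      have := S.cv_conj T (inv_mem (S.lv_le T hk'L)) c.2
      rwa [inv_inv] at this
    have e : f (n * m) = φ (⟨_, hc'⟩ * d) := by
      refine hf _ _ ?_
      rw [Subgroup.coe_mul, Subgroup.coe_mul, show (n : G) * m * (k'⁻¹ * (c : G) * k' * d)⁻¹ =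
        ((n : G) * (c : G)⁻¹) * k' by rw [hk']; group]
      exact mul_mem (hsp n).choose_spec hk'L
    rw [e, map_mul]
    congr 1
    have h2 : φ (⟨_, hc'⟩ * c⁻¹) = 1 := by
      refine (hk _).mpr ?_
      have := S.lv_comm T (inv_mem hk'L) c.2
      rwa [inv_inv] at this
    rwa [map_mul, map_inv, mul_inv_eq_one] at h2
  let conjHom : ↥N →* MulAut ↥(vee z ρ x) :=
    { toFun := fun n =>
        { toFun := fun v => ⟨(n : G) * v * (n : G)⁻¹, (Subgroup.mem_normalizer_iff.mp n.2 _).mp v.2⟩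
          invFun := fun v => ⟨(n : G)⁻¹ * v * n, by
            have := (Subgroup.mem_normalizer_iff.mp (inv_mem n.2) _).mp v.2
            simpa using this⟩
          left_inv := fun v => Subtype.ext (by simp [mul_assoc])
          right_inv := fun v => Subtype.ext (by simp [mul_assoc])
          map_mul' := fun a b => Subtype.ext (by simp [mul_assoc]) }
      map_one' := MulEquiv.ext fun v => Subtype.ext (by simp)
      map_mul' := fun a b => MulEquiv.ext fun v => Subtype.ext (by simp [mul_assoc]) }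
  refine ⟨conjHom.prod (MonoidHom.mk' f hfmul), ?_, ?_, fun n v => rfl⟩
  · rintro ⟨α, a⟩
    obtain ⟨k, hk', hka⟩ := (S.singular T).induces_aut α
    obtain ⟨c, rfl⟩ := hs a
    refine ⟨⟨k * c, mul_mem (S.lv_le T hk') (S.cv_le_norm T c.2)⟩, Prod.ext (MulEquiv.ext fun v => Subtype.ext ?_) ?_⟩
    · show k * c * (v : G) * (k * c)⁻¹ = _
      rw [← hka v, show k * c * (v : G) * (k * c)⁻¹ = k * ((c : G) * v * (c : G)⁻¹) * k⁻¹ by group,
        conj_eq_iff.mpr (mem_cv.mp c.2 v v.2)]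
    · refine hf _ c ?_
      show k * c * (c : G)⁻¹ ∈ _
      rwa [mul_inv_cancel_right]
  · ext n
    rw [MonoidHom.mem_ker, Subgroup.mem_subgroupOf]
    constructor
    · intro h
      have h1 : conjHom n = 1 := congrArg Prod.fst h
      have h2 : f n = 1 := congrArg Prod.snd h
      have hn : (n : G) ∈ cv z ρ x := mem_cv.mpr fun a ha => by
        rw [← conj_eq_iff]
        exact congrArg (fun g : MulAut ↥(vee z ρ x) => ((g ⟨a, ha⟩ : ↥(vee z ρ x)) : G)) h1
      rw [hf n ⟨n, hn⟩ (by rw [mul_inv_cancel]; exact one_mem _)] at h2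
      exact (hk _).mp h2
    · intro h
      refine Prod.ext (MulEquiv.ext fun v => Subtype.ext ?_) ?_
      · exact conj_eq_iff.mpr (mem_cv.mp (S.rr_le_cv T h) v v.2)
      · show f n = 1
        rw [hf n ⟨n, S.rr_le_cv T h⟩ (by rw [mul_inv_cancel]; exact one_mem _)]
        exact (hk _).mpr h

theorem isPGroup_rr : IsPGroup 2 ↥(rr z ρ x) := IsPGroup.of_card (S.card_rr T)

theorem rr_special :
    Cfsg.IsSpecial 2 ↥(rr z ρ x) ∧ (Subgroup.center ↥(rr z ρ x)).map (rr z ρ x).subtype = vee z ρ x := by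
  set R := rr z ρ x
  have hp := S.isPGroup_rr T
  have : Fact (Nat.Prime 2) := ⟨Nat.prime_two⟩
  have hV := S.vee_le_rr T
  have hc : Subgroup.center ↥R = (vee z ρ x).subgroupOf R := by
    ext c
    rw [Subgroup.mem_center_iff, Subgroup.mem_subgroupOf]
    refine ⟨fun h => S.rr_center T c.2 fun d hd => (congrArg Subtype.val (h ⟨d, hd⟩)).symm, fun h d => Subtype.ext ?_⟩
    exact mem_cv.mp (S.rr_le_cv T d.2) _ h
  refine ⟨⟨hp, le_antisymm ?_ ?_, le_antisymm ?_ ?_⟩, by rw [hc, Subgroup.subgroupOf_map_subtype]; exact inf_eq_left.mpr hV⟩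
  · rw [hc]
    refine CfsgLib.RankFrattini.frattini_le_of_elementary hp _ (fun a b => ?_) fun a => ?_
    · rw [Subgroup.mem_subgroupOf, commutatorElement_def]
      exact S.rr_comm T a.2 b.2
    · rw [Subgroup.mem_subgroupOf, pow_two]
      exact S.rr_sq T a.2
  · rw [hc]
    intro v hv
    refine CfsgLib.commutator_le_frattini_pGroup hp ?_
    by_cases h1 : v = 1
    · rw [h1]; exact one_mem _
    obtain ⟨a, ha, b, hb, e⟩ := S.exists_commutator T hv fun e => h1 (Subtype.ext e)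
    have := Subgroup.commutator_mem_commutator (Subgroup.mem_top (⟨a, ha⟩ : R)) (Subgroup.mem_top (⟨b, hb⟩ : R))
    rw [← commutator_def] at this
    convert this using 1
    exact Subtype.ext e.symm
  · rw [hc, commutator_def, Subgroup.commutator_le]
    intro a _ b _
    rw [Subgroup.mem_subgroupOf, commutatorElement_def]
    exact S.rr_comm T a.2 b.2
  · rw [hc]
    intro v hv
    by_cases h1 : v = 1
    · rw [h1]; exact one_mem _
    obtain ⟨a, ha, b, hb, e⟩ := S.exists_commutator T hv fun e => h1 (Subtype.ext e)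
    have := Subgroup.commutator_mem_commutator (Subgroup.mem_top (⟨a, ha⟩ : R)) (Subgroup.mem_top (⟨b, hb⟩ : R))
    rw [← commutator_def] at this
    convert this using 1
    exact Subtype.ext e.symm

theorem autSL_simple (H : Subgroup (MulAut ↥(vee z ρ x))) (hH : H.Normal) (h2 : IsPGroup 2 H) : H = ⊥ := by
  by_contra hne
  have : Finite (MulAut ↥(vee z ρ x)) := inferInstance
  have hfix : ∃ v : ↥(vee z ρ x), v ≠ 1 ∧ ∀ h ∈ H, h v = v := by
    let : MulAction ↥H ↥(vee z ρ x) :=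
      { smul := fun h v => (h : MulAut ↥(vee z ρ x)) v
        one_smul := fun v => rfl
        mul_smul := fun a b v => rfl }
    have h1 : (1 : ↥(vee z ρ x)) ∈ MulAction.fixedPoints ↥H ↥(vee z ρ x) := fun h => map_one (h : MulAut ↥(vee z ρ x)).toMonoidHom
    have : Fact (Nat.Prime 2) := ⟨Nat.prime_two⟩
    obtain ⟨v, hv, hne⟩ := h2.exists_fixed_point_of_prime_dvd_card_of_fixed_point _ (by rw [S.card_vee T]; norm_num) h1
    exact ⟨v, fun e => hne e.symm, fun h hh => hv ⟨h, hh⟩⟩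
  obtain ⟨v, hv1, hv⟩ := hfix
  refine hne ((Subgroup.eq_bot_iff_forall _).mpr fun h hh => MulEquiv.ext fun w => ?_)
  by_cases hw : w = 1
  · rw [hw]; exact map_one h
  -- the automorphism group is transitive on involutions
  obtain ⟨α, hα⟩ : ∃ α : MulAut ↥(vee z ρ x), α v = w := by
    by_cases hvw : w = v
    · exact ⟨1, hvw.symm⟩
    obtain ⟨g, hg, -, hgv⟩ := (S.singular T).transvection (W := ⊥) bot_le w.2 v.2
      (fun e => hw (Subtype.ext (Subgroup.mem_bot.mp e))) (fun e => hv1 (Subtype.ext (Subgroup.mem_bot.mp e)))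
      fun e => hvw (Subtype.ext e)
    have hgN := (S.singular T).lu_normalizes hg
    refine ⟨{ toFun := fun a => ⟨g * a * g⁻¹, (Subgroup.mem_normalizer_iff.mp hgN _).mp a.2⟩
              invFun := fun a => ⟨g⁻¹ * a * g, by
                have := (Subgroup.mem_normalizer_iff.mp (inv_mem hgN) _).mp a.2
                simpa using this⟩
              left_inv := fun a => Subtype.ext (by simp [mul_assoc])
              right_inv := fun a => Subtype.ext (by simp [mul_assoc])
              map_mul' := fun a b => Subtype.ext (by simp [mul_assoc]) }, Subtype.ext hgv⟩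
  have := hv (α⁻¹ * h * α) (by simpa using hH.conj_mem h hh α⁻¹)
  rw [MulAut.mul_apply, MulAut.mul_apply, hα] at this
  have h2' := congrArg α this
  rwa [MulAut.apply_inv_self, hα] at h2'

/-- The statement about the normalizer. -/
theorem normalizer_shape :
    ∃ V : Subgroup G, Cfsg.IsElementaryAbelian 2 V ∧ Nat.card V = 8 ∧ z ∈ V ∧
      ∃ R : Subgroup G, R = (Cfsg.pCore 2 ↥(Subgroup.normalizer (V : Set G))).map
          (Subgroup.normalizer (V : Set G)).subtype ∧ Cfsg.IsSpecial 2 ↥R ∧ Nat.card R = 2 ^ 15 ∧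
        (Subgroup.center ↥R).map R.subtype = V ∧
        ∃ _ : (R.subgroupOf (Subgroup.normalizer (V : Set G))).Normal,
          Nonempty (↥(Subgroup.normalizer (V : Set G)) ⧸ R.subgroupOf (Subgroup.normalizer (V : Set G)) ≃*
            Matrix.SpecialLinearGroup (Fin 3) (ZMod 2) × ↥(alternatingGroup (Fin 6))) := by
  obtain ⟨Ψ, hΨ, hker, -⟩ := S.exists_hom T
  obtain ⟨hsp, hcen⟩ := S.rr_special T
  refine ⟨vee z ρ x, ⟨⟨⟨fun a b => Subtype.ext (S.vee_comm T a.2 b.2)⟩⟩, fun a ha => by rw [pow_two]; exact S.vee_sq T ha⟩,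
    S.card_vee T, z_mem_vee, rr z ρ x, ?_, hsp, S.card_rr T, hcen, S.rr_normal T, ?_⟩
  · let N := Subgroup.normalizer (vee z ρ x : Set G)
    have := S.rr_normal T
    have hle : (rr z ρ x).subgroupOf N = Cfsg.pCore 2 ↥N := by
      refine le_antisymm (CfsgLib.le_pCore ((S.isPGroup_rr T).of_equiv
        (Subgroup.subgroupOfEquivOfLe (S.rr_le_norm T)).symm)) fun n hn => ?_
      rw [← hker, MonoidHom.mem_ker]
      have hP : IsPGroup 2 ↥((Cfsg.pCore 2 ↥N).map Ψ) := (CfsgLib.isPGroup_pCore 2).map Ψ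
      have hn1 : ((Cfsg.pCore 2 ↥N).map Ψ).Normal := Subgroup.Normal.map inferInstance Ψ hΨ
      have ha := S.autSL_simple T (((Cfsg.pCore 2 ↥N).map Ψ).map (MonoidHom.fst _ _))
        (Subgroup.Normal.map hn1 _ Prod.fst_surjective) (hP.map _)
      have hb : ((Cfsg.pCore 2 ↥N).map Ψ).map (MonoidHom.snd _ _) = ⊥ := by
        rcases (Subgroup.Normal.map hn1 (MonoidHom.snd _ A6) Prod.snd_surjective).eq_bot_or_eq_top with h | h
        · exact h
        · exfalso
          have h3 : IsPGroup 2 ↥(((Cfsg.pCore 2 ↥N).map Ψ).map (MonoidHom.snd _ A6)) := hP.map _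
          obtain ⟨σ, hσ⟩ := exists_five
          obtain ⟨k, hk⟩ := h3 ⟨σ, h ▸ Subgroup.mem_top σ⟩
          have hd := orderOf_dvd_of_pow_eq_one (congrArg Subtype.val hk : σ ^ 2 ^ k = 1)
          rw [hσ] at hd
          have := Nat.le_of_dvd (by norm_num) (Nat.Prime.dvd_of_dvd_pow (by norm_num : Nat.Prime 5) hd)
          omega
      refine Prod.ext ?_ ?_
      · exact Subgroup.mem_bot.mp (ha ▸ Subgroup.mem_map_of_mem _ (Subgroup.mem_map_of_mem Ψ hn))
      · exact Subgroup.mem_bot.mp (hb ▸ Subgroup.mem_map_of_mem (MonoidHom.snd _ A6) (Subgroup.mem_map_of_mem Ψ hn))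
    rw [← hle, Subgroup.subgroupOf_map_subtype]
    exact (inf_eq_left.mpr (S.rr_le_norm T)).symm
  · obtain ⟨e⟩ := exists_autSL (V := ↥(vee z ρ x)) (fun a => Subtype.ext (S.vee_sq T a.2)) (S.card_vee T)
    have := S.rr_normal T
    exact ⟨((QuotientGroup.quotientMulEquivOfEq hker.symm).trans
      (QuotientGroup.quotientKerEquivOfSurjective Ψ hΨ)).trans (e.prodCongr (MulEquiv.refl _))⟩

end Setup

/-- The local subgroup of shape `2^{3+12}.(L₃(2) × A₆)`. -/
theorem Setup.shape {z : G} {M : Subgroup G} {ρ : G} (S : Setup z M ρ) :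
    ∃ V : Subgroup G, Cfsg.IsElementaryAbelian 2 V ∧ Nat.card V = 8 ∧ z ∈ V ∧
      ∃ R : Subgroup G, R = (Cfsg.pCore 2 ↥(Subgroup.normalizer (V : Set G))).map
          (Subgroup.normalizer (V : Set G)).subtype ∧ Cfsg.IsSpecial 2 ↥R ∧ Nat.card R = 2 ^ 15 ∧
        (Subgroup.center ↥R).map R.subtype = V ∧
        ∃ _ : (R.subgroupOf (Subgroup.normalizer (V : Set G))).Normal,
          Nonempty (↥(Subgroup.normalizer (V : Set G)) ⧸ R.subgroupOf (Subgroup.normalizer (V : Set G)) ≃*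
            Matrix.SpecialLinearGroup (Fin 3) (ZMod 2) × ↥(alternatingGroup (Fin 6))) := by
  obtain ⟨x, T⟩ := S.exists_tri
  exact S.normalizer_shape T

end CfsgLib.Fi24Three
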