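import Cfsg.Agent.Lib.SUSixSub.Frame
import Cfsg.Agent.Lib.Fi24Three.OrbitData

/-!
Orbits of the subgroup 3.U₄(3) of SU₆(2) on isotropic vectors: checks.
-/

set_option autoImplicit false
set_option maxRecDepth 30000
set_option Elab.async false

namespace CfsgLib.Fi24Three.Orbit

open CfsgLib.G24 CfsgLib.SUSixSub Equiv

/-- An entry of the list of vectors. -/
def codeAt (k : ℕ) : ℕ := (orbCodes >>> (12 * k)) % 4096

/-- The parent entry. -/
def parAt (k : ℕ) : ℕ := ((orbPar >>> (13 * k)) % 8192) / 2

/-- The generator used. -/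
def genAt (k : ℕ) : ℕ := (orbPar >>> (13 * k)) % 2

/-- The position of a vector. -/
def posAt (n : ℕ) : ℕ := (orbPos >>> (12 * n)) % 4096

/-- Membership in the smaller class. -/
def inA (n : ℕ) : Bool := maskA.testBit n

/-- The digit of an element. -/
def dig : K → ℕ
  | .o => 0
  | .i => 1
  | .w => 2
  | .v => 3

/-- The code of a vector. -/
def encR (u : R6) : ℕ := (List.finRange 6).foldr (fun i s => dig (rowV u i) * 4 ^ (i : ℕ) + s) 0

/-- Isotropy. -/
def isoB (u : R6) : Bool := beqK (dot (rowV u) fun i => cjK (rowV u i)) .o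

/-- The first representative. -/
def vA : ℕ := 1365

/-- The second representative. -/
def vB : ℕ := 2389

theorem roots_ok : codeAt 0 = vA ∧ codeAt 378 = vB ∧ inA vA = true ∧ inA vB = false := by decide +kernel

theorem cover_ok : ((List.range 4096).all fun n => Nat.beq n 0 || !isoB (rowN n) ||
    (Nat.blt (posAt n) 2079 && Nat.beq (codeAt (posAt n)) n)) = true := by decide +kernel

theorem tree_ok : ((List.range 2079).all fun k => Nat.beq k 0 || Nat.beq k 378 ||
    (Nat.blt (parAt k) k &&
      beqR (mulV (ofN (gensA.getD (genAt k) 0)) (rowN (codeAt (parAt k)))) (rowN (codeAt k)))) = true := by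
  decide +kernel

theorem split_ok : ((List.range 2079).all fun k => Nat.blt (codeAt k) 4096 && Nat.beq (posAt (codeAt k)) k &&
    (inA (codeAt k) == Nat.blt k 378) && Nat.blt (parAt k) 2079 &&
    ((Nat.blt k 378 == Nat.blt (parAt k) 378))) = true := by decide +kernel

theorem inv_ok : ((List.range 2).all fun j => (List.range 2079).all fun k =>
    inA (encR (mulV (ofN (gensA.getD j 0)) (rowN (codeAt k)))) == inA (codeAt k)) = true := by decide +kernel

theorem enc_ok : ((List.range 4096).all fun n => Nat.beq (encR (rowN n)) n) = true := by decide +kernel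

end CfsgLib.Fi24Three.Orbit
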