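import Cfsg.Agent.Lib.Fi24Three.Setting
import Cfsg.Agent.Lib.Fi24Three.Action

/-!
Two conjugates of `z`, each in the core of the other: the section of order sixteen and the action on it.
-/

set_option autoImplicit false
set_option linter.unusedSectionVars false

namespace CfsgLib.Fi24Three

open CfsgLargeExtra

universe u

variable {G : Type u} [Group G] [Finite G]

/-- The part of the core of `x` centralizing `z`. -/
def U (z x : G) : Subgroup G := coreCent x ⊓ Subgroup.centralizer ({z} : Set G)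

/-- The centralizer of two elements. -/
def Pc (z x : G) : Subgroup G := Subgroup.centralizer ({z} : Set G) ⊓ Subgroup.centralizer ({x} : Set G)

theorem mem_U {z x u : G} : u ∈ U z x ↔ u ∈ coreCent x ∧ u * z = z * u :=
  ⟨fun h => ⟨h.1, mem_cent.mp h.2⟩, fun h => ⟨h.1, mem_cent.mpr h.2⟩⟩

theorem mem_Pc {z x c : G} : c ∈ Pc z x ↔ c * z = z * c ∧ c * x = x * c :=
  ⟨fun h => ⟨mem_cent.mp h.1, mem_cent.mp h.2⟩, fun h => ⟨mem_cent.mpr h.1, mem_cent.mpr h.2⟩⟩

/-- Two distinct conjugates of `z`, the second in the core of the first. -/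
structure Pair (z x : G) : Prop where
  cj : Cj z x
  mem : x ∈ coreCent z
  ne : x ≠ z

/-- A power of a commutator relation. -/
theorem pow_conj {s a b : G} (h : s * a * s⁻¹ = a * b) (hb : s * b = b * s) :
    ∀ n : ℕ, s ^ n * a * (s ^ n)⁻¹ = a * b ^ n := by
  intro n
  induction n with
  | zero => simp
  | succ n ih =>
    have hc : s ^ n * b * (s ^ n)⁻¹ = b := conj_eq_iff.mpr ((show Commute s b from hb).pow_left n).eq
    calc s ^ (n + 1) * a * (s ^ (n + 1))⁻¹ = s ^ n * (s * a * s⁻¹) * (s ^ n)⁻¹ := by rw [pow_succ]; group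
      _ = (s ^ n * a * (s ^ n)⁻¹) * (s ^ n * b * (s ^ n)⁻¹) := by rw [h]; group
      _ = a * b ^ (n + 1) := by rw [ih, hc, pow_succ, mul_assoc]

namespace Setup

variable {z : G} {M : Subgroup G} {ρ : G} (S : Setup z M ρ)
include S

theorem nor_U {a b c u : G} (hb : Cj z b) (hca : c * a = a * c) (hcb : c * b = b * c) (hu : u ∈ U a b) :
    c * u * c⁻¹ ∈ U a b := by
  rw [mem_U] at hu ⊢
  refine ⟨(S.esx hb).nor c hcb u hu.1, ?_⟩
  exact Commute.mul_left (Commute.mul_left hca hu.2) (comm_inv hca)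

theorem U_comm {a b u : G} (hb : Cj z b) (hu : u ∈ U a b) : u * b = b * u := (S.esx hb).comm u (mem_U.mp hu).1

theorem U_le_Pc {a b : G} (hb : Cj z b) : U a b ≤ Pc a b :=
  fun u hu => mem_Pc.mpr ⟨(mem_U.mp hu).2, S.U_comm hb hu⟩

/-- An element of the core of `v` commuting with the intersection lies in the core of `w`. -/
theorem cent_inter {v w : G} (hv : Cj z v) (hw : Cj z w) (hwv : w ∈ coreCent v) (hne : w ≠ v) {a : G}
    (ha : a ∈ coreCent v) (hcomm : ∀ d ∈ coreCent v, d ∈ coreCent w → a * d = d * a) : a ∈ coreCent w := by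
  set D := coreCent v ⊓ coreCent w with hD
  have hvD : v ∈ D := ⟨(S.esx hv).mem, S.symm' hv hw hwv⟩
  have h1 := S.card_cent hv (H := D) inf_le_left hvD
  rw [hD, S.inter' hv hw hwv hne, ← hD] at h1
  have hle : D ≤ coreCent v ⊓ Subgroup.centralizer (D : Set G) := fun d hd =>
    ⟨hd.1, mem_cent_set.mpr fun e he => S.inter_comm hv hw hne hd.1 hd.2 he.1 he.2⟩
  have heq : D = coreCent v ⊓ Subgroup.centralizer (D : Set G) := by
    refine Subgroup.eq_of_le_of_card_ge hle ?_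
    rw [hD, S.inter' hv hw hwv hne, ← hD]
    omega
  have : a ∈ D := heq.ge ⟨ha, mem_cent_set.mpr fun d hd => hcomm d hd.1 hd.2⟩
  exact this.2

variable {x : G} (hp : Pair z x)
include hp

theorem z_mem : z ∈ coreCent x := S.symm hp.cj hp.mem

theorem x_comm : x * z = z * x := S.es.comm x hp.mem

theorem card_U : Nat.card (U z x) = 2 ^ 12 :=
  S.card_cent_one hp.cj S.cj_self (S.z_mem hp) hp.ne.symm

theorem card_T : Nat.card (U x z) = 2 ^ 12 := S.card_cent_one S.cj_self hp.cj hp.mem hp.ne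

theorem inf_eq : U x z ⊓ U z x = coreCent z ⊓ coreCent x := by
  refine le_antisymm (fun a ha => ⟨ha.1.1, ha.2.1⟩) fun a ha => ⟨⟨ha.1, ?_⟩, ha.2, ?_⟩
  · exact mem_cent.mpr ((S.esx hp.cj).comm a ha.2)
  · exact mem_cent.mpr (S.es.comm a ha.1)

theorem U_norm_T : U z x ≤ Subgroup.normalizer (U x z : Set G) :=
  le_norm fun _ hu _ ht => S.nor_U S.cj_self (S.U_comm hp.cj hu) (mem_U.mp hu).2 ht

theorem card_TU : Nat.card ↥(U x z ⊔ U z x) = 2 ^ 17 := by
  have h := CfsgLib.CentrallyLarge.card_sup_mul_card_inf (S.U_norm_T hp)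
  rw [S.inf_eq hp, S.inter' S.cj_self hp.cj hp.mem hp.ne, S.card_T hp, S.card_U hp] at h
  omega

/-- The map onto the alternating group. -/
theorem phi : ∃ φ : ↥(Pc z x) →* A6, Function.Surjective φ ∧
    φ.ker.map (Pc z x).subtype = U x z ⊔ U z x := by
  obtain ⟨φ, hs, hk⟩ := S.quot x hp.cj hp.mem hp.ne
  refine ⟨φ, hs, le_antisymm ?_ (sup_le ?_ ?_)⟩
  · rintro _ ⟨c, hc, rfl⟩
    obtain ⟨q, hq, u, hu, huz, e⟩ := (hk c).mp hc
    have hu' : u ∈ U z x := mem_U.mpr ⟨hu, huz⟩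
    have hqx : q * x = x * q := by
      have h1 : (q * u) * x = x * (q * u) := e ▸ (mem_Pc.mp c.2).2
      have h2 := Commute.mul_left (show Commute (q * u) x from h1) (comm_inv (S.U_comm hp.cj hu') : Commute u⁻¹ x)
      rwa [mul_inv_cancel_right] at h2
    rw [Subgroup.coe_subtype, e]
    exact Subgroup.mul_mem_sup (mem_U.mpr ⟨hq, hqx⟩) hu'
  · intro t ht
    have htP : t ∈ Pc z x := mem_Pc.mpr ⟨S.U_comm S.cj_self ht, (mem_U.mp ht).2⟩
    exact ⟨⟨t, htP⟩, (hk _).mpr ⟨t, (mem_U.mp ht).1, 1, one_mem _, by simp, (mul_one t).symm⟩, rfl⟩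
  · intro u hu
    exact ⟨⟨u, S.U_le_Pc hp.cj hu⟩,
      (hk _).mpr ⟨1, one_mem _, u, (mem_U.mp hu).1, (mem_U.mp hu).2, (one_mul u).symm⟩, rfl⟩

theorem card_Pc : Nat.card (Pc z x) = 360 * 2 ^ 17 := by
  obtain ⟨φ, hs, hk⟩ := S.phi hp
  have h1 := Subgroup.card_eq_card_quotient_mul_card_subgroup φ.ker
  rw [Nat.card_congr (QuotientGroup.quotientKerEquivOfSurjective φ hs).toEquiv, card_A6,
    ← Subgroup.card_map_of_injective (Pc z x).subtype_injective, hk, S.card_TU hp] at h1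
  exact h1

/-- The pair is not centralized inside `M` only. -/
theorem Pc_not_le : ¬ Pc z x ≤ M := by
  intro hle
  apply S.M_card
  have hn : Pc z x ≤ Subgroup.normalizer (coreCent z : Set G) :=
    le_norm fun c hc q hq => S.nor (mem_Pc.mp hc).1 hq
  have h := CfsgLib.CentrallyLarge.card_sup_mul_card_inf hn
  have hinf : coreCent z ⊓ Pc z x = U x z := by
    refine le_antisymm (fun a ha => mem_U.mpr ⟨ha.1, (mem_Pc.mp ha.2).2⟩) fun a ha => ?_
    exact ⟨(mem_U.mp ha).1, mem_Pc.mpr ⟨S.U_comm S.cj_self ha, (mem_U.mp ha).2⟩⟩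
  rw [hinf, S.card_T hp, S.card_Q, S.card_Pc hp] at h
  exact dvd_trans ⟨45, by omega⟩ (Subgroup.card_dvd_of_le (sup_le S.Q_le hle))

theorem sq_mem_M {p : G} (hpz : p * z = z * p) : p * p ∈ M := by
  by_cases h : p ∈ M
  · exact mul_mem h h
  · exact S.M_index p p hpz hpz h h

/-- The elements in `M` map onto the alternating group. -/
theorem surj_M (φ : ↥(Pc z x) →* A6) (hs : Function.Surjective φ) (g : A6) :
    ∃ p : ↥(Pc z x), (p : G) ∈ M ∧ φ p = g := by
  let H : Subgroup A6 := (M.subgroupOf (Pc z x)).map φ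
  have hn : H.Normal := by
    have : (M.subgroupOf (Pc z x)).Normal := ⟨fun m hm c => S.M_normal (mem_Pc.mp c.2).1 hm⟩
    exact Subgroup.Normal.map this φ hs
  rcases hn.eq_bot_or_eq_top with h | h
  · exfalso
    obtain ⟨σ, hσ⟩ := exists_five
    obtain ⟨p, rfl⟩ := hs σ
    have h2 : φ (p * p) ∈ H :=
      ⟨p * p, show ((p * p : ↥(Pc z x)) : G) ∈ M from S.sq_mem_M hp (mem_Pc.mp p.2).1, rfl⟩
    rw [h, Subgroup.mem_bot, map_mul, ← pow_two] at h2
    have := orderOf_dvd_of_pow_eq_one h2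
    rw [hσ] at this
    norm_num at this
  · obtain ⟨p, hp', hpe⟩ : g ∈ H := h ▸ Subgroup.mem_top g
    exact ⟨p, hp', hpe⟩

theorem exists_outside : ∃ u ∈ U z x, u ∉ M := by
  obtain ⟨φ, hs, hk⟩ := S.phi hp
  obtain ⟨c, hc, hcM⟩ := SetLike.not_le_iff_exists.mp (S.Pc_not_le hp)
  obtain ⟨m, hm, hme⟩ := S.surj_M hp φ hs (φ ⟨c, hc⟩)
  have h1 : ((m⁻¹ * ⟨c, hc⟩ : ↥(Pc z x)) : G) ∈ U x z ⊔ U z x :=
    hk ▸ Subgroup.mem_map_of_mem (Pc z x).subtype (show m⁻¹ * ⟨c, hc⟩ ∈ φ.ker by rw [MonoidHom.mem_ker, map_mul, map_inv, hme, inv_mul_cancel])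
  obtain ⟨u, hu, t, ht, e⟩ := mem_sup (S.U_norm_T hp) (sup_comm (U x z) (U z x) ▸ h1)
  refine ⟨u, hu, fun huM => hcM ?_⟩
  have : ((m⁻¹ * ⟨c, hc⟩ : ↥(Pc z x)) : G) ∈ M := e ▸ mul_mem huM (S.Q_le (mem_U.mp ht).1)
  simpa using mul_mem hm this

theorem card_UM : Nat.card ↥(U z x ⊓ M) = 2 ^ 11 := by
  obtain ⟨b, hb, hbM⟩ := S.exists_outside hp
  have h1 : (M.subgroupOf (U z x)).index = 2 := by
    refine Subgroup.index_eq_two_iff.mpr ⟨⟨b, hb⟩, fun c => ?_⟩
    show Xor ((c : G) * b ∈ M) ((c : G) ∈ M)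
    by_cases hc : (c : G) ∈ M
    · exact Or.inr ⟨hc, fun h => hbM (by simpa using mul_mem (inv_mem hc) h)⟩
    · exact Or.inl ⟨S.M_index _ _ (mem_U.mp c.2).2 (mem_U.mp hb).2 hc hbM, hc⟩
  have h2 := Subgroup.card_mul_index (M.subgroupOf (U z x))
  rw [h1, S.card_U hp] at h2
  have h3 : Nat.card (M.subgroupOf (U z x)) = Nat.card ↥(U z x ⊓ M) := by
    rw [← Subgroup.card_map_of_injective (U z x).subtype_injective, Subgroup.subgroupOf_map_subtype, inf_comm]
  omega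

theorem inter_le_UM : coreCent z ⊓ coreCent x ≤ U z x ⊓ M :=
  fun a ha => ⟨mem_U.mpr ⟨ha.2, S.es.comm a ha.1⟩, S.Q_le ha.1⟩

/-- An element of order five acts nontrivially on the section. -/
theorem five_moves {s : G} (hs5 : s ^ 5 = 1) (hs1 : s ≠ 1) (hsz : s * z = z * s) (hsx : s * x = x * s) :
    ∃ u ∈ U z x ⊓ M, s * u * s⁻¹ * u⁻¹ ∉ coreCent z := by
  by_contra hall
  push Not at hall
  have hD := S.inter_le_UM hp
  have hinter : ∀ a, a ∈ coreCent z → a ∈ coreCent x → s * a * s⁻¹ ∈ coreCent z ⊓ coreCent x := fun a h1 h2 =>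
    ⟨S.nor hsz h1, (S.esx hp.cj).nor s hsx a h2⟩
  have hxs : s * x * s⁻¹ = x := conj_eq_iff.mpr hsx
  have hzs : s * z * s⁻¹ = z := conj_eq_iff.mpr hsz
  -- trivial on `U` modulo the intersection
  have hU : ∀ u ∈ U z x, s * u * s⁻¹ * u⁻¹ ∈ coreCent z := by
    intro u hu
    by_cases huM : u ∈ M
    · exact hall u ⟨hu, huM⟩
    set w := u⁻¹ * (s * u * s⁻¹) with hw
    have hwU : w ∈ U z x := mul_mem (inv_mem hu) (S.nor_U hp.cj hsz hsx hu)
    have hwM : w ∈ M := by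
      have huz := (mem_U.mp hu).2
      refine S.M_index _ _ (comm_inv huz) (mem_U.mp (S.nor_U hp.cj hsz hsx hu)).2 (fun h => huM (by simpa using inv_mem h))
        fun h => huM ?_
      have hsz' := comm_inv hsz
      have := S.M_normal hsz' h
      simpa [mul_assoc] using this
    -- iterate five times
    have key : ∀ n : ℕ, ∃ d ∈ coreCent z, s ^ n * u * (s ^ n)⁻¹ = u * w ^ n * d := by
      intro n
      induction n with
      | zero => exact ⟨1, one_mem _, by simp⟩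
      | succ n ih =>
        obtain ⟨d, hd, e⟩ := ih
        have hwn : s * w ^ n * s⁻¹ * (w ^ n)⁻¹ ∈ coreCent z := hall _ ⟨pow_mem hwU n, pow_mem hwM n⟩
        refine ⟨(w ^ n)⁻¹ * (s * w ^ n * s⁻¹ * (w ^ n)⁻¹) * (w ^ n) * (s * d * s⁻¹), mul_mem ?_ (S.nor hsz hd), ?_⟩
        · have hc : (w ^ n)⁻¹ * z = z * (w ^ n)⁻¹ := comm_inv (mem_U.mp (pow_mem hwU n)).2
          have := S.nor hc hwn
          rwa [inv_inv] at this
        · calc s ^ (n + 1) * u * (s ^ (n + 1))⁻¹ = s * (s ^ n * u * (s ^ n)⁻¹) * s⁻¹ := by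
                rw [pow_succ']; group
            _ = (s * u * s⁻¹) * (s * w ^ n * s⁻¹) * (s * d * s⁻¹) := by rw [e]; group
            _ = _ := by rw [pow_succ', hw]; group
    obtain ⟨d, hd, e⟩ := key 5
    rw [hs5, one_mul, inv_one, mul_one] at e
    have h5 : w ^ 5 ∈ coreCent z := by
      have : w ^ 5 = d⁻¹ := by
        rw [mul_assoc] at e
        exact eq_inv_of_mul_eq_one_left (left_eq_mul.mp e)
      rw [this]; exact inv_mem hd
    have h4 : w ^ 4 ∈ coreCent z := by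
      rw [show w ^ 4 = (w * w) ^ 2 by rw [← pow_two, ← pow_mul]]
      refine pow_mem ?_ 2
      rcases (S.esx hp.cj).sq w (mem_U.mp hwU).1 with e | e <;> rw [e]
      exacts [one_mem _, hp.mem]
    have hw1 : w ∈ coreCent z := by
      have := mul_mem (inv_mem h4) h5
      rwa [pow_succ w 4, inv_mul_cancel_left] at this
    have := S.nor (mem_U.mp hu).2 hw1
    rwa [hw, show u * (u⁻¹ * (s * u * s⁻¹)) * u⁻¹ = s * u * s⁻¹ * u⁻¹ by group] at this
  have cop : ∀ a b : G, s * a * s⁻¹ = a * b → s * b = b * s → (b * b = 1 ∨ b * b = z) → s * a * s⁻¹ = a := by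
    intro a b h hb hb2
    have e := pow_conj h hb 5
    rw [hs5, one_mul, inv_one, mul_one] at e
    have e5 : b ^ 5 = 1 := left_eq_mul.mp e
    have e4 : b ^ 4 = 1 := by
      rw [show b ^ 4 = (b * b) ^ 2 by rw [← pow_two, ← pow_mul]]
      rcases hb2 with e2 | e2 <;> rw [e2, pow_two]
      · exact one_mul 1
      · exact S.zz
    rw [pow_succ, e4, one_mul] at e5
    rw [h, e5, mul_one]
  -- trivial on the intersection
  have hfour : ∀ a, (a = 1 ∨ a = z ∨ a = x ∨ a = z * x) → s * a = a * s := by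
    rintro a (rfl | rfl | rfl | rfl)
    exacts [by simp, hsz, hsx, Commute.mul_right hsz hsx]
  have hDfix : ∀ d, d ∈ coreCent z → d ∈ coreCent x → s * d * s⁻¹ = d := by
    intro d hd hd'
    set d' := d⁻¹ * (s * d * s⁻¹) with hd'def
    have h1 : d' ∈ coreCent z ⊓ coreCent x := mul_mem (inv_mem (show d ∈ coreCent z ⊓ coreCent x from ⟨hd, hd'⟩))
      (hinter d hd hd')
    have h2 : ∀ u ∈ coreCent x, u * z = z * u → d' * u = u * d' := by
      intro u hu huz
      set e := s * d * s⁻¹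
      set u' := s * u * s⁻¹
      have he : e ∈ coreCent z ∧ e ∈ coreCent x := hinter d hd hd'
      have hcu : (u * d = d * u) ↔ (u * e = e * u) := by
        have hr : s * u * s⁻¹ * u⁻¹ ∈ coreCent z := hU u (mem_U.mpr ⟨hu, huz⟩)
        have hrx : s * u * s⁻¹ * u⁻¹ ∈ coreCent x := mul_mem ((S.esx hp.cj).nor s hsx u hu) (inv_mem hu)
        have hre : Commute (s * u * s⁻¹ * u⁻¹) e := S.inter_comm S.cj_self hp.cj hp.ne hr hrx he.1 he.2
        constructor
        · intro h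
          have h' : Commute u' e := by
            have := congrArg (fun t => s * t * s⁻¹) h
            simpa [u', e, mul_assoc, Commute, SemiconjBy] using this
          have := Commute.mul_left hre.inv_left h'
          rwa [show (s * u * s⁻¹ * u⁻¹)⁻¹ * u' = u by simp [u', mul_assoc]] at this
        · intro h
          have h' : Commute u' e := by
            have := Commute.mul_left hre (show Commute u e from h)
            rwa [inv_mul_cancel_right] at this
          have := congrArg (fun t => s⁻¹ * t * s) h'.eq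
          simpa [u', e, mul_assoc] using this
      have hiff := (S.esx hp.cj).toExt.mul_comm_iff (g₁ := ⟨d, hd'⟩⁻¹) (g₂ := ⟨e, he.2⟩) (a := ⟨u, hu⟩)
      have hd_inv : (d⁻¹ * u = u * d⁻¹) ↔ (d * u = u * d) := ⟨fun h => by simpa using comm_inv h, comm_inv⟩
      have := hiff.mpr (by
        simp only [Subtype.ext_iff, Subgroup.coe_mul, InvMemClass.coe_inv]
        rw [hd_inv, eq_comm (a := d * u), hcu, eq_comm])
      simpa [d', Subtype.ext_iff] using this
    have h3 := (S.esx hp.cj).mem_four (S.z_mem hp) S.zz h1.2 h2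
    have h4 : d' = 1 ∨ d' = z ∨ d' = x ∨ d' = z * x := by
      rcases h3 with e | e | e | e
      exacts [Or.inl e, Or.inr (Or.inr (Or.inl e)), Or.inr (Or.inl e), Or.inr (Or.inr (Or.inr (e.trans (S.x_comm hp))))]
    exact cop d d' (by rw [hd'def, mul_inv_cancel_left]) (hfour d' h4) (S.es.sq d' h1.1)
  -- trivial on the centralizer of `x` in the core of `z`
  have hTfix : ∀ t ∈ coreCent z, t * x = x * t → s * t * s⁻¹ = t := by
    intro t ht htx
    set t' := t⁻¹ * (s * t * s⁻¹) with ht'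
    have h1 : t' ∈ coreCent z := mul_mem (inv_mem ht) (S.nor hsz ht)
    have h2 : t' ∈ coreCent x := by
      refine S.cent_inter S.cj_self hp.cj hp.mem hp.ne h1 fun d hd hd' => ?_
      have e := hDfix d hd hd'
      rcases S.es.conj_cases ht hd with f | f
      · have hc1 : Commute t d := conj_eq_iff.mp f
        have hc2 : Commute (s * t * s⁻¹) d := by
          have := congrArg (fun y => s * y * s⁻¹) hc1.eq
          rw [show s * (t * d) * s⁻¹ = (s * t * s⁻¹) * (s * d * s⁻¹) by group,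
            show s * (d * t) * s⁻¹ = (s * d * s⁻¹) * (s * t * s⁻¹) by group, e] at this
          exact this
        exact (hc1.inv_left.mul_left hc2).eq
      · have g1 : (s * t * s⁻¹) * d * (s * t * s⁻¹)⁻¹ = d * z := by
          calc (s * t * s⁻¹) * d * (s * t * s⁻¹)⁻¹ = (s * t * s⁻¹) * (s * d * s⁻¹) * (s * t * s⁻¹)⁻¹ := by rw [e]
            _ = s * (t * d * t⁻¹) * s⁻¹ := by group
            _ = (s * d * s⁻¹) * (s * z * s⁻¹) := by rw [f]; group
            _ = d * z := by rw [e, hzs]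
        refine conj_eq_iff.mp ?_
        calc t' * d * t'⁻¹ = t⁻¹ * ((s * t * s⁻¹) * d * (s * t * s⁻¹)⁻¹) * t := by rw [ht']; group
          _ = t⁻¹ * (t * d * t⁻¹) * t := by rw [g1, f]
          _ = d := by group
    exact cop t t' (by rw [ht', mul_inv_cancel_left]) (conj_eq_iff.mp (hDfix t' h1 h2)) (S.es.sq t' h1)
  -- trivial on the core, a contradiction
  have hQfix : ∀ q ∈ coreCent z, s * q = q * s := by
    intro q hq
    set q' := q⁻¹ * (s * q * s⁻¹) with hq'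
    have h1 : q' ∈ coreCent z := mul_mem (inv_mem hq) (S.nor hsz hq)
    have hxx := (S.esx hp.cj).zz
    have h2 : q' = 1 ∨ q' = z ∨ q' = x ∨ q' = z * x := S.es.mem_four hp.mem hxx h1 fun t ht htx => by
      have e := hTfix t ht htx
      rcases S.es.conj_cases hq ht with f | f
      · have hc1 : Commute q t := conj_eq_iff.mp f
        have hc2 : Commute (s * q * s⁻¹) t := by
          have := congrArg (fun y => s * y * s⁻¹) hc1.eq
          rw [show s * (q * t) * s⁻¹ = (s * q * s⁻¹) * (s * t * s⁻¹) by group,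
            show s * (t * q) * s⁻¹ = (s * t * s⁻¹) * (s * q * s⁻¹) by group, e] at this
          exact this
        exact (hc1.inv_left.mul_left hc2).eq
      · have g1 : (s * q * s⁻¹) * t * (s * q * s⁻¹)⁻¹ = t * z := by
          calc (s * q * s⁻¹) * t * (s * q * s⁻¹)⁻¹ = (s * q * s⁻¹) * (s * t * s⁻¹) * (s * q * s⁻¹)⁻¹ := by rw [e]
            _ = s * (q * t * q⁻¹) * s⁻¹ := by group
            _ = (s * t * s⁻¹) * (s * z * s⁻¹) := by rw [f]; group
            _ = t * z := by rw [e, hzs]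
        refine conj_eq_iff.mp ?_
        calc q' * t * q'⁻¹ = q⁻¹ * ((s * q * s⁻¹) * t * (s * q * s⁻¹)⁻¹) * q := by rw [hq']; group
          _ = q⁻¹ * (q * t * q⁻¹) * q := by rw [g1, f]
          _ = t := by group
    exact conj_eq_iff.mp (cop q q' (by rw [hq', mul_inv_cancel_left]) (hfour q' h2) (S.es.sq q' h1))
  rcases S.es.cen s hQfix with e | e
  · exact hs1 e
  · rw [e, show (5 : ℕ) = 4 + 1 from rfl, pow_succ, show z ^ 4 = (z * z) ^ 2 by rw [← pow_two, ← pow_mul], S.zz,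
      one_pow, one_mul] at hs5
    exact S.es.ne hs5

/-- The action on the section of order sixteen. -/
theorem act : ∃ φ : ↥(Pc z x ⊓ M) →* A6, Act (Pc z x ⊓ M) (U z x ⊓ M) (coreCent z ⊓ coreCent x) φ ∧
    ∀ c, φ c = 1 → (c : G) ∈ U x z ⊔ U z x := by
  obtain ⟨φ, hs, hk⟩ := S.phi hp
  let ψ : ↥(Pc z x ⊓ M) →* A6 := φ.comp (Subgroup.inclusion inf_le_left)
  have hker : ∀ c, ψ c = 1 → (c : G) ∈ U x z ⊔ U z x := fun c hc =>
    hk ▸ Subgroup.mem_map_of_mem (Pc z x).subtype (show Subgroup.inclusion inf_le_left c ∈ φ.ker from hc)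
  have hnorW : ∀ c, c ∈ Pc z x → ∀ w ∈ U z x ⊓ M, c * w * c⁻¹ ∈ U z x ⊓ M := fun c hc w hw =>
    ⟨S.nor_U hp.cj (mem_Pc.mp hc).1 (mem_Pc.mp hc).2 hw.1, S.M_normal (mem_Pc.mp hc).1 hw.2⟩
  have hnorD : ∀ c, c ∈ Pc z x → ∀ d ∈ coreCent z ⊓ coreCent x, c * d * c⁻¹ ∈ coreCent z ⊓ coreCent x :=
    fun c hc d hd => ⟨S.nor (mem_Pc.mp hc).1 hd.1, (S.esx hp.cj).nor c (mem_Pc.mp hc).2 d hd.2⟩
  have hxD : x ∈ coreCent z ⊓ coreCent x := ⟨hp.mem, (S.esx hp.cj).mem⟩
  have hUU : ∀ w ∈ U z x, ∀ v ∈ U z x, w * v * w⁻¹ * v⁻¹ ∈ coreCent z ⊓ coreCent x := fun w hw v hv => by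
    rcases (S.esx hp.cj).conj_cases (mem_U.mp hw).1 (mem_U.mp hv).1 with e | e <;> rw [e]
    · rw [mul_inv_cancel]; exact one_mem _
    · rw [(S.esx hp.cj).comm v (mem_U.mp hv).1, mul_inv_cancel_right]; exact hxD
  refine ⟨ψ, ⟨S.inter_le_UM hp, fun w hw d hd => hnorD w (S.U_le_Pc hp.cj hw.1) d hd,
    fun w hw v hv => hUU w hw.1 v hv.1, fun c hc => hnorW c hc.1, fun c hc => hnorD c hc.1,
    fun g => ?_, fun c hc w hw => ?_, ?_, ?_⟩, hker⟩
  · obtain ⟨p, hpM, rfl⟩ := S.surj_M hp φ hs g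
    exact ⟨⟨p, p.2, hpM⟩, rfl⟩
  · obtain ⟨u, hu, t, ht, e⟩ := mem_sup (S.U_norm_T hp) (sup_comm (U x z) (U z x) ▸ hker c hc)
    have htP : t ∈ Pc z x := mem_Pc.mpr ⟨S.U_comm S.cj_self ht, (mem_U.mp ht).2⟩
    rw [e, show u * t * w * (u * t)⁻¹ * w⁻¹ = u * (t * w * t⁻¹ * w⁻¹) * u⁻¹ * (u * w * u⁻¹ * w⁻¹) by group]
    refine mul_mem (hnorD u (S.U_le_Pc hp.cj hu) _ ⟨?_, ?_⟩) (hUU u hu w hw.1)
    · rw [show t * w * t⁻¹ * w⁻¹ = t * (w * t⁻¹ * w⁻¹) by group]
      exact mul_mem (mem_U.mp ht).1 (S.nor (mem_U.mp hw.1).2 (inv_mem (mem_U.mp ht).1))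
    · show t * w * t⁻¹ * w⁻¹ ∈ coreCent x
      exact mul_mem ((S.esx hp.cj).nor t (mem_U.mp ht).2 w (mem_U.mp hw.1).1) (inv_mem (mem_U.mp hw.1).1)
  · rw [S.card_UM hp, S.inter' S.cj_self hp.cj hp.mem hp.ne]; rfl
  · have : Fact (Nat.Prime 5) := ⟨by norm_num⟩
    obtain ⟨s, hs'⟩ := exists_prime_orderOf_dvd_card' (G := ↥(Pc z x)) 5 (by rw [S.card_Pc hp]; norm_num)
    have hs5 : (s : G) ^ 5 = 1 := by
      rw [← SubmonoidClass.coe_pow, ← hs', pow_orderOf_eq_one, OneMemClass.coe_one]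
    have hs1 : (s : G) ≠ 1 := fun e => by
      rw [show s = 1 from Subtype.ext e, orderOf_one] at hs'; omega
    have hsM : (s : G) ∈ M := by
      have h2 := S.sq_mem_M hp (mem_Pc.mp s.2).1
      have h6 := pow_mem h2 3
      rwa [← pow_two, ← pow_mul, pow_succ, hs5, one_mul] at h6
    obtain ⟨u, hu, hne⟩ := S.five_moves hp hs5 hs1 (mem_Pc.mp s.2).1 (mem_Pc.mp s.2).2
    exact ⟨s, ⟨s.2, hsM⟩, u, hu, fun h => hne h.1⟩

/-- An element of the section fixed by the centralizer lies in the intersection. -/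
theorem fixed_section {u : G} (hu : u ∈ U z x) (huM : u ∈ M)
    (hfix : ∀ c, c * z = z * c → c * x = x * c → c ∈ M → c * u * c⁻¹ * u⁻¹ ∈ coreCent z) : u ∈ coreCent z := by
  obtain ⟨φ, hA, -⟩ := S.act hp
  refine (hA.fixed ⟨hu, huM⟩ fun c hc => ⟨hfix c (mem_Pc.mp hc.1).1 (mem_Pc.mp hc.1).2 hc.2, ?_⟩).1
  show c * u * c⁻¹ * u⁻¹ ∈ coreCent x
  exact mul_mem ((S.esx hp.cj).nor c (mem_Pc.mp hc.1).2 u (mem_U.mp hu).1) (inv_mem (mem_U.mp hu).1)

end Setup

end CfsgLib.Fi24Three
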