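import Cfsg.Agent.Lib.Fi24Three.Six
import Cfsg.Agent.Lib.LargeExtra.Singular
import Cfsg.Agent.Lib.CentrallyLarge

/-!
The setting of groups of large Fischer type used for the local subgroups of `2^{3+12}` shape: the cores of the
centralizers of conjugates of `z`, an element of order three acting without fixed points, and the data of a pair.
-/

set_option autoImplicit false
set_option linter.unusedSectionVars false

namespace CfsgLib.Fi24Three

open CfsgLargeExtra

universe u

variable {G : Type u} [Group G] [Finite G]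

/-- `x` is a conjugate of `z`. -/
def Cj (z x : G) : Prop := ∃ g : G, g * z * g⁻¹ = x

/-- The facts of the setting. -/
structure Setup (z : G) (M : Subgroup G) (ρ : G) : Prop where
  hz : orderOf z = 2
  es : ES (coreCent z) z
  hE : Cfsg.IsExtraspecial 2 (coreCent z)
  card_Q : Nat.card (coreCent z) = 2 ^ 13
  Q_le : coreCent z ≤ M
  M_le : ∀ m ∈ M, m * z = z * m
  M_index : ∀ a b : G, a * z = z * a → b * z = z * b → a ∉ M → b ∉ M → a * b ∈ M
  M_card : ¬ 2 ^ 21 ∣ Nat.card M
  rho_ord : orderOf ρ = 3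
  rho_mem : ρ ∈ M
  fpf : ∀ q ∈ coreCent z, (ρ * q * ρ⁻¹ = q ∨ ρ * q * ρ⁻¹ = q * z) → q = 1 ∨ q = z
  central : ∀ m ∈ M, m * ρ * m⁻¹ * ρ⁻¹ ∈ coreCent z
  invert : ∀ c : G, c * z = z * c → c ∉ M → c * ρ * c⁻¹ * ρ ∈ coreCent z
  nwc : ∃ x, Cj z x ∧ x ∈ coreCent z ∧ x ≠ z
  inter : ∀ x, Cj z x → x ∈ coreCent z → x ≠ z → Nat.card ↥(coreCent z ⊓ coreCent x) = 2 ^ 7
  quot : ∀ x, Cj z x → x ∈ coreCent z → x ≠ z →
    ∃ φ : ↥(Subgroup.centralizer ({z} : Set G) ⊓ Subgroup.centralizer ({x} : Set G)) →* A6,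
      Function.Surjective φ ∧ ∀ c, φ c = 1 ↔
        ∃ q ∈ coreCent z, ∃ u ∈ coreCent x, u * z = z * u ∧ (c : G) = q * u

theorem mem_cent {x c : G} : c ∈ Subgroup.centralizer ({x} : Set G) ↔ c * x = x * c :=
  Subgroup.mem_centralizer_singleton_iff

theorem mem_cent_set {H : Subgroup G} {c : G} :
    c ∈ Subgroup.centralizer (H : Set G) ↔ ∀ h ∈ H, c * h = h * c :=
  Subgroup.mem_centralizer_iff.trans ⟨fun h x hx => (h x hx).symm, fun h x hx => (h x hx).symm⟩

theorem comm_inv {a b : G} (h : a * b = b * a) : a⁻¹ * b = b * a⁻¹ :=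
  (Commute.inv_left h).eq

theorem conj_eq_iff {a b : G} : a * b * a⁻¹ = b ↔ a * b = b * a := mul_inv_eq_iff_eq_mul

/-- The membership form of a supremum of a subgroup and one normalizing it. -/
theorem mem_sup {A B : Subgroup G} (h : A ≤ Subgroup.normalizer (B : Set G)) {x : G} (hx : x ∈ A ⊔ B) :
    ∃ a ∈ A, ∃ b ∈ B, x = a * b := by
  have h1 : x ∈ (↑(A ⊔ B) : Set G) := hx
  rw [Subgroup.coe_mul_of_left_le_normalizer_right A B h] at h1
  obtain ⟨a, ha, b, hb, rfl⟩ := h1
  exact ⟨a, ha, b, hb, rfl⟩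

theorem le_norm {A B : Subgroup G} (h : ∀ a ∈ A, ∀ b ∈ B, a * b * a⁻¹ ∈ B) :
    A ≤ Subgroup.normalizer (B : Set G) := by
  intro a ha
  refine Subgroup.mem_normalizer_iff.mpr fun b => ⟨h a ha b, fun hb => ?_⟩
  have := h a⁻¹ (inv_mem ha) _ hb
  simpa [mul_assoc] using this

namespace Setup

variable {z : G} {M : Subgroup G} {ρ : G} (S : Setup z M ρ)
include S

theorem zz : z * z = 1 := S.es.zz

theorem cj_self : Cj z z := ⟨1, by simp⟩

theorem esx {x : G} (hx : Cj z x) : ES (coreCent x) x := by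
  obtain ⟨g, rfl⟩ := hx
  rw [coreCent_conj]
  exact S.es.cj g

theorem card_Qx {x : G} (hx : Cj z x) : Nat.card (coreCent x) = 2 ^ 13 := by
  obtain ⟨g, rfl⟩ := hx
  rw [coreCent_conj]
  exact (Subgroup.card_map_of_injective (MulAut.conj g).injective).trans S.card_Q

theorem cj_conj {x : G} (hx : Cj z x) (g : G) : Cj z (g * x * g⁻¹) := by
  obtain ⟨k, rfl⟩ := hx
  exact ⟨g * k, by group⟩

theorem ne_one {x : G} (hx : Cj z x) : x ≠ 1 := (S.esx hx).ne

/-- Commuting with `z` preserves the core. -/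
theorem nor {c q : G} (hc : c * z = z * c) (hq : q ∈ coreCent z) : c * q * c⁻¹ ∈ coreCent z := S.es.nor c hc q hq

theorem rho_z : ρ * z = z * ρ := S.M_le ρ S.rho_mem

theorem M_normal {c m : G} (hc : c * z = z * c) (hm : m ∈ M) : c * m * c⁻¹ ∈ M := by
  by_cases h : c ∈ M
  · exact mul_mem (mul_mem h hm) (inv_mem h)
  · have hcm : c * m ∉ M := fun h' => h (by simpa using mul_mem h' (inv_mem hm))
    have hz1 : c * m * z = z * (c * m) := Commute.mul_left hc (S.M_le m hm)
    exact S.M_index _ _ hz1 (comm_inv hc) hcm fun h' => h (by simpa using inv_mem h')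

/-- Two mutually contained conjugates. -/
theorem symm {x : G} (hx : Cj z x) (hxQ : x ∈ coreCent z) : z ∈ coreCent x := by
  obtain ⟨g, rfl⟩ := hx
  rw [coreCent_conj]
  exact S.es.symm_mem hxQ fun _ => S.es.exists_pair (by rw [S.card_Q]; norm_num) hxQ (S.es.cj g).zz

theorem symm' {v w : G} (hv : Cj z v) (hw : Cj z w) (h : w ∈ coreCent v) : v ∈ coreCent w := by
  obtain ⟨g, rfl⟩ := hv
  have hw' := S.cj_conj hw g⁻¹
  rw [coreCent_conj, mem_cj] at h
  rw [inv_inv] at hw'
  have h1 := S.symm hw' h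
  have h2 := conj_mem_cj (g := g) h1
  rw [← coreCent_conj, show g * (g⁻¹ * w * g) * g⁻¹ = w by group] at h2
  exact h2

theorem inter' {v w : G} (hv : Cj z v) (hw : Cj z w) (h : w ∈ coreCent v) (hne : w ≠ v) :
    Nat.card ↥(coreCent v ⊓ coreCent w) = 2 ^ 7 := by
  obtain ⟨g, rfl⟩ := hv
  have hw' := S.cj_conj hw g⁻¹
  rw [inv_inv] at hw'
  rw [coreCent_conj, mem_cj] at h
  have h1 := S.inter _ hw' h fun e => hne (by rw [← e]; group)
  rw [← Subgroup.card_map_of_injective (f := (MulAut.conj g).toMonoidHom) (MulAut.conj g).injective,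
    Subgroup.map_inf _ _ _ (MulAut.conj g).injective] at h1
  rw [coreCent_conj]
  rw [show (coreCent (g⁻¹ * w * g)).map (MulAut.conj g).toMonoidHom = cj g (coreCent (g⁻¹ * w * g)) from rfl,
    ← coreCent_conj, show g * (g⁻¹ * w * g) * g⁻¹ = w by group] at h1
  exact h1

/-- The intersection of two cores is elementary abelian. -/
theorem inter_comm {v w : G} (hv : Cj z v) (hw : Cj z w) (hne : w ≠ v) {a b : G} (ha : a ∈ coreCent v)
    (ha' : a ∈ coreCent w) (hb : b ∈ coreCent v) (hb' : b ∈ coreCent w) : a * b = b * a := by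
  rcases (S.esx hv).conj_cases ha hb with e | e
  · exact conj_eq_iff.mp e
  · rcases (S.esx hw).conj_cases ha' hb' with e' | e'
    · exact conj_eq_iff.mp e'
    · exact absurd (mul_left_cancel (e'.symm.trans e)) hne

theorem inter_sq {v w : G} (hv : Cj z v) (hw : Cj z w) (hne : w ≠ v) {a : G} (ha : a ∈ coreCent v)
    (ha' : a ∈ coreCent w) : a * a = 1 := by
  rcases (S.esx hv).sq a ha with e | e
  · exact e
  · rcases (S.esx hw).sq a ha' with e' | e'
    · exact e'
    · exact absurd (e'.symm.trans e) hne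

/-- Centralizers inside a core. -/
theorem card_cent {v : G} (hv : Cj z v) {H : Subgroup G} (hH : H ≤ coreCent v) (hvH : v ∈ H) :
    Nat.card H * Nat.card ↥(coreCent v ⊓ Subgroup.centralizer (H : Set G)) = 2 ^ 14 := by
  have h := S.esx hv
  have h1 := h.toExt.card_mul_card_centralizer (A := H.subgroupOf (coreCent v))
    (show (⟨v, h.mem⟩ : coreCent v) ∈ H.subgroupOf (coreCent v) from hvH)
  have e1 : Nat.card (H.subgroupOf (coreCent v)) = Nat.card H :=
    Nat.card_congr (Subgroup.subgroupOfEquivOfLe hH).toEquiv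
  have e2 : Nat.card (Subgroup.centralizer ((H.subgroupOf (coreCent v) : Subgroup (coreCent v)) : Set (coreCent v))) =
      Nat.card ↥(coreCent v ⊓ Subgroup.centralizer (H : Set G)) := by
    refine Nat.card_congr ⟨fun c => ⟨c.1.1, c.1.2, mem_cent_set.mpr fun x hx => ?_⟩,
      fun c => ⟨⟨c.1, c.2.1⟩, mem_cent_set.mpr fun x hx => Subtype.ext (mem_cent_set.mp c.2.2 x hx)⟩,
      fun c => rfl, fun c => rfl⟩
    exact congrArg Subtype.val (mem_cent_set.mp c.2 ⟨x, hH hx⟩ hx)
  rw [e1, e2, S.card_Qx hv] at h1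
  exact h1

/-- The centralizer of a member in the core of another conjugate. -/
theorem card_cent_one {v w : G} (hv : Cj z v) (hw : Cj z w) (hwv : w ∈ coreCent v) (hne : w ≠ v) :
    Nat.card ↥(coreCent v ⊓ Subgroup.centralizer ({w} : Set G)) = 2 ^ 12 := by
  classical
  have h := S.esx hv
  have h' := S.esx hw
  let V := fourGroup v w h.zz h'.zz (h.comm w hwv).symm
  have hV : V ≤ coreCent v := by
    rintro y (rfl | rfl | rfl | rfl)
    exacts [one_mem _, h.mem, hwv, mul_mem h.mem hwv]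
  have hcard : Nat.card V = 4 := by
    have hset : (V : Set G) = {1, v, w, v * w} := by
      ext y; simp [V, fourGroup]
    have h1 : v * w ≠ 1 := fun e => hne (by
      have := eq_inv_of_mul_eq_one_right e; rwa [inv_eq_of_mul_eq_one_right h.zz] at this)
    rw [← SetLike.coe_sort_coe, Nat.card_coe_set_eq, hset, Set.ncard_insert_of_notMem, Set.ncard_insert_of_notMem,
      Set.ncard_insert_of_notMem, Set.ncard_singleton] <;>
      simp [h.ne.symm, h'.ne.symm, Ne.symm hne, h1.symm, h.ne, h'.ne]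
  have h1 := S.card_cent hv hV (Or.inr (Or.inl rfl))
  have heq : coreCent v ⊓ Subgroup.centralizer (V : Set G) = coreCent v ⊓ Subgroup.centralizer ({w} : Set G) := by
    ext c
    refine ⟨fun hc => ⟨hc.1, mem_cent.mpr (mem_cent_set.mp hc.2 w (Or.inr (Or.inr (Or.inl rfl))))⟩,
      fun hc => ⟨hc.1, mem_cent_set.mpr ?_⟩⟩
    rintro y (rfl | rfl | rfl | rfl)
    · simp
    · exact h.comm c hc.1
    · exact mem_cent.mp hc.2
    · exact Commute.mul_right (h.comm c hc.1) (mem_cent.mp hc.2)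
  rw [hcard, heq] at h1
  omega

end Setup

end CfsgLib.Fi24Three
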