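import Mathlib

/-!
Actions of the alternating group of degree six on groups of order sixteen: an element of order five is
fixed-point-free, there are no proper invariant subgroups and no nontrivial invariant quadratic maps.
-/

set_option autoImplicit false

namespace CfsgLib.Fi24Three

abbrev A6 : Type := ↥(alternatingGroup (Fin 6))

theorem card_A6 : Nat.card A6 = 360 := by
  rw [nat_card_alternatingGroup, Nat.card_eq_fintype_card, Fintype.card_fin]
  rfl

instance simple_A6 : IsSimpleGroup A6 := alternatingGroup.isSimpleGroup (by simp)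

theorem exists_five : ∃ σ : A6, orderOf σ = 5 := by
  have : Fact (Nat.Prime 5) := ⟨by norm_num⟩
  exact exists_prime_orderOf_dvd_card' 5 (by rw [card_A6]; norm_num)

/-- A homomorphism from the group is trivial or injective. -/
theorem hom_cases {H : Type*} [Group H] (f : A6 →* H) : f = 1 ∨ Function.Injective f := by
  rcases f.normal_ker.eq_bot_or_eq_top with h | h
  · exact Or.inr ((MonoidHom.ker_eq_bot_iff f).mp h)
  · exact Or.inl (MonoidHom.ker_eq_top_iff.mp h)

/-- An action on at most five points is trivial. -/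
theorem perm_trivial {β : Type*} [Finite β] (hβ : Nat.card β ≤ 5) (f : A6 →* Equiv.Perm β) : f = 1 := by
  rcases hom_cases f with h | h
  · exact h
  · exfalso
    have h1 := Nat.card_le_card_of_injective f h
    rw [card_A6, Nat.card_perm] at h1
    have h2 := Nat.factorial_le hβ
    norm_num [Nat.factorial] at h2
    omega

/-- The number of fixed points of a permutation whose fifth power is trivial. -/
theorem fix_count {β : Type*} [Finite β] (e : Equiv.Perm β) (he : e ^ 5 = 1) :
    Nat.card β ≡ Nat.card {b : β // e b = b} [MOD 5] := by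
  have : Fact (Nat.Prime 5) := ⟨by norm_num⟩
  have hP : IsPGroup 5 ↥(Subgroup.zpowers e) := by
    intro g
    obtain ⟨g, n, rfl⟩ := g
    refine ⟨1, Subtype.ext ?_⟩
    simp only [pow_one, SubmonoidClass.coe_pow, OneMemClass.coe_one]
    rw [← zpow_natCast (e ^ n) 5, ← zpow_mul, mul_comm, zpow_mul, zpow_natCast, he, one_zpow]
  refine (hP.card_modEq_card_fixedPoints β).trans ?_
  have hiff : ∀ b, b ∈ MulAction.fixedPoints (Subgroup.zpowers e) β ↔ e b = b := fun b => by
    refine ⟨fun h => h ⟨e, Subgroup.mem_zpowers e⟩, fun h g => ?_⟩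
    obtain ⟨g, hg⟩ := g
    have : Subgroup.zpowers e ≤ MulAction.stabilizer (Equiv.Perm β) b := by
      rw [Subgroup.zpowers_le]; exact h
    exact this hg
  exact Nat.card_congr (Equiv.subtypeEquivRight hiff) ▸ Nat.ModEq.refl _

variable {A : Type*} [CommGroup A]

/-- The permutation action of a group of automorphisms. -/
def toPermHom (f : A6 →* MulAut A) : A6 →* Equiv.Perm A where
  toFun g := (f g).toEquiv
  map_one' := by rw [map_one]; rfl
  map_mul' g h := by rw [map_mul]; rfl

variable [Finite A] {f : A6 →* MulAut A} {σ : A6}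

omit [Finite A] in
theorem five_pow (hσ : orderOf σ = 5) : toPermHom f σ ^ 5 = 1 := by
  rw [← map_pow, ← hσ, pow_orderOf_eq_one, map_one]

variable (hA : Nat.card A = 16) (hf : f ≠ 1) (hσ : orderOf σ = 5)
include hA hf hσ

theorem fix_trivial {a : A} (ha : f σ a = a) : a = 1 := by
  let F : Subgroup A := (f σ).toMonoidHom.eqLocus (MonoidHom.id A)
  have hFa : a ∈ F := ha
  have hdvd : Nat.card F ∣ 16 := hA ▸ F.card_subgroup_dvd_card
  have hmod : 16 ≡ Nat.card F [MOD 5] := hA ▸ fix_count (toPermHom f σ) (five_pow hσ)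
  have h16 : Nat.card F ≠ 16 := by
    intro e
    have htop : F = ⊤ := Subgroup.eq_top_of_card_eq _ (e.trans hA.symm)
    have hfσ : f σ = 1 := by
      ext b
      exact (show b ∈ F from htop ▸ Subgroup.mem_top b)
    rcases hom_cases f with h | h
    · exact hf h
    · have := h (hfσ.trans (map_one f).symm)
      rw [this, orderOf_one] at hσ
      omega
  have h1 : Nat.card F = 1 := by
    obtain ⟨k, hk, hke⟩ := (Nat.dvd_prime_pow Nat.prime_two).mp (show Nat.card F ∣ 2 ^ 4 by simpa using hdvd)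
    interval_cases k <;> simp [hke, Nat.ModEq] at hmod h16 ⊢
  rw [Subgroup.card_eq_one] at h1
  exact Subgroup.mem_bot.mp (h1 ▸ hFa)

theorem irreducible {U : Subgroup A} (hU : ∀ g : A6, ∀ u ∈ U, f g u ∈ U) : U = ⊥ ∨ U = ⊤ := by
  let e : Equiv.Perm U :=
    { toFun := fun u => ⟨f σ u, hU σ u u.2⟩
      invFun := fun u => ⟨f σ⁻¹ u, hU σ⁻¹ u u.2⟩
      left_inv := fun u => Subtype.ext (by
        show f σ⁻¹ (f σ (u : A)) = u
        rw [← MulAut.mul_apply, ← map_mul, inv_mul_cancel, map_one]; rfl)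
      right_inv := fun u => Subtype.ext (by
        show f σ (f σ⁻¹ (u : A)) = u
        rw [← MulAut.mul_apply, ← map_mul, mul_inv_cancel, map_one]; rfl) }
  have hpow : ∀ (n : ℕ) (u : U), ((e ^ n) u : A) = (toPermHom f σ ^ n) (u : A) := by
    intro n
    induction n with
    | zero => intro u; rfl
    | succ n ih => intro u; rw [pow_succ, pow_succ, Equiv.Perm.mul_apply, Equiv.Perm.mul_apply, ih]; rfl
  have he : e ^ 5 = 1 := by
    ext u
    rw [hpow 5 u, five_pow hσ]; rfl
  have hmod := fix_count e he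
  have h1 : Nat.card {u : U // e u = u} = 1 := by
    have : Subsingleton {u : U // e u = u} := ⟨fun u v => by
      have hu := fix_trivial hA hf hσ (congrArg Subtype.val u.2)
      have hv := fix_trivial hA hf hσ (congrArg Subtype.val v.2)
      exact Subtype.ext (Subtype.ext (hu.trans hv.symm))⟩
    have : Nonempty {u : U // e u = u} := ⟨⟨1, Subtype.ext (map_one _)⟩⟩
    exact Nat.card_eq_one_iff_unique.mpr ⟨inferInstance, inferInstance⟩
  rw [h1] at hmod
  obtain ⟨k, hk, hke⟩ := (Nat.dvd_prime_pow Nat.prime_two).mp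
    (show Nat.card U ∣ 2 ^ 4 by simpa [hA] using U.card_subgroup_dvd_card)
  interval_cases k <;> simp [hke, Nat.ModEq] at hmod
  · exact Or.inl (Subgroup.card_eq_one.mp hke)
  · exact Or.inr (Subgroup.eq_top_of_card_eq _ (by rw [hke, hA]; norm_num))

/-- An invariant set of nonidentity elements does not have five elements. -/
theorem no_five {S : Set A} (h1 : (1 : A) ∉ S) (hS : ∀ g : A6, ∀ a ∈ S, f g a ∈ S) : Nat.card S ≠ 5 := by
  intro hc
  let p : A6 →* Equiv.Perm S :=
    { toFun := fun g =>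
        { toFun := fun a => ⟨f g a, hS g a a.2⟩
          invFun := fun a => ⟨f g⁻¹ a, hS g⁻¹ a a.2⟩
          left_inv := fun a => Subtype.ext (by
            show f g⁻¹ (f g (a : A)) = a
            rw [← MulAut.mul_apply, ← map_mul, inv_mul_cancel, map_one]; rfl)
          right_inv := fun a => Subtype.ext (by
            show f g (f g⁻¹ (a : A)) = a
            rw [← MulAut.mul_apply, ← map_mul, mul_inv_cancel, map_one]; rfl) }
      map_one' := Equiv.ext fun a => Subtype.ext (by show f 1 (a : A) = a; rw [map_one]; rfl)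
      map_mul' := fun g h => Equiv.ext fun a => Subtype.ext (by
        show f (g * h) (a : A) = f g (f h a); rw [map_mul]; rfl) }
  have : Nonempty S := (Nat.card_pos_iff.mp (show 0 < Nat.card S by omega)).1
  obtain ⟨a⟩ := ‹Nonempty S›
  have hp := perm_trivial (le_of_eq hc) p
  have := congrArg (fun q : A6 →* Equiv.Perm S => ((q σ) a : A)) hp
  exact h1 (fix_trivial hA hf hσ this ▸ a.2)

/-- An invariant map is constant off the identity. -/
theorem const_off_one {Z : Type*} (q : A → Z) (hq : ∀ g : A6, ∀ a, q (f g a) = q a) {a b : A} (ha : a ≠ 1)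
    (hb : b ≠ 1) : q a = q b := by
  classical
  let S : Set A := {x | x ≠ 1 ∧ q x = q a}
  let T : Set A := {x | x ≠ 1 ∧ q x ≠ q a}
  have hne : ∀ g : A6, ∀ x : A, x ≠ 1 → f g x ≠ 1 := fun g x hx e => hx ((f g).injective (e.trans (map_one _).symm))
  have hSi : ∀ g : A6, ∀ x ∈ S, f g x ∈ S := fun g x hx => ⟨hne g x hx.1, (hq g x).trans hx.2⟩
  have hTi : ∀ g : A6, ∀ x ∈ T, f g x ∈ T := fun g x hx => ⟨hne g x hx.1, by rw [hq]; exact hx.2⟩
  have hfive : ∀ (R : Set A), (1 : A) ∉ R → (∀ g : A6, ∀ x ∈ R, f g x ∈ R) → 5 ∣ Nat.card R := by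
    intro R h1 hR
    let e : Equiv.Perm R :=
      { toFun := fun u => ⟨f σ u, hR σ u u.2⟩
        invFun := fun u => ⟨f σ⁻¹ u, hR σ⁻¹ u u.2⟩
        left_inv := fun u => Subtype.ext (by
          show f σ⁻¹ (f σ (u : A)) = u
          rw [← MulAut.mul_apply, ← map_mul, inv_mul_cancel, map_one]; rfl)
        right_inv := fun u => Subtype.ext (by
          show f σ (f σ⁻¹ (u : A)) = u
          rw [← MulAut.mul_apply, ← map_mul, mul_inv_cancel, map_one]; rfl) }
    have hpow : ∀ (n : ℕ) (u : R), ((e ^ n) u : A) = (toPermHom f σ ^ n) (u : A) := by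
      intro n
      induction n with
      | zero => intro u; rfl
      | succ n ih => intro u; rw [pow_succ, pow_succ, Equiv.Perm.mul_apply, Equiv.Perm.mul_apply, ih]; rfl
    have hmod := fix_count e (by ext u; rw [hpow 5 u, five_pow hσ]; rfl)
    have : IsEmpty {u : R // e u = u} := ⟨fun u => h1 (fix_trivial hA hf hσ (congrArg Subtype.val u.2) ▸ u.1.2)⟩
    rw [Nat.card_of_isEmpty (α := {u : R // e u = u})] at hmod
    exact Nat.modEq_zero_iff_dvd.mp hmod
  have hS1 : (1 : A) ∉ S := fun h => h.1 rfl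
  have hT1 : (1 : A) ∉ T := fun h => h.1 rfl
  have hsum : Nat.card S + Nat.card T + 1 = 16 := by
    simp only [Nat.card_coe_set_eq]
    have hu : S ∪ T = {(1 : A)}ᶜ := by
      ext x
      simp only [S, T, Set.mem_union, Set.mem_ofPred_eq, Set.mem_compl_iff, Set.mem_singleton_iff]
      tauto
    have hd : Disjoint S T := Set.disjoint_left.mpr fun x hx hx' => hx'.2 hx.2
    rw [← Set.ncard_union_eq hd, hu, ← hA, ← Set.ncard_add_ncard_compl {(1 : A)}, Set.ncard_singleton, add_comm]
  have hpos : 0 < Nat.card S := Nat.card_pos_iff.mpr ⟨⟨⟨a, ha, rfl⟩⟩, inferInstance⟩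
  have h5S := no_five hA hf hσ hS1 hSi
  have h5T := no_five hA hf hσ hT1 hTi
  obtain ⟨s, hs⟩ := hfive S hS1 hSi
  obtain ⟨t, ht⟩ := hfive T hT1 hTi
  have hT0 : Nat.card T = 0 := by omega
  by_contra hne'
  have : 0 < Nat.card T := Nat.card_pos_iff.mpr ⟨⟨⟨b, hb, fun e => hne' e.symm⟩⟩, inferInstance⟩
  omega

/-- An invariant quadratic map has trivial polar form. -/
theorem polar_trivial {Z : Type*} [CommGroup Z] (hZ : ∀ c : Z, c * c = 1) (q : A → Z) (β : A → A → Z)
    (hq : ∀ g : A6, ∀ a, q (f g a) = q a) (hadd : ∀ a b, q (a * b) = q a * q b * β a b)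
    (hbil : ∀ a b b', β a (b * b') = β a b * β a b') (hself : ∀ a, β a a = 1) (a b : A) : β a b = 1 := by
  have hb1 : ∀ x, β x 1 = 1 := fun x => by
    have := hbil x 1 1; rw [one_mul] at this; exact left_eq_mul.mp this
  have hsw : ∀ x y, β x y = β y x := fun x y => by
    have h := hadd y x
    rw [mul_comm y x, hadd x y, mul_comm (q y) (q x)] at h
    exact mul_left_cancel h
  by_cases ha : a = 1
  · rw [ha, hsw]; exact hb1 b
  by_cases hb : b = 1
  · rw [hb]; exact hb1 a
  by_cases hab : a = b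
  · rw [hab]; exact hself b
  have key : ∀ x y : A, x ≠ 1 → y ≠ 1 → x * y ≠ 1 → β x y = q a := by
    intro x y hx hy hxy
    have h := hadd x y
    rw [const_off_one hA hf hσ q hq hxy ha, const_off_one hA hf hσ q hq hx ha, const_off_one hA hf hσ q hq hy ha,
      hZ, one_mul] at h
    exact h.symm
  have : Nontrivial A := ⟨⟨a, 1, ha⟩⟩
  obtain ⟨c, hc⟩ : ∃ c : A, c ∉ ({1, a⁻¹, b⁻¹, (a * b)⁻¹, b⁻¹ * a⁻¹} : Set A) ∧ a * c ≠ 1 ∧ b * c ≠ 1 ∧
      a * (b * c) ≠ 1 := by
    classical
    by_contra hall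
    push Not at hall
    have hsub : (Set.univ : Set A) ⊆ {1, a⁻¹, b⁻¹, (a * b)⁻¹, b⁻¹ * a⁻¹} := by
      intro c _
      by_contra hc
      have h1 := hc
      simp only [Set.mem_insert_iff, Set.mem_singleton_iff, not_or] at h1
      refine h1.2.2.2.2 ?_
      have := hall c hc (fun e => h1.2.1 (eq_inv_of_mul_eq_one_right e))
        (fun e => h1.2.2.1 (eq_inv_of_mul_eq_one_right e))
      rw [← mul_assoc] at this
      exact absurd (eq_inv_of_mul_eq_one_right this) h1.2.2.2.1
    have := Set.ncard_le_ncard hsub (Set.toFinite _)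
    rw [Set.ncard_univ, hA] at this
    have h2 : ({1, a⁻¹, b⁻¹, (a * b)⁻¹, b⁻¹ * a⁻¹} : Set A).ncard ≤ 5 := by
      refine (Set.ncard_insert_le _ _).trans (Nat.add_le_add_right ?_ 1)
      refine (Set.ncard_insert_le _ _).trans (Nat.add_le_add_right ?_ 1)
      refine (Set.ncard_insert_le _ _).trans (Nat.add_le_add_right ?_ 1)
      refine (Set.ncard_insert_le _ _).trans (Nat.add_le_add_right ?_ 1)
      rw [Set.ncard_singleton]
    omega
  obtain ⟨hc, hac, hbc, habc⟩ := hc
  simp only [Set.mem_insert_iff, Set.mem_singleton_iff, not_or] at hc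
  by_cases hab1 : a * b = 1
  · rw [eq_inv_of_mul_eq_one_right hab1]
    have h := hbil a a a⁻¹
    rw [mul_inv_cancel, hb1, hself, one_mul] at h
    exact h.symm
  have h1 := key a c ha hc.1 hac
  have h2 := key a (b * c) ha hbc habc
  have h3 := key a b ha hb hab1
  rw [hbil, h1, h3, hZ] at h2
  rw [h3, ← h2]

end CfsgLib.Fi24Three
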