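import Cfsg.Agent.Lib.Fi24Three.Pair
import Cfsg.Agent.Lib.Fi24Three.Conj

/-!
The three conjugates of `z` permuted by the element of order three: each lies in the core of the others.
-/

set_option autoImplicit false
set_option linter.unusedSectionVars false

namespace CfsgLib.Fi24Three

open CfsgLargeExtra

universe u

variable {G : Type u} [Group G] [Finite G]

/-- The conjugate by the element of order three. -/
abbrev rot (ρ a : G) : G := ρ * a * ρ⁻¹

/-- A triangle. -/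
structure Tri (z ρ x : G) : Prop where
  pair : Pair z x
  prod : x * rot ρ x * rot ρ (rot ρ x) = 1
  comm : x * rot ρ x = rot ρ x * x
  core : rot ρ x ∈ coreCent x

namespace Setup

variable {z : G} {M : Subgroup G} {ρ : G} (S : Setup z M ρ)
include S

theorem rho_cube : ρ * ρ * ρ = 1 := by
  rw [← pow_two, ← pow_succ]
  show ρ ^ 3 = 1
  rw [← S.rho_ord, pow_orderOf_eq_one]

theorem rot3 (a : G) : rot ρ (rot ρ (rot ρ a)) = a := by
  rw [show rot ρ (rot ρ (rot ρ a)) = (ρ * ρ * ρ) * a * (ρ * ρ * ρ)⁻¹ by simp [rot, mul_assoc], S.rho_cube]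
  simp

theorem rot_z : rot ρ z = z := conj_eq_iff.mpr S.rho_z

theorem rot_mul (a b : G) : rot ρ (a * b) = rot ρ a * rot ρ b := by simp [rot, mul_assoc]

theorem rot_mem {a : G} (ha : a ∈ coreCent z) : rot ρ a ∈ coreCent z := S.nor S.rho_z ha

theorem rot_cases {a : G} (ha : a ∈ coreCent z) {c : G} (hc : c * z = z * c) (hca : c * a = a * c) :
    (c ∈ M → c * rot ρ a * c⁻¹ = rot ρ a ∨ c * rot ρ a * c⁻¹ = rot ρ a * z) ∧
    (c ∉ M → c * rot ρ a * c⁻¹ = rot ρ (rot ρ a) ∨ c * rot ρ a * c⁻¹ = rot ρ (rot ρ a) * z) := by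
  have hfix : c * a * c⁻¹ = a := conj_eq_iff.mpr hca
  constructor
  · intro hcM
    rw [show c * rot ρ a * c⁻¹ = (c * ρ * c⁻¹ * ρ⁻¹) * (ρ * (c * a * c⁻¹) * ρ⁻¹) * (c * ρ * c⁻¹ * ρ⁻¹)⁻¹ by
      simp [rot, mul_assoc], hfix]
    exact S.es.conj_cases (S.central c hcM) (S.rot_mem ha)
  · intro hcM
    have e2 : rot ρ (rot ρ a) = ρ⁻¹ * a * ρ := by
      have h := congrArg (fun t => ρ⁻¹ * t * ρ) (S.rot3 a)
      simpa [rot, mul_assoc] using h
    rw [show c * rot ρ a * c⁻¹ = (c * ρ * c⁻¹ * ρ) * (ρ⁻¹ * (c * a * c⁻¹) * ρ) * (c * ρ * c⁻¹ * ρ)⁻¹ by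
      simp [rot, mul_assoc], hfix, ← e2]
    exact S.es.conj_cases (S.invert c hc hcM) (S.rot_mem (S.rot_mem ha))

theorem exists_start : ∃ x, Pair z x ∧ x * rot ρ x * rot ρ (rot ρ x) = 1 ∧ x * rot ρ x = rot ρ x * x := by
  obtain ⟨x, hx, hxQ, hne⟩ := S.nwc
  have hP : x * rot ρ x * rot ρ (rot ρ x) = 1 ∨ x * rot ρ x * rot ρ (rot ρ x) = z := by
    set P := x * rot ρ x * rot ρ (rot ρ x) with hPdef
    have hPQ : P ∈ coreCent z := mul_mem (mul_mem hxQ (S.rot_mem hxQ)) (S.rot_mem (S.rot_mem hxQ))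
    refine S.fpf P hPQ ?_
    have e : rot ρ P = x⁻¹ * P * x⁻¹⁻¹ := by
      rw [hPdef, S.rot_mul, S.rot_mul, S.rot3, inv_inv]; simp only [rot]; group
    rcases S.es.conj_cases (inv_mem hxQ) hPQ with f | f
    · exact Or.inl (e.trans f)
    · exact Or.inr (e.trans f)
  have fin : ∀ y, Pair z y → y * rot ρ y * rot ρ (rot ρ y) = 1 →
      ∃ x, Pair z x ∧ x * rot ρ x * rot ρ (rot ρ x) = 1 ∧ x * rot ρ x = rot ρ x * x := by
    intro y hy h
    refine ⟨y, hy, h, ?_⟩
    have i1 : y⁻¹ = y := inv_eq_of_mul_eq_one_right (S.esx hy.cj).zz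
    have i2 : (rot ρ y)⁻¹ = rot ρ y := by rw [rot, mul_inv_rev, mul_inv_rev, inv_inv, i1, mul_assoc]
    have i3 : (rot ρ (rot ρ y))⁻¹ = rot ρ (rot ρ y) := by
      have hc : ∀ t : G, (ρ * t * ρ⁻¹)⁻¹ = ρ * t⁻¹ * ρ⁻¹ := fun t => by group
      exact (hc (rot ρ y)).trans (congrArg (fun t => ρ * t * ρ⁻¹) i2)
    have h' := eq_inv_of_mul_eq_one_right h
    calc y * rot ρ y = (rot ρ (rot ρ y))⁻¹ := by rw [h', inv_inv]
      _ = rot ρ (rot ρ y) := i3
      _ = (y * rot ρ y)⁻¹ := h'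
      _ = rot ρ y * y := by rw [mul_inv_rev, i1, i2]
  rcases hP with hP | hP
  · exact fin x ⟨hx, hxQ, hne⟩ hP
  · obtain ⟨q, hq, -, hqx⟩ := S.es.swap hxQ hne (S.esx hx).ne
    refine fin (x * z) ⟨hqx ▸ S.cj_conj hx q, mul_mem hxQ S.es.mem, fun e => (S.esx hx).ne (mul_eq_right.mp e)⟩ ?_
    rw [S.rot_mul, S.rot_mul, S.rot_z, S.rot_z]
    have c1 : ∀ a ∈ coreCent z, z * a = a * z := fun a ha => (S.es.comm a ha).symm
    calc x * z * (rot ρ x * z) * (rot ρ (rot ρ x) * z)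
        = x * (z * rot ρ x) * z * (rot ρ (rot ρ x) * z) := by group
      _ = x * rot ρ x * (z * z) * (rot ρ (rot ρ x) * z) := by rw [c1 _ (S.rot_mem hxQ)]; group
      _ = (x * rot ρ x * rot ρ (rot ρ x)) * z := by rw [S.zz]; group
      _ = 1 := by rw [hP, S.zz]

variable {x : G} (hp : Pair z x)
include hp

theorem rot_ne : rot ρ x ≠ x ∧ rot ρ x ≠ x * z ∧ rot ρ x ≠ z := by
  have h : ∀ e : rot ρ x = x ∨ rot ρ x = x * z, False := fun e => by
    rcases S.fpf x hp.mem e with f | f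
    exacts [(S.esx hp.cj).ne f, hp.ne f]
  refine ⟨fun e => h (Or.inl e), fun e => h (Or.inr e), fun e => hp.ne ?_⟩
  exact mul_left_cancel (mul_right_cancel (e.trans S.rot_z.symm))

theorem rot_core (hprod : x * rot ρ x * rot ρ (rot ρ x) = 1) (hcomm : x * rot ρ x = rot ρ x * x) :
    rot ρ x ∈ coreCent x := by
  obtain ⟨g, hg⟩ := hp.cj
  have S' := S.conj g
  rw [hg] at S'
  set M' := cj g M
  set r := g * ρ * g⁻¹
  set y := rot ρ x with hy
  have hxx : x * x = 1 := (S.esx hp.cj).zz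
  have hyy : y * y = 1 := (S.esx (S.cj_conj hp.cj ρ)).zz
  have hyQ : y ∈ coreCent z := S.rot_mem hp.mem
  have hzx := S.x_comm hp
  have hp' : Pair x z := ⟨⟨g⁻¹, by rw [← hg]; group⟩, S.z_mem hp, hp.ne.symm⟩
  have hyU : y ∈ U x z := mem_U.mpr ⟨hyQ, hcomm.symm⟩
  have hy2 : rot ρ y = x * y := by
    have h' := eq_inv_of_mul_eq_one_right hprod
    rw [h', mul_inv_rev, inv_eq_of_mul_eq_one_right hxx, inv_eq_of_mul_eq_one_right hyy, hcomm]
  -- the commutators with `y` of the centralizer of `z` and `x`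
  have hmv : ∀ c, c * z = z * c → c * x = x * c →
      c * y * c⁻¹ = y ∨ c * y * c⁻¹ = y * z ∨ c * y * c⁻¹ = x * y ∨ c * y * c⁻¹ = x * y * z := by
    intro c hc hcx
    by_cases hcM : c ∈ M
    · rcases (S.rot_cases hp.mem hc hcx).1 hcM with e | e
      exacts [Or.inl e, Or.inr (Or.inl e)]
    · rcases (S.rot_cases hp.mem hc hcx).2 hcM with e | e <;> rw [← hy, hy2] at e
      exacts [Or.inr (Or.inr (Or.inl e)), Or.inr (Or.inr (Or.inr e))]
  have hcomm4 : ∀ c, c * z = z * c → c * x = x * c → c * y * c⁻¹ * y⁻¹ ∈ coreCent x := by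
    intro c hc hcx
    have hyz : y * z = z * y := S.es.comm y hyQ
    rcases hmv c hc hcx with e | e | e | e <;> rw [e]
    · rw [mul_inv_cancel]; exact one_mem _
    · rw [hyz, mul_inv_cancel_right]; exact S.z_mem hp
    · rw [mul_inv_cancel_right]; exact (S.esx hp.cj).mem
    · rw [mul_assoc x y z, hyz, ← mul_assoc, mul_inv_cancel_right]
      exact mul_mem (S.esx hp.cj).mem (S.z_mem hp)
  by_cases hyM : y ∈ M'
  · exact S'.fixed_section hp' hyU hyM fun c hcx hcz _ => hcomm4 c hcz hcx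
  exfalso
  -- an element outside the subgroup of index two would move too much
  let W0 : Subgroup G :=
    { carrier := {b | b ∈ U z x ∧ (y * b * y⁻¹ = b ∨ y * b * y⁻¹ = b * x)}
      one_mem' := ⟨one_mem _, Or.inl (by simp)⟩
      mul_mem' := fun {a b} ha hb => ⟨mul_mem ha.1 hb.1, by
        rw [show y * (a * b) * y⁻¹ = (y * a * y⁻¹) * (y * b * y⁻¹) by group]
        have hxb : x * b = b * x := (S.U_comm hp.cj hb.1).symm
        rcases ha.2 with e | e <;> rcases hb.2 with f | f <;> rw [e, f]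
        · exact Or.inl rfl
        · exact Or.inr (mul_assoc a b x).symm
        · exact Or.inr (by rw [mul_assoc, hxb, ← mul_assoc])
        · exact Or.inl (by rw [mul_assoc, ← mul_assoc x, hxb, mul_assoc b, hxx, mul_one])⟩
      inv_mem' := fun {a} ha => ⟨inv_mem ha.1, by
        have hxa : x * a = a * x := (S.U_comm hp.cj ha.1).symm
        rw [show y * a⁻¹ * y⁻¹ = (y * a * y⁻¹)⁻¹ by group]
        rcases ha.2 with e | e <;> rw [e]
        · exact Or.inl rfl
        · exact Or.inr (by rw [mul_inv_rev, inv_eq_of_mul_eq_one_right hxx, (comm_inv hxa.symm).symm])⟩ }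
  have hW0U : W0 ≤ U z x := fun b hb => hb.1
  have hclass : ∀ b ∈ U z x, b ∈ W0 ∨ y * b * y⁻¹ = b * z ∨ y * b * y⁻¹ = b * z * x := by
    intro b hb
    have hbz := (mem_U.mp hb).2
    have hbx := S.U_comm hp.cj hb
    have e0 : y * b * y⁻¹ = y * (b * y⁻¹ * b⁻¹) * b := by group
    have hyz : y * z = z * y := S.es.comm y hyQ
    rcases hmv b hbz hbx with e | e | e | e
    · exact Or.inl ⟨hb, Or.inl (conj_eq_iff.mpr (conj_eq_iff.mp e).symm)⟩
    · refine Or.inr (Or.inl ?_)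
      rw [e0, show b * y⁻¹ * b⁻¹ = (b * y * b⁻¹)⁻¹ by group, e, hyz, mul_inv_rev, ← mul_assoc, mul_inv_cancel, one_mul,
        inv_eq_of_mul_eq_one_right S.zz, hbz]
    · refine Or.inl ⟨hb, Or.inr ?_⟩
      rw [e0, show b * y⁻¹ * b⁻¹ = (b * y * b⁻¹)⁻¹ by group, e, mul_inv_rev, ← mul_assoc, mul_inv_cancel, one_mul,
        inv_eq_of_mul_eq_one_right hxx, hbx]
    · refine Or.inr (Or.inr ?_)
      rw [e0, show b * y⁻¹ * b⁻¹ = (b * y * b⁻¹)⁻¹ by group, e, mul_inv_rev, mul_inv_rev,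
        inv_eq_of_mul_eq_one_right hxx, inv_eq_of_mul_eq_one_right hyy, inv_eq_of_mul_eq_one_right S.zz]
      calc y * (z * (y * x)) * b = (y * z) * y * x * b := by group
        _ = z * (y * y) * (x * b) := by rw [hyz]; group
        _ = b * z * x := by rw [hyy, hbx.symm, mul_one, ← mul_assoc, hbz]
  have hindex : 2 ^ 11 ≤ Nat.card W0 := by
    by_cases hall : ∀ b ∈ U z x, b ∈ W0
    · rw [le_antisymm hW0U hall, S.card_U hp]; norm_num
    push Not at hall
    obtain ⟨b₀, hb₀, hb₀W⟩ := hall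
    have hsum : ∀ c ∈ U z x, c ∉ W0 → c * b₀ ∈ W0 := by
      intro c hc hcW
      refine ⟨mul_mem hc hb₀, ?_⟩
      rw [show y * (c * b₀) * y⁻¹ = (y * c * y⁻¹) * (y * b₀ * y⁻¹) by group]
      have hzb : z * b₀ = b₀ * z := (mem_U.mp hb₀).2.symm
      have hxb : x * b₀ = b₀ * x := (S.U_comm hp.cj hb₀).symm
      have hA1 : c * z * (b₀ * z) = c * b₀ := by
        rw [mul_assoc, ← mul_assoc z, hzb, mul_assoc, S.zz, mul_one]
      rcases (hclass c hc).resolve_left hcW with e | e <;>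
        rcases (hclass b₀ hb₀).resolve_left hb₀W with f | f <;> rw [e, f]
      · exact Or.inl hA1
      · exact Or.inr (by rw [← mul_assoc (c * z), hA1])
      · refine Or.inr ?_
        calc c * z * x * (b₀ * z) = c * z * ((x * b₀) * z) := by group
          _ = c * z * (b₀ * (x * z)) := by rw [hxb]; group
          _ = c * z * (b₀ * z) * x := by rw [hzx]; group
          _ = c * b₀ * x := by rw [hA1]
      · refine Or.inl ?_
        calc c * z * x * (b₀ * z * x) = c * z * ((x * b₀) * z) * x := by group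
          _ = c * z * (b₀ * (x * z)) * x := by rw [hxb]; group
          _ = c * z * (b₀ * z) * (x * x) := by rw [hzx]; group
          _ = c * b₀ := by rw [hA1, hxx, mul_one]
    have h1 : (W0.subgroupOf (U z x)).index = 2 := by
      refine Subgroup.index_eq_two_iff.mpr ⟨⟨b₀, hb₀⟩, fun c => ?_⟩
      show Xor ((c : G) * b₀ ∈ W0) ((c : G) ∈ W0)
      by_cases hc : (c : G) ∈ W0
      · exact Or.inr ⟨hc, fun h => hb₀W (by simpa using mul_mem (inv_mem hc) h)⟩
      · exact Or.inl ⟨hsum c c.2 hc, hc⟩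
    have h2 := Subgroup.card_mul_index (W0.subgroupOf (U z x))
    rw [h1, S.card_U hp, Nat.card_congr (Subgroup.subgroupOfEquivOfLe hW0U).toEquiv] at h2
    omega
  have hrx : r * x = x * r := S'.rho_z
  have hyxQ : ∀ b ∈ W0, r * b * r⁻¹ ∈ W0 → b = 1 ∨ b = x := by
    intro b hb hrb
    have hbQ : b ∈ coreCent x := (mem_U.mp hb.1).1
    have hrbQ : r * b * r⁻¹ ∈ coreCent x := S'.nor hrx hbQ
    have hinv : y * r * y⁻¹ * r ∈ coreCent x := S'.invert y hcomm.symm hyM
    set k := y * r * y⁻¹ * r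
    have eq1 : y * (r * b * r⁻¹) * y⁻¹ = k * (r⁻¹ * (y * b * y⁻¹) * r) * k⁻¹ := by simp [k, mul_assoc]
    have hr2Q : r⁻¹ * b * r ∈ coreCent x := by
      have := S'.nor (comm_inv hrx) hbQ
      rwa [inv_inv] at this
    have hxr : r⁻¹ * x * r = x := by rw [comm_inv hrx, mul_assoc, inv_mul_cancel, mul_one]
    have hk1 : k * (r⁻¹ * (y * b * y⁻¹) * r) * k⁻¹ = r⁻¹ * b * r ∨
        k * (r⁻¹ * (y * b * y⁻¹) * r) * k⁻¹ = r⁻¹ * b * r * x := by
      rcases hb.2 with e | e <;> rw [e]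
      · exact S'.es.conj_cases hinv hr2Q
      · rw [show r⁻¹ * (b * x) * r = r⁻¹ * b * r * (r⁻¹ * x * r) by group, hxr]
        rcases S'.es.conj_cases hinv hr2Q with f | f
        · right
          calc k * (r⁻¹ * b * r * x) * k⁻¹ = (k * (r⁻¹ * b * r) * k⁻¹) * (k * x * k⁻¹) := by group
            _ = r⁻¹ * b * r * x := by rw [f, S'.es.comm k hinv, mul_inv_cancel_right]
        · left
          calc k * (r⁻¹ * b * r * x) * k⁻¹ = (k * (r⁻¹ * b * r) * k⁻¹) * (k * x * k⁻¹) := by group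
            _ = r⁻¹ * b * r * (x * x) := by rw [f, S'.es.comm k hinv, mul_inv_cancel_right]; group
            _ = r⁻¹ * b * r := by rw [hxx, mul_one]
    have h3 : r * b * r⁻¹ = r⁻¹ * b * r ∨ r * b * r⁻¹ = r⁻¹ * b * r * x := by
      rcases hrb.2 with e | e <;> rw [eq1] at e <;> rcases hk1 with f | f <;> rw [f] at e
      · exact Or.inl e.symm
      · exact Or.inr e.symm
      · exact Or.inr (by rw [e, mul_assoc _ x x, hxx, mul_one])
      · exact Or.inl (mul_right_cancel e).symm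
    have hr3 : r * r * r = 1 := S'.rho_cube
    have hri : r⁻¹ = r * r := inv_eq_of_mul_eq_one_right (by rw [← mul_assoc, hr3])
    have hsq : ∀ t : G, r * (r * t * r⁻¹) * r⁻¹ = r⁻¹ * t * r := fun t => by
      calc r * (r * t * r⁻¹) * r⁻¹ = (r * r) * t * (r * r)⁻¹ := by group
        _ = r⁻¹ * t * r := by rw [← hri, inv_inv]
    refine S'.fpf b hbQ (Or.inl ?_)
    rcases h3 with e | e
    · have h : r⁻¹ * b * r = b := by
        rw [← hsq b, e]; group
      exact e.trans h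
    · have h : r⁻¹ * b * r = b * x := by
        rw [← hsq b, e, show r * (r⁻¹ * b * r * x) * r⁻¹ = b * (r * x * r⁻¹) by group, hrx, mul_inv_cancel_right]
      rw [e, h, mul_assoc, hxx, mul_one]
  let W1 := W0 ⊓ cj r⁻¹ W0
  have hW1 : W1 ≤ fourGroup x z hxx S.zz hzx := fun b hb => by
    have hb' : r * b * r⁻¹ ∈ W0 := by simpa [inv_inv] using mem_cj.mp hb.2
    rcases hyxQ b hb.1 hb' with e | e
    exacts [Or.inl e, Or.inr (Or.inl e)]
  have hsup : W0 ⊔ cj r⁻¹ W0 ≤ coreCent x := sup_le (fun b hb => (mem_U.mp hb.1).1) fun b hb => by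
    have hb' : r * b * r⁻¹ ∈ W0 := by simpa [inv_inv] using mem_cj.mp hb
    have := S'.nor (comm_inv hrx) (mem_U.mp hb'.1).1
    simpa [mul_assoc] using this
  have hcard4 : Nat.card ↥(fourGroup x z hxx S.zz hzx) ≤ 4 := by
    rw [← SetLike.coe_sort_coe, Nat.card_coe_set_eq]
    refine (Set.ncard_le_ncard (t := ({1, x, z, x * z} : Set G)) (fun a ha => ha) (Set.toFinite _)).trans ?_
    refine (Set.ncard_insert_le _ _).trans (Nat.add_le_add_right ?_ 1)
    refine (Set.ncard_insert_le _ _).trans (Nat.add_le_add_right ?_ 1)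
    refine (Set.ncard_insert_le _ _).trans (Nat.add_le_add_right ?_ 1)
    rw [Set.ncard_singleton]
  have hn : cj r⁻¹ W0 ≤ Subgroup.normalizer (W0 : Set G) := by
    refine le_norm fun a ha b hb => ?_
    have haQ : a ∈ coreCent x := hsup (Subgroup.mem_sup_right ha)
    have hxW0 : x ∈ W0 := ⟨mem_U.mpr ⟨S'.es.mem, hzx⟩, Or.inl (conj_eq_iff.mpr hcomm.symm)⟩
    rcases S'.es.conj_cases haQ (mem_U.mp hb.1).1 with e | e <;> rw [e]
    exacts [hb, mul_mem hb hxW0]
  have h := CfsgLib.CentrallyLarge.card_sup_mul_card_inf hn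
  have h1 := Subgroup.card_le_of_le hsup
  have h2 := (Subgroup.card_le_of_le hW1).trans hcard4
  rw [S'.card_Q] at h1
  rw [show Nat.card (cj r⁻¹ W0) = Nat.card W0 from Subgroup.card_map_of_injective (MulAut.conj r⁻¹).injective] at h
  change Nat.card ↥(W0 ⊔ cj r⁻¹ W0) * Nat.card ↥W1 = _ at h
  have := Nat.mul_le_mul h1 h2
  have := Nat.mul_le_mul hindex hindex
  omega

omit hp in
theorem exists_tri : ∃ x, Tri z ρ x := by
  obtain ⟨x, hp, h1, h2⟩ := S.exists_start
  exact ⟨x, hp, h1, h2, S.rot_core hp h1 h2⟩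

end Setup

end CfsgLib.Fi24Three
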