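import Cfsg.Agent.Lib.Fi24Three.Triangle

/-!
The eight-group `⟨z, x, y⟩` of a triangle: all its involutions are conjugates of `z`, mutually contained in cores.
-/

set_option autoImplicit false
set_option linter.unusedSectionVars false

namespace CfsgLib.Fi24Three

open CfsgLargeExtra

universe u

variable {G : Type u} [Group G] [Finite G]

/-- The eight-group. -/
def vee (z ρ x : G) : Subgroup G := Subgroup.closure {z, x, rot ρ x}

theorem z_mem_vee {z ρ x : G} : z ∈ vee z ρ x := Subgroup.subset_closure (by simp)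
theorem x_mem_vee {z ρ x : G} : x ∈ vee z ρ x := Subgroup.subset_closure (by simp)
theorem y_mem_vee {z ρ x : G} : rot ρ x ∈ vee z ρ x := Subgroup.subset_closure (by simp)

namespace Setup

variable {z : G} {M : Subgroup G} {ρ : G} (S : Setup z M ρ) {x : G} (T : Tri z ρ x)
include S T

theorem y_mem : rot ρ x ∈ coreCent z := S.rot_mem T.pair.mem

theorem y_cj : Cj z (rot ρ x) := S.cj_conj T.pair.cj ρ

theorem xx : x * x = 1 := (S.esx T.pair.cj).zz

theorem yy : rot ρ x * rot ρ x = 1 := (S.esx (S.y_cj T)).zz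

theorem xy_eq : rot ρ (rot ρ x) = x * rot ρ x := by
  rw [eq_inv_of_mul_eq_one_right T.prod, mul_inv_rev, inv_eq_of_mul_eq_one_right (S.xx T),
    inv_eq_of_mul_eq_one_right (S.yy T), T.comm]

theorem mem_vee {a : G} : a ∈ vee z ρ x ↔ ∃ b, (b = 1 ∨ b = x ∨ b = rot ρ x ∨ b = x * rot ρ x) ∧ (a = b ∨ a = b * z) := by
  let F := fourGroup x (rot ρ x) (S.xx T) (S.yy T) T.comm
  have hFQ : F ≤ coreCent z := by
    rintro b (rfl | rfl | rfl | rfl)
    exacts [one_mem _, T.pair.mem, S.y_mem T, mul_mem T.pair.mem (S.y_mem T)]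
  let W : Subgroup G :=
    { carrier := {a | ∃ b ∈ F, a = b ∨ a = b * z}
      one_mem' := ⟨1, one_mem _, Or.inl rfl⟩
      mul_mem' := by
        rintro a a' ⟨b, hb, e⟩ ⟨b', hb', e'⟩
        refine ⟨b * b', mul_mem hb hb', ?_⟩
        have hz : z * b' = b' * z := (S.es.comm b' (hFQ hb')).symm
        rcases e with rfl | rfl <;> rcases e' with rfl | rfl
        · exact Or.inl rfl
        · exact Or.inr (mul_assoc _ _ _).symm
        · exact Or.inr (by rw [mul_assoc, hz, ← mul_assoc])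
        · exact Or.inl (by rw [mul_assoc, ← mul_assoc z, hz, mul_assoc b', S.zz, mul_one])
      inv_mem' := by
        rintro a ⟨b, hb, e⟩
        refine ⟨b⁻¹, inv_mem hb, ?_⟩
        rcases e with rfl | rfl
        · exact Or.inl rfl
        · exact Or.inr (by rw [mul_inv_rev, inv_eq_of_mul_eq_one_right S.zz,
            (S.es.comm _ (hFQ (inv_mem hb))).symm]) }
  constructor
  · intro ha
    exact (Subgroup.closure_le W).mpr (by
      rintro c (rfl | rfl | rfl)
      exacts [⟨1, one_mem _, Or.inr (one_mul _).symm⟩, ⟨_, Or.inr (Or.inl rfl), Or.inl rfl⟩,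
        ⟨_, Or.inr (Or.inr (Or.inl rfl)), Or.inl rfl⟩]) ha
  · rintro ⟨b, hb, e⟩
    have hb' : b ∈ vee z ρ x := by
      rcases hb with rfl | rfl | rfl | rfl
      exacts [one_mem _, x_mem_vee, y_mem_vee, mul_mem x_mem_vee y_mem_vee]
    rcases e with rfl | rfl
    exacts [hb', mul_mem hb' z_mem_vee]

theorem vee_cases {a : G} (ha : a ∈ vee z ρ x) (h1 : a ≠ 1) :
    a = z ∨ ∃ b, (b = x ∨ b = rot ρ x ∨ b = rot ρ (rot ρ x)) ∧ (a = b ∨ a = b * z) := by
  obtain ⟨b, hb, e⟩ := (S.mem_vee T).mp ha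
  rcases hb with rfl | hb
  · rcases e with rfl | rfl
    · exact absurd rfl h1
    · exact Or.inl (one_mul z)
  · exact Or.inr ⟨b, by rwa [S.xy_eq T], e⟩

theorem vee_le_Q : vee z ρ x ≤ coreCent z :=
  (Subgroup.closure_le _).mpr (by
    rintro c (rfl | rfl | rfl)
    exacts [S.es.mem, T.pair.mem, S.y_mem T])

theorem rot_vee {a : G} (ha : a ∈ vee z ρ x) : rot ρ a ∈ vee z ρ x := by
  induction ha using Subgroup.closure_induction with
  | mem c hc =>
    rcases hc with rfl | rfl | rfl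
    · rw [S.rot_z]; exact z_mem_vee
    · exact y_mem_vee
    · rw [S.xy_eq T]; exact mul_mem x_mem_vee y_mem_vee
  | one => simp [rot]
  | mul a b _ _ iha ihb => rw [S.rot_mul]; exact mul_mem iha ihb
  | inv a _ iha =>
    rw [show rot ρ a⁻¹ = (rot ρ a)⁻¹ by simp [rot, mul_assoc]]; exact inv_mem iha

theorem rot_vee' {a : G} (ha : a ∈ vee z ρ x) : ρ⁻¹ * a * ρ ∈ vee z ρ x := by
  have h := S.rot_vee T (S.rot_vee T ha)
  have e : ρ⁻¹ = ρ * ρ := inv_eq_of_mul_eq_one_right (by rw [← mul_assoc, S.rho_cube])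
  rw [show ρ⁻¹ * a * ρ = ρ⁻¹ * a * ρ⁻¹⁻¹ by rw [inv_inv], e, mul_inv_rev]
  simpa [rot, mul_assoc] using h

theorem vee_le_x : vee z ρ x ≤ coreCent x :=
  (Subgroup.closure_le _).mpr (by
    rintro c (rfl | rfl | rfl)
    exacts [S.z_mem T.pair, (S.esx T.pair.cj).mem, T.core])

theorem vee_le_rot {b : G} (h : vee z ρ x ≤ coreCent b) : vee z ρ x ≤ coreCent (rot ρ b) := fun a ha => by
  rw [show a = ρ * (ρ⁻¹ * a * ρ) * ρ⁻¹ by group]
  exact conj_mem_core.mpr (h (S.rot_vee' T ha))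

/-- Every involution of the eight-group is a conjugate of `z` whose core contains the group. -/
theorem vee_point {a : G} (ha : a ∈ vee z ρ x) (h1 : a ≠ 1) : Cj z a ∧ vee z ρ x ≤ coreCent a := by
  rcases S.vee_cases T ha h1 with rfl | ⟨b, hb, e⟩
  · exact ⟨S.cj_self, S.vee_le_Q T⟩
  have hb' : Cj z b ∧ vee z ρ x ≤ coreCent b ∧ b ∈ coreCent z ∧ b ≠ z := by
    have hy := S.vee_le_rot T (S.vee_le_x T)
    have hne : ∀ c, c ≠ z → rot ρ c ≠ z := fun c hc e =>
      hc (mul_left_cancel (mul_right_cancel (e.trans S.rot_z.symm)))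
    rcases hb with rfl | rfl | rfl
    · exact ⟨T.pair.cj, S.vee_le_x T, T.pair.mem, T.pair.ne⟩
    · exact ⟨S.y_cj T, hy, S.y_mem T, hne _ T.pair.ne⟩
    · exact ⟨S.cj_conj (S.y_cj T) ρ, S.vee_le_rot T hy, S.rot_mem (S.y_mem T), hne _ (hne _ T.pair.ne)⟩
  rcases e with rfl | rfl
  · exact ⟨hb'.1, hb'.2.1⟩
  obtain ⟨q, hq, -, hqb⟩ := S.es.swap hb'.2.2.1 hb'.2.2.2 (S.ne_one hb'.1)
  refine ⟨hqb ▸ S.cj_conj hb'.1 q, fun c hc => ?_⟩
  rw [← hqb, show c = q * (q⁻¹ * c * q) * q⁻¹ by group]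
  refine conj_mem_core.mpr (hb'.2.1 ?_)
  rcases S.es.conj_cases (inv_mem hq) (S.vee_le_Q T hc) with f | f <;> rw [inv_inv] at f <;> rw [f]
  exacts [hc, mul_mem hc z_mem_vee]

theorem vee_sq {a : G} (ha : a ∈ vee z ρ x) : a * a = 1 := by
  by_cases h : a = 1
  · simp [h]
  · exact (S.esx (S.vee_point T ha h).1).zz

theorem singular : Singular coreCent z (vee z ρ x) where
  hQ _ := rfl
  hz := S.hz
  hE := S.hE
  hC c hc := by
    rcases S.es.cen c (mem_cent_set.mp hc) with e | e <;> rw [e]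
    exacts [one_mem _, S.es.mem]
  hU2 _ ha := S.vee_sq T ha
  hS _ ha h := (S.vee_point T ha h).1
  hO _ ha _ hb h _ := (S.vee_point T ha h).2 hb

theorem vee_comm {a b : G} (ha : a ∈ vee z ρ x) (hb : b ∈ vee z ρ x) : a * b = b * a :=
  ((S.singular T).comm ha hb).symm

theorem card_vee : Nat.card (vee z ρ x) = 8 := by
  classical
  set y := rot ρ x with hy
  obtain ⟨hyx, hyxz, hyz⟩ := S.rot_ne T.pair
  have hx1 := S.ne_one T.pair.cj
  have hy1 := S.ne_one (S.y_cj T)
  have hxz := T.pair.ne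
  have hz1 := S.es.ne
  have e1 : x * y ≠ 1 := fun e => hyx ((eq_inv_of_mul_eq_one_right e).trans (inv_eq_of_mul_eq_one_right (S.xx T)))
  have e2 : x * y ≠ z := fun e => hyxz (by rw [← e, ← mul_assoc, S.xx T, one_mul])
  have hmap : ∀ i : Fin 4 × Fin 2, ![1, x, y, x * y] i.1 * ![1, z] i.2 ∈ vee z ρ x := by
    intro i
    refine mul_mem ?_ ?_
    · rcases i with ⟨i, j⟩
      fin_cases i
      exacts [one_mem _, x_mem_vee, y_mem_vee, mul_mem x_mem_vee y_mem_vee]
    · rcases i with ⟨i, j⟩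
      fin_cases j
      exacts [one_mem _, z_mem_vee]
  let f : Fin 4 × Fin 2 → vee z ρ x := fun i => ⟨_, hmap i⟩
  have hsurj : Function.Surjective f := by
    rintro ⟨a, ha⟩
    obtain ⟨b, hb, e⟩ := (S.mem_vee T).mp ha
    rcases hb with rfl | rfl | rfl | rfl <;> rcases e with rfl | rfl
    exacts [⟨(0, 0), Subtype.ext (mul_one _)⟩, ⟨(0, 1), rfl⟩, ⟨(1, 0), Subtype.ext (mul_one _)⟩, ⟨(1, 1), rfl⟩,
      ⟨(2, 0), Subtype.ext (mul_one _)⟩, ⟨(2, 1), rfl⟩, ⟨(3, 0), Subtype.ext (mul_one _)⟩, ⟨(3, 1), rfl⟩]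
  have hinj : Function.Injective f := by
    -- the fibre over the identity is a single point
    have key : ∀ i : Fin 4 × Fin 2, (f i : G) = 1 → i = (0, 0) := by
      rintro ⟨i, j⟩ h
      have hinv : ∀ b, b * z = 1 → b = z := fun b e =>
        (eq_inv_of_mul_eq_one_left e).trans (inv_eq_of_mul_eq_one_right S.zz)
      fin_cases i <;> fin_cases j <;> simp [f] at h ⊢
      exacts [hz1 h, hx1 h, hxz (hinv _ h), hy1 h, hyz (hinv _ h), e1 h, e2 (hinv _ h)]
    intro i j h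
    have h' : (f i : G) * (f j : G) = 1 := by rw [h]; exact S.vee_sq T (f j).2
    obtain ⟨a, b⟩ := i
    obtain ⟨c, d⟩ := j
    have hxz' : x * z = z * x := S.x_comm T.pair
    have hyz' : y * z = z * y := S.es.comm y (S.y_mem T)
    obtain ⟨k, hk⟩ := hsurj ⟨_, mul_mem (f (a, b)).2 (f (c, d)).2⟩
    have hk' : (f k : G) = (f (a, b) : G) * f (c, d) := congrArg Subtype.val hk
    rw [h'] at hk'
    have := key k hk'
    -- products of representatives
    have hsum : ∀ (p q : Fin 4) (r s : Fin 2), ∃ k : Fin 4 × Fin 2, (f k : G) = f (p, r) * f (q, s) ∧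
        (k = (0, 0) → p = q ∧ r = s) := by
      intro p q r s
      have A : ∀ t, x * (x * t) = t := fun t => by rw [← mul_assoc, S.xx T, one_mul]
      have B : ∀ t, y * (y * t) = t := fun t => by rw [← mul_assoc, S.yy T, one_mul]
      have C : ∀ t, y * (x * t) = x * (y * t) := fun t => by rw [← mul_assoc, ← T.comm, mul_assoc]
      have D : ∀ t, z * (z * t) = t := fun t => by rw [← mul_assoc, S.zz, one_mul]
      have E : ∀ t, z * (x * t) = x * (z * t) := fun t => by rw [← mul_assoc, ← hxz', mul_assoc]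
      have F : ∀ t, z * (y * t) = y * (z * t) := fun t => by rw [← mul_assoc, ← hyz', mul_assoc]
      have hyy : y * y = 1 := S.yy T
      have hyx' : y * x = x * y := T.comm.symm
      refine ⟨(![![0, 1, 2, 3], ![1, 0, 3, 2], ![2, 3, 0, 1], ![3, 2, 1, 0]] p q, ![![0, 1], ![1, 0]] r s), ?_, ?_⟩
      · fin_cases p <;> fin_cases q <;> fin_cases r <;> fin_cases s <;>
          simp [f, mul_assoc, A, B, C, E, F, S.xx T, hyy, hyx', S.zz, hxz'.symm, hyz'.symm]
      · revert p q r s; decide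
    obtain ⟨k', hk1, hk2⟩ := hsum a c b d
    obtain ⟨h3, h4⟩ := hk2 (key k' (hk1.trans h'))
    rw [h3, h4]
  rw [← Nat.card_eq_of_bijective f ⟨hinj, hsurj⟩]
  simp

end Setup

end CfsgLib.Fi24Three
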